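import Mathlib
import Cfsg.Agent.H849.OZ.Bad_m3
import Cfsg.Agent.H695.OneZero.KConst
import Cfsg.Agent.Characters.Core
import Cfsg.Agent.Characters.Linear
import Cfsg.Agent.H477.HC.Levi
import Cfsg.Agent.H279.OZ.Kaw
import Cfsg.Agent.Nodes.WittInst
import Cfsg.Agent.H477.HC.Arith_m3
import Cfsg.Agent.S0245
import Cfsg.Agent.S0246
import Cfsg.Agent.S0292
import Cfsg.Agent.H769.OZ.Levi
import Cfsg.Agent.TitsThree.KInstSp
import Cfsg.Agent.Nodes.WittU
import Cfsg.Agent.H277.ClsPsp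
import Cfsg.Agent.H332.PQ.PspData
import Cfsg.Agent.FastGrp
import Cfsg.Agent.Prune
set_option linter.all false

section
prune_inst 0x7fdcebf8aba801dfdfbf7e3fa69ccdfc10808fffa4dff943ffe06b9f8bdf130209c5638509e010fe0ed6401410a87843f97eeeffe26bd87ffffd1ff41ffbee4fe5f7b508119488340f3c0ffe03f0778e6f3ffffffffffffffffffff7ffffffbeffbff3fefffd

-- part: H732/VZ/KC
section
set_option linter.all false
open scoped Cfsg.Agent.FastGrp

/-!
# `Cong p r k G` from a cyclic Sylow subgroup `R` with `C_G(R) = T × K`, `K` perfect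

* `ne_zero_of_not_isConj` : if `z` is not conjugate to some `z ^ m` then the zeros of a character with exactly one
  class of zeros have no `r`-part `z`;
* `cong_kc` : the congruence.
-/

set_option autoImplicit false

namespace Cfsg.Agent.H732.VZ

open Cfsg Cfsg.Agent.Characters Cfsg.Agent.H686.CharKit Cfsg.Agent.H631.Kaw Cfsg.Agent.H730.OZ Finset

universe u

variable {G : Type u} [Group G] [Finite G]

omit [Finite G] in
/-- Taking `r`-parts in a conjugacy. -/
theorem isConj_part {r : ℕ} {z z' k k' : G} (hz : Commute z k) (hz' : Commute z' k')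
    (hr1 : z ^ r = 1) (hr1' : z' ^ r = 1) {n : ℕ} (hn : k ^ n = 1) (hn' : k' ^ n = 1)
    (hcop : Nat.Coprime r n) (h : IsConj (z * k) (z' * k')) : IsConj z z' := by
  obtain ⟨t, ht1, ht2⟩ := Nat.chineseRemainder hcop 1 0
  obtain ⟨c, hc⟩ := isConj_iff.1 h
  have e1 : (z * k) ^ t = z := by
    rw [hz.mul_pow]
    have a1 : z ^ t = z := by
      conv_rhs => rw [← pow_one z]
      exact pow_eq_pow_iff_modEq.2 (ht1.of_dvd (orderOf_dvd_of_pow_eq_one hr1))
    have a2 : k ^ t = 1 := by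
      rw [← orderOf_dvd_iff_pow_eq_one]
      exact (orderOf_dvd_of_pow_eq_one hn).trans ((Nat.modEq_zero_iff_dvd).1 ht2)
    rw [a1, a2, mul_one]
  have e2 : (z' * k') ^ t = z' := by
    rw [hz'.mul_pow]
    have a1 : z' ^ t = z' := by
      conv_rhs => rw [← pow_one z']
      exact pow_eq_pow_iff_modEq.2 (ht1.of_dvd (orderOf_dvd_of_pow_eq_one hr1'))
    have a2 : k' ^ t = 1 := by
      rw [← orderOf_dvd_iff_pow_eq_one]
      exact (orderOf_dvd_of_pow_eq_one hn').trans ((Nat.modEq_zero_iff_dvd).1 ht2)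
    rw [a1, a2, mul_one]
  refine isConj_iff.2 ⟨c, ?_⟩
  calc c * z * c⁻¹ = c * (z * k) ^ t * c⁻¹ := by rw [e1]
    _ = (c * (z * k) * c⁻¹) ^ t := by rw [conj_pow]
    _ = z' := by rw [hc, e2]

/-- Zeros and `r`-parts. -/
theorem ne_zero_of_not_isConj {χ : IrrCharacter G} {x : G} (h : One χ x) {r : ℕ} (hr : r.Prime)
    {z : G} (hz : orderOf z = r) {m : ℕ} (hm : ¬ r ∣ m) (hnc : ¬ IsConj z (z ^ m)) {k : G}
    (hzk : Commute z k) (hk : ¬ r ∣ orderOf k) : (χ : G → ℂ) (z * k) ≠ 0 := by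
  intro h0
  have hcop : Nat.Coprime r (orderOf k) := (Nat.Prime.coprime_iff_not_dvd hr).2 hk
  -- an exponent `≡ m mod r`, `≡ 1 mod o(k)`
  obtain ⟨j, hj1, hj2⟩ := Nat.chineseRemainder hcop m 1
  have hN : r * orderOf k ∣ Nat.card G :=
    Nat.Coprime.mul_dvd_of_dvd_of_dvd hcop (hz ▸ orderOf_dvd_natCard z) (orderOf_dvd_natCard k)
  have hjc : j.Coprime (r * orderOf k) := by
    refine Nat.Coprime.mul_right ?_ ?_
    · refine ((Nat.Prime.coprime_iff_not_dvd hr).2 fun hd => hm ?_).symm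
      exact (hj1.dvd_iff (dvd_refl r)).1 hd
    · have := hj2.gcd_eq
      rw [Nat.Coprime, this, Nat.gcd_one_left]
  have hNe : NeZero (Nat.card G) := ⟨Nat.card_pos.ne'⟩
  obtain ⟨u, hu⟩ := ZMod.unitsMap_surjective hN (ZMod.unitOfCoprime j hjc)
  set t := (u : ZMod (Nat.card G)).val with ht
  have htc : t.Coprime (Nat.card G) := ZMod.val_coe_unit_coprime u
  have htj : t ≡ j [MOD r * orderOf k] := by
    rw [← ZMod.natCast_eq_natCast_iff]
    have h1 := congrArg (fun v : (ZMod (r * orderOf k))ˣ => (v : ZMod (r * orderOf k))) hu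
    simp only [ZMod.unitsMap_val, ZMod.coe_unitOfCoprime] at h1
    rw [← h1, ht, ZMod.natCast_val]
  -- the Galois conjugate
  obtain ⟨σ, hσ⟩ := GaloisBasic.exists_ringEquiv_of_coprime (G := G) htc
  have h1 : (χ : G → ℂ) ((z * k) ^ t) = 0 := by
    rw [← hσ _ (Core.isIrr_isCharacter χ.2), h0, map_zero]
  have h2 : (z * k) ^ t = z ^ m * k := by
    rw [hzk.mul_pow]
    have a1 : z ^ t = z ^ m := by
      rw [pow_eq_pow_iff_modEq, hz]
      exact (htj.of_dvd (Dvd.intro _ rfl)).trans hj1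
    have a2 : k ^ t = k := by
      conv_rhs => rw [← pow_one k]
      rw [pow_eq_pow_iff_modEq]
      exact (htj.of_dvd (Dvd.intro_left _ rfl)).trans hj2
    rw [a1, a2]
  rw [h2] at h1
  have h3 : IsConj (z * k) (z ^ m * k) := (h.uniq _ h0).symm.trans (h.uniq _ h1)
  refine hnc (isConj_part (r := r) hzk (hzk.pow_left m) (by rw [← hz, pow_orderOf_eq_one]) ?_
    (pow_orderOf_eq_one k) (pow_orderOf_eq_one k) hcop h3)
  rw [← pow_mul, mul_comm, pow_mul, ← hz, pow_orderOf_eq_one, one_pow]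

end Cfsg.Agent.H732.VZ
end

-- part: H279/OZ/KOne
section
prune_inst 0x4030044a8002040018009411201e5292000422004b8000c1000600068a1c6229810e6180a00b121a3a08450031004811100080024000000400040041190080808014001000010802000f001080000000000000000000000000000000041004000000002
set_option linter.all false
open scoped Cfsg.Agent.FastGrp

-- part: H279/OZ/Act
section
/-!
# Zeros of characters from the constituents on a normal subgroup (helper279, S4842)

`N ⊴ G`, `ψ` a character of `G`, `l ∈ G`.  If for every constituent `φ` of `ψ|_N` either `l` moves `φ`, or `l = t k`,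
`t` centralizes `N`, `k ∈ N`, `φ k = 0`, then `ψ l = 0` (`eq_zero_of_constituents`).
-/

set_option autoImplicit false

open scoped ComplexConjugate
open Cfsg Representation Module Cfsg.Agent.Characters Cfsg.Agent.Characters.Core

namespace Cfsg.Agent.H279.OZ

universe u v

section act

variable {K : Type u} [Group K] [Fintype K]

/-- the operator `∑ a(k) ρ(k⁻¹)` -/
noncomputable def act {V : Type*} [AddCommGroup V] [Module ℂ V] (a : K → ℂ) (ρ : Representation ℂ K V) :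
    Module.End ℂ V := ∑ k : K, a k • ρ k⁻¹

theorem act_sub {V : Type*} [AddCommGroup V] [Module ℂ V] {ρ : Representation ℂ K V} (a : K → ℂ)
    (U : Subrepresentation ρ) (x : U.toSubmodule) :
    ((act a U.toRepresentation x : U.toSubmodule) : V) = act a ρ (x : V) := by
  simp only [act, LinearMap.sum_apply, LinearMap.smul_apply, Submodule.coe_sum, Submodule.coe_smul]
  rfl

/-- a product of two such operators vanishing on the irreducible representations vanishes on all -/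
theorem act_mul_act_eq_zero {a b : K → ℂ}
    (h : ∀ (W : Type v) [AddCommGroup W] [Module ℂ W] [FiniteDimensional ℂ W] (σ : Representation ℂ K W),
      σ.IsIrreducible → act a σ * act b σ = 0)
    (V : Type v) [AddCommGroup V] [Module ℂ V] [FiniteDimensional ℂ V] (ρ : Representation ℂ K V) :
    act a ρ * act b ρ = 0 := by
  refine rep_induction (P := fun V _ _ ρ => act a ρ * act b ρ = 0) ?_ ?_ V ρ
  · intro V _ _ ρ hV
    ext x
    exact Subsingleton.elim _ _
  · intro V _ _ _ ρ U U' hUU' hU hU'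
    have hU0 := h _ U.toRepresentation hU
    ext x
    obtain ⟨y, hy, z, hz, rfl⟩ : ∃ y ∈ U.toSubmodule, ∃ z ∈ U'.toSubmodule, y + z = x := by
      rw [← Submodule.mem_sup, hUU'.sup_eq_top]
      trivial
    have e1 := congrArg (fun T => ((T ⟨y, hy⟩ : U.toSubmodule) : V)) hU0
    have e2 := congrArg (fun T => ((T ⟨z, hz⟩ : U'.toSubmodule) : V)) hU'
    simp only [Module.End.mul_apply, LinearMap.zero_apply, Submodule.coe_zero, act_sub] at e1 e2
    rw [map_add, Module.End.mul_apply, Module.End.mul_apply, LinearMap.zero_apply, e1, e2, add_zero]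

/-- an irreducible character acts as zero on the representations without this constituent -/
theorem act_eq_zero_of_irr {f : K → ℂ} (hf : IsClassFunction K f) {W : Type*} [AddCommGroup W] [Module ℂ W]
    [FiniteDimensional ℂ W] (σ : Representation ℂ K W) (hσ : σ.IsIrreducible)
    (h : classInner f σ.character = 0) : act f σ = 0 := by
  obtain ⟨c, hc⟩ := exists_sum_smul_rho_inv_eq_smul_one hf σ hσ
  have hirr := isIrrCharacter_of_rep σ hσ
  have htr := congrArg (LinearMap.trace ℂ W) hc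
  rw [map_sum, map_smul, LinearMap.trace_one] at htr
  rw [classInner_def, mul_eq_zero] at h
  have h2 := h.resolve_left (inv_ne_zero card_ne_zero_complex)
  have h3 : ∑ g : K, LinearMap.trace ℂ W (f g • σ g⁻¹) = 0 := by
    rw [← h2]
    refine Finset.sum_congr rfl fun g _ => ?_
    rw [map_smul, ← isCharacter_apply_inv (isIrr_isCharacter hirr) g]
    rfl
  rw [h3] at htr
  have h4 : (finrank ℂ W : ℂ) ≠ 0 := by
    have := isIrr_apply_one_ne_zero hirr
    rwa [char_one] at this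
  have h5 : c = 0 := by
    rw [smul_eq_mul] at htr
    exact (mul_eq_zero.mp htr.symm).resolve_right h4
  rw [act, hc, h5, zero_smul]

theorem act_eq_zero {f : K → ℂ} (hf : IsIrrCharacter K f) (V : Type v) [AddCommGroup V] [Module ℂ V]
    [FiniteDimensional ℂ V] (ρ : Representation ℂ K V) (h : classInner ρ.character f = 0) : act f ρ = 0 := by
  revert h
  refine rep_induction (P := fun V _ _ ρ => classInner ρ.character f = 0 → act f ρ = 0) ?_ ?_ V ρ
  · intro V _ _ ρ hV _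
    ext x
    exact Subsingleton.elim _ _
  · intro V _ _ _ ρ U U' hUU' hU hU' h
    rw [character_eq_add_of_isCompl U U' hUU', classInner_add_left] at h
    obtain ⟨m, hm⟩ := classInner_isNat (isCharacter_of_rep U.toRepresentation) (isIrr_isCharacter hf)
    obtain ⟨n, hn⟩ := classInner_isNat (isCharacter_of_rep U'.toRepresentation) (isIrr_isCharacter hf)
    rw [hm, hn] at h
    have h1 : m + n = 0 := by exact_mod_cast h
    have h2 : m = 0 := by omega
    have h3 : n = 0 := by omega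
    rw [h3, Nat.cast_zero] at hn
    rw [h2, Nat.cast_zero] at hm
    have hU0 := act_eq_zero_of_irr (isIrr_isClassFunction hf) U.toRepresentation hU (by
      rw [← classInner_conj_symm, hm, map_zero])
    have hU'0 := hU' hn
    ext x
    obtain ⟨y, hy, z, hz, rfl⟩ : ∃ y ∈ U.toSubmodule, ∃ z ∈ U'.toSubmodule, y + z = x := by
      rw [← Submodule.mem_sup, hUU'.sup_eq_top]
      trivial
    have e1 := congrArg (fun T => ((T ⟨y, hy⟩ : U.toSubmodule) : V)) hU0
    have e2 := congrArg (fun T => ((T ⟨z, hz⟩ : U'.toSubmodule) : V)) hU'0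
    simp only [LinearMap.zero_apply, Submodule.coe_zero, act_sub] at e1 e2
    rw [map_add, LinearMap.zero_apply, e1, e2, add_zero]

theorem act_mul_act_irr {f g : K → ℂ} (hf : IsIrrCharacter K f) (hg : IsIrrCharacter K g) (hfg : f ≠ g)
    (V : Type v) [AddCommGroup V] [Module ℂ V] [FiniteDimensional ℂ V] (ρ : Representation ℂ K V) :
    act f ρ * act g ρ = 0 := by
  refine act_mul_act_eq_zero (fun W _ _ _ σ hσ => ?_) V ρ
  have hirr := isIrrCharacter_of_rep σ hσ
  by_cases h : σ.character = f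
  · rw [act_eq_zero_of_irr (isIrr_isClassFunction hg) σ hσ (classInner_irr_ne hg hirr fun h1 =>
      hfg (h.symm.trans h1.symm)), mul_zero]
  · rw [act_eq_zero_of_irr (isIrr_isClassFunction hf) σ hσ (classInner_irr_ne hf hirr fun h1 => h h1.symm),
      zero_mul]

/-- completeness -/
theorem sum_act [Fintype (IrrCharacter K)] {V : Type*} [AddCommGroup V] [Module ℂ V] (ρ : Representation ℂ K V) :
    ∑ φ : IrrCharacter K, (φ : K → ℂ) 1 • act (φ : K → ℂ) ρ = (Nat.card K : ℂ) • (1 : Module.End ℂ V) := by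
  classical
  have h1 : IsClassFunction K (fun k : K => if k = 1 then (1 : ℂ) else 0) := by
    intro g h
    simp only [mul_inv_eq_one, _root_.mul_eq_left]
  have h2 : ∀ φ : IrrCharacter K, (Nat.card K : ℂ) * classInner (fun k : K => if k = 1 then (1 : ℂ) else 0) (φ : K → ℂ) =
      (φ : K → ℂ) 1 := by
    intro φ
    rw [classInner_def, ← mul_assoc, mul_inv_cancel₀ card_ne_zero_complex, one_mul]
    simp only [ite_mul, one_mul, zero_mul, Finset.sum_ite_eq', Finset.mem_univ, if_true]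
    rw [← isCharacter_apply_inv (isIrr_isCharacter φ.2), inv_one]
  have h3 : ∀ k : K, ∑ φ : IrrCharacter K, (φ : K → ℂ) 1 * (φ : K → ℂ) k = if k = 1 then (Nat.card K : ℂ) else 0 := by
    intro k
    have h4 := congrFun (classFunction_eq_sum h1) k
    rw [Finset.sum_apply] at h4
    have h5 : (if k = 1 then (Nat.card K : ℂ) else 0) = (Nat.card K : ℂ) * (if k = 1 then (1 : ℂ) else 0) := by
      split_ifs <;> simp only [_root_.Nat.card_eq_fintype_card, _root_.mul_one, _root_.MulZeroClass.mul_zero]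
    rw [h5, h4, Finset.mul_sum]
    refine Finset.sum_congr rfl fun φ _ => ?_
    rw [Pi.smul_apply, smul_eq_mul, ← mul_assoc, h2]
  simp only [act, Finset.smul_sum, smul_smul]
  rw [Finset.sum_comm]
  have h4 : ∀ k : K, ∑ φ : IrrCharacter K, ((φ : K → ℂ) 1 * (φ : K → ℂ) k) • ρ k⁻¹ =
      if k = 1 then (Nat.card K : ℂ) • (1 : Module.End ℂ V) else 0 := by
    intro k
    rw [← Finset.sum_smul, h3]
    split_ifs with h
    · rw [h, inv_one, map_one]
    · rw [zero_smul]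
  rw [Finset.sum_congr rfl fun k _ => h4 k]
  simp only [_root_.Nat.card_eq_fintype_card, _root_.Finset.sum_ite_eq', _root_.Finset.mem_univ, ↓ _root_.reduceIte]

/-- the average of the conjugates of `k` is zero on the constituent `φ` with `φ k = 0` -/
theorem avg_mul_act {f : K → ℂ} (hf : IsIrrCharacter K f) {k : K} (hk : f k = 0)
    (V : Type v) [AddCommGroup V] [Module ℂ V] [FiniteDimensional ℂ V] (ρ : Representation ℂ K V) :
    (∑ y : K, ρ (y * k * y⁻¹)) * act f ρ = 0 := by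
  classical
  -- the class sum as an operator `act`
  set a : K → ℂ := fun x => ∑ y : K, if x⁻¹ = y * k * y⁻¹ then 1 else 0 with ha
  have h1 : ∀ (W : Type v) [AddCommGroup W] [Module ℂ W] (σ : Representation ℂ K W),
      ∑ y : K, σ (y * k * y⁻¹) = act a σ := by
    intro W _ _ σ
    simp only [act, ha, Finset.sum_smul]
    rw [Finset.sum_comm]
    refine Finset.sum_congr rfl fun y _ => ?_
    rw [Finset.sum_eq_single (y * k * y⁻¹)⁻¹]
    · simp only [_root_.map_mul, _root_.mul_inv_rev, _root_.inv_inv, ↓ _root_.reduceIte, _root_.one_smul]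
    · intro b _ hb
      rw [if_neg, zero_smul]
      intro h
      exact hb (by rw [← h, inv_inv])
    · intro h
      exact absurd (Finset.mem_univ _) h
  rw [h1]
  refine act_mul_act_eq_zero (fun W _ _ _ σ hσ => ?_) V ρ
  have hirr := isIrrCharacter_of_rep σ hσ
  by_cases h : σ.character = f
  · have h2 : act a σ = 0 := by
      refine act_eq_zero_of_irr ?_ σ hσ ?_
      · intro x g
        simp only [ha]
        refine Fintype.sum_equiv (Equiv.mulLeft g⁻¹) _ _ fun y => ?_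
        simp only [Equiv.coe_mulLeft]
        congr 1
        apply propext
        constructor
        · intro h
          have h3 : x⁻¹ = g⁻¹ * (g * x * g⁻¹)⁻¹ * g := by group
          rw [h3, h]
          group
        · intro h
          have h3 : (g * x * g⁻¹)⁻¹ = g * x⁻¹ * g⁻¹ := by group
          rw [h3, h]
          group
      · rw [classInner_def]
        have h3 : ∑ x : K, a x * conj (σ.character x) = 0 := by
          have h4 : ∀ x : K, a x * conj (σ.character x) = ∑ y : K, if x⁻¹ = y * k * y⁻¹ then f k else 0 := by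
            intro x
            simp only [ha, Finset.sum_mul]
            refine Finset.sum_congr rfl fun y _ => ?_
            split_ifs with h5
            · rw [one_mul, ← isCharacter_apply_inv (isIrr_isCharacter hirr), h5, h]
              exact isIrr_isClassFunction hf _ _
            · rw [zero_mul]
          rw [Finset.sum_congr rfl fun x _ => h4 x]
          simp [hk]
        rw [h3, mul_zero]
    rw [h2, zero_mul]
  · rw [act_eq_zero_of_irr (isIrr_isClassFunction hf) σ hσ (classInner_irr_ne hf hirr fun h1 => h h1.symm),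
      mul_zero]

end act

section normal

variable {G : Type u} [Group G] {N : Subgroup G} [Fintype N] {V : Type v} [AddCommGroup V] [Module ℂ V]
  [FiniteDimensional ℂ V] (ρ : Representation ℂ G V)

/-- the restriction to `N` -/
noncomputable abbrev rs (N : Subgroup G) (ρ : Representation ℂ G V) : Representation ℂ N V := ρ.comp N.subtype

omit [FiniteDimensional ℂ V] in
/-- conjugation of the operators -/
theorem act_mul_rho (a : N → ℂ) (l : G) (hl : ∀ k ∈ N, l * k * l⁻¹ ∈ N) (hl' : ∀ k ∈ N, l⁻¹ * k * l ∈ N) :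
    ρ l * act (fun k : N => a ⟨l * k * l⁻¹, hl k k.2⟩) (rs N ρ) = act a (rs N ρ) * ρ l := by
  have e : ∀ x y : G, ρ (x * y) = ρ x * ρ y := fun x y => map_mul ρ x y
  simp only [act, Finset.mul_sum, Finset.sum_mul]
  let f : N ≃ N :=
    { toFun := fun k => ⟨l * k * l⁻¹, hl k k.2⟩
      invFun := fun k => ⟨l⁻¹ * k * l, hl' k k.2⟩
      left_inv := fun k => Subtype.ext (by show l⁻¹ * (l * k * l⁻¹) * l = k; group)
      right_inv := fun k => Subtype.ext (by show l * (l⁻¹ * k * l) * l⁻¹ = k; group) }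
  refine Fintype.sum_equiv f _ _ fun k => ?_
  show ρ l * (a (f k) • ρ ((k⁻¹ : N) : G)) = (a (f k) • ρ (((f k)⁻¹ : N) : G)) * ρ l
  rw [mul_smul_comm, smul_mul_assoc, ← e, ← e]
  congr 2
  show l * (k : G)⁻¹ = (l * k * l⁻¹)⁻¹ * l
  group

/-- **Zeros from the constituents.** -/
theorem eq_zero_of_constituents {ψ : G → ℂ} (hψ : IsCharacter G ψ) (l : G) (hl : ∀ k ∈ N, l * k * l⁻¹ ∈ N)
    (hl' : ∀ k ∈ N, l⁻¹ * k * l ∈ N)
    (h : ∀ φ : N → ℂ, IsIrrCharacter N φ → classInner (fun k : N => ψ k) φ ≠ 0 →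
      (∃ k : N, φ ⟨l * k * l⁻¹, hl k k.2⟩ ≠ φ k) ∨
      ∃ (t : G) (k : N), l = t * k ∧ (∀ x ∈ N, t * x = x * t) ∧ φ k = 0) : ψ l = 0 := by
  classical
  obtain ⟨n, ρ, rfl⟩ := hψ
  have e : ∀ x y : G, ρ (x * y) = ρ x * ρ y := fun x y => map_mul ρ x y
  have hfin := finite_irr (G := N)
  have : Fintype (IrrCharacter N) := Fintype.ofFinite _
  have hsum := sum_act (rs N ρ)
  have hc : (Nat.card N : ℂ) ≠ 0 := card_ne_zero_complex
  -- every summand is zero
  have key : ∀ φ : IrrCharacter N, LinearMap.trace ℂ _ (ρ l * act (φ : N → ℂ) (rs N ρ)) = 0 := by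
    intro φ
    by_cases h0 : classInner (fun k : N => ρ.character k) (φ : N → ℂ) = 0
    · have h1 : act (φ : N → ℂ) (rs N ρ) = 0 := act_eq_zero φ.2 _ (rs N ρ) h0
      rw [h1, mul_zero, map_zero]
    rcases h φ φ.2 h0 with ⟨k, hk⟩ | ⟨t, k, rfl, ht, hk⟩
    · -- `l` moves `φ`
      set φ' : N → ℂ := fun k : N => (φ : N → ℂ) ⟨l * k * l⁻¹, hl k k.2⟩ with hφ'
      have hne : φ' ≠ φ := fun h1 => hk (congrFun h1 k)
      have hirr : IsIrrCharacter N φ' := by
        let f : N →* N :=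
          { toFun := fun k => ⟨l * k * l⁻¹, hl k k.2⟩
            map_one' := Subtype.ext (by show l * 1 * l⁻¹ = 1; group)
            map_mul' := fun x y => Subtype.ext (by
              show l * (x * y) * l⁻¹ = (l * x * l⁻¹) * (l * y * l⁻¹)
              group) }
        have hf : Function.Surjective f := fun k => ⟨⟨l⁻¹ * k * l, hl' k k.2⟩, Subtype.ext (by
          show l * (l⁻¹ * k * l) * l⁻¹ = k
          group)⟩
        exact isIrr_comp f hf φ.2
      have h1 : act φ' (rs N ρ) * act (φ : N → ℂ) (rs N ρ) = 0 := act_mul_act_irr hirr φ.2 hne _ _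
      -- `|N| tr(ρ l E) = φ(1) tr (ρ l E E)`
      have h2 : (Nat.card N : ℂ) * LinearMap.trace ℂ _ (ρ l * act (φ : N → ℂ) (rs N ρ)) =
          (φ : N → ℂ) 1 * LinearMap.trace ℂ _ (ρ l * act (φ : N → ℂ) (rs N ρ) * act (φ : N → ℂ) (rs N ρ)) := by
        have h3 : (Nat.card N : ℂ) • (ρ l * act (φ : N → ℂ) (rs N ρ)) =
            (φ : N → ℂ) 1 • (ρ l * act (φ : N → ℂ) (rs N ρ) * act (φ : N → ℂ) (rs N ρ)) := by
          have h4 : (Nat.card N : ℂ) • (ρ l * act (φ : N → ℂ) (rs N ρ)) =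
              ρ l * act (φ : N → ℂ) (rs N ρ) * ((Nat.card N : ℂ) • (1 : Module.End ℂ (Fin n → ℂ))) := by
            rw [mul_smul_comm, mul_one]
          rw [h4, ← hsum, Finset.mul_sum, Finset.sum_eq_single φ]
          · rw [mul_smul_comm]
          · intro θ _ hθ
            rw [mul_smul_comm, mul_assoc, act_mul_act_irr φ.2 θ.2 (fun h5 => hθ (Subtype.ext h5.symm)) _
              (rs N ρ), mul_zero, smul_zero]
          · intro h5
            exact absurd (Finset.mem_univ _) h5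
        have h4 := congrArg (LinearMap.trace ℂ _) h3
        rwa [map_smul, map_smul, smul_eq_mul, smul_eq_mul] at h4
      have h3 : LinearMap.trace ℂ _ (ρ l * act (φ : N → ℂ) (rs N ρ) * act (φ : N → ℂ) (rs N ρ)) = 0 := by
        rw [LinearMap.trace_mul_comm, ← mul_assoc, ← act_mul_rho ρ (φ : N → ℂ) l hl hl', mul_assoc]
        show LinearMap.trace ℂ _ (ρ l * (act φ' (rs N ρ) * act (φ : N → ℂ) (rs N ρ))) = 0
        rw [h1, mul_zero, map_zero]
      rw [h3, mul_zero] at h2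
      exact (mul_eq_zero.1 h2).resolve_left hc
    · -- `l = t k`
      have h1 : (∑ y : N, (rs N ρ) (y * k * y⁻¹)) * act (φ : N → ℂ) (rs N ρ) = 0 := avg_mul_act φ.2 hk _ _
      have h2 : ∀ y : N, LinearMap.trace ℂ _ (ρ t * (rs N ρ) (y * k * y⁻¹) * act (φ : N → ℂ) (rs N ρ)) =
          LinearMap.trace ℂ _ (ρ (t * k) * act (φ : N → ℂ) (rs N ρ)) := by
        intro y
        have h3 : act (φ : N → ℂ) (rs N ρ) * ρ (y : G) = ρ (y : G) * act (φ : N → ℂ) (rs N ρ) := by
          have h4 := act_mul_rho ρ (φ : N → ℂ) (y : G) (fun k hk => mul_mem (mul_mem y.2 hk) (inv_mem y.2))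
            (fun k hk => mul_mem (mul_mem (inv_mem y.2) hk) y.2)
          rw [← h4]
          congr 2
          funext k
          exact isIrr_isClassFunction φ.2 k y
        have h4 : ρ t * (rs N ρ) (y * k * y⁻¹) = ρ (y : G) * ρ (t * k) * ρ ((y : G)⁻¹) := by
          show ρ t * ρ ((y : G) * k * (y : G)⁻¹) = _
          rw [← e, ← e, ← e]
          congr 1
          calc t * ((y : G) * k * (y : G)⁻¹) = (t * (y : G)) * k * (y : G)⁻¹ := by group
            _ = ((y : G) * t) * k * (y : G)⁻¹ := by rw [ht y y.2]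
            _ = (y : G) * (t * k) * (y : G)⁻¹ := by group
        have h5 : ρ ((y : G)⁻¹) * ρ (y : G) = 1 := by rw [← e, inv_mul_cancel, map_one]
        rw [h4, mul_assoc, LinearMap.trace_mul_comm]
        have h6 : ρ ((y : G)⁻¹) * act (φ : N → ℂ) (rs N ρ) * (ρ (y : G) * ρ (t * k)) =
            act (φ : N → ℂ) (rs N ρ) * ρ (t * k) := by
          rw [← mul_assoc, mul_assoc (ρ ((y : G)⁻¹)), h3, ← mul_assoc, h5, one_mul]
        rw [h6, LinearMap.trace_mul_comm]
      have h3 : (Nat.card N : ℂ) * LinearMap.trace ℂ _ (ρ (t * k) * act (φ : N → ℂ) (rs N ρ)) = 0 := by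
        have h4 : ∑ y : N, LinearMap.trace ℂ _ (ρ t * (rs N ρ) (y * k * y⁻¹) * act (φ : N → ℂ) (rs N ρ)) =
            (Nat.card N : ℂ) * LinearMap.trace ℂ _ (ρ (t * k) * act (φ : N → ℂ) (rs N ρ)) := by
          rw [Finset.sum_congr rfl fun y _ => h2 y, Finset.sum_const, Finset.card_univ, nsmul_eq_mul,
            Nat.card_eq_fintype_card]
        rw [← h4, ← map_sum]
        simp only [mul_assoc]
        rw [← Finset.mul_sum, ← Finset.sum_mul]
        have h5 : (∑ y : N, (rs N ρ) (y * (k * y⁻¹))) * act (φ : N → ℂ) (rs N ρ) = 0 := by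
          rw [← h1]
          simp only [mul_assoc]
        rw [h5, mul_zero, map_zero]
      exact (mul_eq_zero.1 h3).resolve_left hc
  have h1 : (Nat.card N : ℂ) * ρ.character l = 0 := by
    have h2 : (Nat.card N : ℂ) • ρ l = ∑ φ : IrrCharacter N, (φ : N → ℂ) 1 • (ρ l * act (φ : N → ℂ) (rs N ρ)) := by
      have h3 : (Nat.card N : ℂ) • ρ l = ρ l * ((Nat.card N : ℂ) • (1 : Module.End ℂ (Fin n → ℂ))) := by
        rw [mul_smul_comm, mul_one]
      rw [h3, ← hsum, Finset.mul_sum]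
      exact Finset.sum_congr rfl fun φ _ => mul_smul_comm _ _ _
    have h3 := congrArg (LinearMap.trace ℂ _) h2
    rw [map_smul, map_sum, Finset.sum_eq_zero fun φ _ => by rw [map_smul, key φ, smul_zero]] at h3
    exact h3
  exact (mul_eq_zero.1 h1).resolve_left hc

/-- If all constituents on `N` are equal to a linear character `f`, then `N` acts by scalars. -/
theorem apply_mul_of_linear {ψ : G → ℂ} (hψ : IsCharacter G ψ) (f : N →* ℂˣ)
    (h : ∀ φ : N → ℂ, IsIrrCharacter N φ → classInner (fun k : N => ψ k) φ ≠ 0 → φ = fun k => (f k : ℂ))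
    (t : G) (k : N) : ψ (t * k) = f k * ψ t := by
  classical
  obtain ⟨n, ρ, rfl⟩ := hψ
  have hfin := finite_irr (G := N)
  have : Fintype (IrrCharacter N) := Fintype.ofFinite _
  have hsum := sum_act (rs N ρ)
  have hc : (Nat.card N : ℂ) ≠ 0 := card_ne_zero_complex
  have hfi : IsIrrCharacter N (fun k : N => (f k : ℂ)) := Linear.isIrrCharacter_hom f
  rw [Finset.sum_eq_single (⟨_, hfi⟩ : IrrCharacter N)] at hsum
  · have h1 : ((⟨_, hfi⟩ : IrrCharacter N) : N → ℂ) 1 = 1 := by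
      show ((f 1 : ℂˣ) : ℂ) = 1
      rw [map_one, Units.val_one]
    rw [h1, one_smul] at hsum
    -- `ρ k E = f k E`
    have h2 : (rs N ρ) k * act (fun k : N => (f k : ℂ)) (rs N ρ) =
        (f k : ℂ) • act (fun k : N => (f k : ℂ)) (rs N ρ) := by
      simp only [act, Finset.mul_sum, Finset.smul_sum]
      refine Fintype.sum_equiv (Equiv.mulRight k⁻¹) _ _ fun x => ?_
      rw [mul_smul_comm, ← map_mul, smul_smul]
      simp only [Equiv.coe_mulRight, mul_inv_rev, inv_inv]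
      congr 1
      rw [← Units.val_mul]
      congr 1
      rw [map_mul, map_inv, mul_comm (f x), mul_inv_cancel_left]
    have h3 : act ((⟨_, hfi⟩ : IrrCharacter N) : N → ℂ) (rs N ρ) = act (fun k : N => (f k : ℂ)) (rs N ρ) := rfl
    rw [h3] at hsum
    rw [hsum] at h2
    have h4 : (rs N ρ) k = (f k : ℂ) • (1 : Module.End ℂ (Fin n → ℂ)) := by
      rw [mul_smul_comm, mul_one, smul_comm] at h2
      exact smul_right_injective _ hc h2
    have h5 : ρ (t * (k : G)) = (f k : ℂ) • ρ t := by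
      rw [map_mul]
      show ρ t * (rs N ρ) k = _
      rw [h4, mul_smul_comm, mul_one]
    show LinearMap.trace ℂ _ (ρ (t * (k : G))) = (f k : ℂ) * LinearMap.trace ℂ _ (ρ t)
    rw [h5, map_smul, smul_eq_mul]
  · intro φ _ hφ
    have h1 : act (φ : N → ℂ) (rs N ρ) = 0 := by
      refine act_eq_zero φ.2 _ (rs N ρ) ?_
      by_contra h2
      exact hφ (Subtype.ext (h φ φ.2 h2))
    rw [h1, smul_zero]
  · intro h1
    exact absurd (Finset.mem_univ _) h1

end normal

end Cfsg.Agent.H279.OZ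
end

-- part: H279/OZ/KOne
section
/-!
# Constancy on `y K` of a character with one class of zeros (S4842, helper279)

`R` abelian Sylow `r`-subgroup, `K ≤ C_G(R)` an `r'`-subgroup normalized by `N_G(R)`, `χ` irreducible.

* `kconst_or` : either `χ (y k) = χ y` for all `k ∈ K` and all `y ∈ R` with `C_G(y) = C_G(R)`, or there is an
  irreducible `φ ≠ 1` of `K` such that `χ (y l) = 0` for all such `y` and all `l ∈ C_G(R)` of order prime to `r` with
  `Kill K φ n l` for all `n ∈ N_G(R)`.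
-/

set_option autoImplicit false

open Cfsg Cfsg.Agent.Characters Cfsg.Agent.Blocks.Basic Cfsg.Agent.H695.OneZero

namespace Cfsg.Agent.H279.OZ

universe u

variable {G : Type u} [Group G]

/-- `l` moves the conjugate `φ^n`, or `l = t k`, `t` centralizes `K` and `φ^n (k) = 0`. -/
def Kill (K : Subgroup G) (φ : K → ℂ) (n l : G) : Prop :=
  (∃ k ∈ K, extendByZero K φ (n * (l * k * l⁻¹) * n⁻¹) ≠ extendByZero K φ (n * k * n⁻¹)) ∨
    ∃ t k : G, l = t * k ∧ (∀ x ∈ K, t * x = x * t) ∧ k ∈ K ∧ extendByZero K φ (n * k * n⁻¹) = 0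

variable [Fintype G] {r : ℕ} [Fact r.Prime]

theorem val_of_centralizer {M : Ideal AlgInt} (hM : IsPModular r M) {L : Subgroup G} {χ : IrrCharacter G}
    [Fintype L] [Fintype (IrrCharacter L)] (S : Finset (IrrCharacter L))
    (hS : ∀ ψ, ψ ∈ S ↔ IsInducedBlock M L (blockOf M ψ.1) (blockOf M χ.1)) {y : G}
    (hy : ∃ k : ℕ, orderOf y = r ^ k) (hL : Subgroup.centralizer ({y} : Set G) = L) :
    ∃ a : IrrCharacter L → ℂ, ∀ c : L, ¬ r ∣ orderOf (c : G) →
      (χ : G → ℂ) (y * c) = ∑ ψ ∈ S, a ψ * ψ.1 c := by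
  subst hL
  refine ⟨fun ψ => classInner (lf y χ) ψ.1, fun c hc => ?_⟩
  have : M.IsPrime := hM.2.1.isPrime
  exact apply_eq_sum_induced hM hy ⟨χ, rfl⟩ (mem_blockOf_self χ) S hS c (by rwa [← Subgroup.orderOf_coe])

/-- **The character `φ` of `K` belonging to `χ`.**  If `φ` is linear and `N_G(R)`-invariant, then `χ (y t k) = φ(k) χ (y t)`;
and `χ (y l) = 0` if `Kill K φ n l` for all `n ∈ N_G(R)`. -/
theorem exists_phi (R : Sylow r G)
    (hab : (R : Subgroup G) ≤ Subgroup.centralizer ((R : Subgroup G) : Set G))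
    (K : Subgroup G) (hKC : K ≤ Subgroup.centralizer ((R : Subgroup G) : Set G))
    (hKr : ¬ r ∣ Nat.card K)
    (hKN : ∀ n ∈ Subgroup.normalizer ((R : Subgroup G) : Set G), ∀ k ∈ K, n * k * n⁻¹ ∈ K)
    (χ : IrrCharacter G) :
    ∃ φ : K → ℂ, IsIrrCharacter K φ ∧
      (∀ f : K →* ℂˣ, (φ = fun k => (f k : ℂ)) →
        (∀ n ∈ Subgroup.normalizer ((R : Subgroup G) : Set G), ∀ (k : K) (hk : n * k * n⁻¹ ∈ K),
          f ⟨n * k * n⁻¹, hk⟩ = f k) →
        ∀ y ∈ R, Subgroup.centralizer ({y} : Set G) ≤ Subgroup.centralizer ((R : Subgroup G) : Set G) →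
          ∀ t ∈ Subgroup.centralizer ((R : Subgroup G) : Set G), ∀ k : K, ¬ r ∣ orderOf t →
            ¬ r ∣ orderOf (t * (k : G)) → (χ : G → ℂ) (y * (t * k)) = f k * (χ : G → ℂ) (y * t)) ∧
      ∀ y ∈ R, Subgroup.centralizer ({y} : Set G) ≤ Subgroup.centralizer ((R : Subgroup G) : Set G) →
        ∀ l ∈ Subgroup.centralizer ((R : Subgroup G) : Set G), ¬ r ∣ orderOf l →
          (∀ n ∈ Subgroup.normalizer ((R : Subgroup G) : Set G), Kill K φ n l) → (χ : G → ℂ) (y * l) = 0 := by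
  classical
  obtain ⟨M, hM⟩ := Cfsg.Agent.Blocks.ExistsModular.exists_isPModular (Fact.out : r.Prime)
  have : M.IsPrime := hM.2.1.isPrime
  obtain ⟨L, hL⟩ : ∃ L : Subgroup G, L = Subgroup.centralizer ((R : Subgroup G) : Set G) := ⟨_, rfl⟩
  rw [← hL]
  have hKL : K ≤ L := hL ▸ hKC
  have habL : (R : Subgroup G) ≤ L := hL ▸ hab
  have hfin := Core.finite_irr (G := L)
  have : Fintype (IrrCharacter L) := Fintype.ofFinite _
  have : Fintype (K.subgroupOf L) := Fintype.ofFinite _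
  have hfin' := Core.finite_irr (G := K.subgroupOf L)
  have : Fintype (IrrCharacter (K.subgroupOf L)) := Fintype.ofFinite _
  have hB : IsPBlock M (blockOf M χ.1) := ⟨χ, rfl⟩
  obtain ⟨S, hS⟩ : ∃ S : Finset (IrrCharacter L),
      ∀ ψ, ψ ∈ S ↔ IsInducedBlock M L (blockOf M ψ.1) (blockOf M χ.1) :=
    ⟨Finset.univ.filter fun ψ => IsInducedBlock M L (blockOf M ψ.1) (blockOf M χ.1), fun ψ => by simp only [_root_.Finset.mem_filter, _root_.Finset.mem_univ, _root_.true_and]⟩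
  have hconj : ∀ ψ₀ ∈ S, ∀ ψ ∈ S, ∀ φ₀ φ : IrrCharacter (K.subgroupOf L),
      classInner (fun k : K.subgroupOf L => ψ₀.1 k) φ₀.1 ≠ 0 →
      classInner (fun k : K.subgroupOf L => ψ.1 k) φ.1 ≠ 0 →
      ∃ m ∈ Subgroup.normalizer ((R : Subgroup G) : Set G), ∀ k : K.subgroupOf L,
      ∀ hk : m * ((k : L) : G) * m⁻¹ ∈ L, ∀ hk' : (⟨m * ((k : L) : G) * m⁻¹, hk⟩ : L) ∈ K.subgroupOf L,
      φ.1 k = φ₀.1 ⟨⟨m * ((k : L) : G) * m⁻¹, hk⟩, hk'⟩ := fun ψ₀ h₀ ψ h₁ φ₀ φ hφ₀ hφ =>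
    constituents_conj R hM L hL habL K hKL hKr hKN hB ((hS ψ₀).1 h₀) ((hS ψ).1 h₁) hφ₀ hφ
  have hval : ∀ y ∈ R, Subgroup.centralizer ({y} : Set G) ≤ L → ∃ a : IrrCharacter L → ℂ,
      ∀ c : L, ¬ r ∣ orderOf (c : G) → (χ : G → ℂ) (y * c) = ∑ ψ ∈ S, a ψ * ψ.1 c := by
    intro y hy hC
    refine val_of_centralizer hM S hS ?_ (le_antisymm hC ?_)
    · obtain ⟨k, hk⟩ := IsPGroup.iff_orderOf.mp R.isPGroup' ⟨y, hy⟩
      exact ⟨k, by rw [← hk, Subgroup.orderOf_mk]⟩
    · rw [hL]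
      apply Subgroup.centralizer_le
      rw [Set.singleton_subset_iff]
      exact hy
  have hLn : ∀ m ∈ Subgroup.normalizer ((R : Subgroup G) : Set G), ∀ k ∈ K, m * k * m⁻¹ ∈ L :=
    fun m hm k hk => hKL (hKN m hm k hk)
  have hLN : L ≤ Subgroup.normalizer ((R : Subgroup G) : Set G) := by
    rw [hL]
    exact centralizer_le_normalizer R
  rcases S.eq_empty_or_nonempty with hSe | ⟨ψ₀, hψ₀⟩
  · -- all values are zero
    have h0 : ∀ y ∈ R, Subgroup.centralizer ({y} : Set G) ≤ L → ∀ l ∈ L, ¬ r ∣ orderOf l →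
        (χ : G → ℂ) (y * l) = 0 := by
      intro y hy hC l hl hlr
      obtain ⟨a, ha⟩ := hval y hy hC
      have h1 := ha ⟨l, hl⟩ hlr
      rw [hSe, Finset.sum_empty] at h1
      exact h1
    refine ⟨1, Core.isIrr_one, fun f _ _ y hy hC t ht k htr htk => ?_, fun y hy hC l hl hlr _ => h0 y hy hC l hl hlr⟩
    rw [h0 y hy hC t ht htr, h0 y hy hC _ (mul_mem ht (hKL k.2)) htk, mul_zero]
  obtain ⟨φ₀, hφ₀⟩ := exists_constituent L K ψ₀
  let e : K.subgroupOf L ≃* K := Subgroup.subgroupOfEquivOfLe hKL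
  have hex : ∀ (k : G) (hk : k ∈ K), extendByZero K (φ₀.1 ∘ e.symm) k =
      φ₀.1 ⟨⟨k, hKL hk⟩, Subgroup.mem_subgroupOf.2 hk⟩ := by
    intro k hk
    rw [Core.extendByZero_of_mem K _ hk]
    show φ₀.1 (e.symm ⟨k, hk⟩) = _
    congr 1
  refine ⟨φ₀.1 ∘ e.symm, Core.isIrr_comp e.symm.toMonoidHom e.symm.surjective φ₀.2, ?_, ?_⟩
  · intro f hf hfN y hy hC t ht k htr htk
    obtain ⟨a, ha⟩ := hval y hy hC
    have e1 := ha ⟨t, ht⟩ htr
    have e2 := ha (@HMul.hMul _ _ _ instHMul ⟨t, ht⟩ ⟨k, hKL k.2⟩) htk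
    rw [e1, Finset.mul_sum]
    refine e2.trans (Finset.sum_congr rfl fun ψ hψ => ?_)
    let k' : K.subgroupOf L := ⟨⟨k, hKL k.2⟩, Subgroup.mem_subgroupOf.2 k.2⟩
    have h1 := apply_mul_of_linear (N := K.subgroupOf L) (Core.isIrr_isCharacter ψ.2) (f.comp e.toMonoidHom)
      (fun φ hφ hne => by
        obtain ⟨m, hm, h3⟩ := hconj ψ₀ hψ₀ ψ hψ φ₀ ⟨φ, hφ⟩ hφ₀ hne
        funext x
        have hx : m * ((x : L) : G) * m⁻¹ ∈ K := hKN m hm _ (Subgroup.mem_subgroupOf.1 x.2)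
        refine (h3 x (hKL hx) (Subgroup.mem_subgroupOf.2 hx)).trans ?_
        have h4 := congrFun hf ⟨m * ((x : L) : G) * m⁻¹, hx⟩
        have h5 : (φ₀.1 ∘ e.symm) ⟨m * ((x : L) : G) * m⁻¹, hx⟩ =
            φ₀.1 ⟨⟨m * ((x : L) : G) * m⁻¹, hKL hx⟩, Subgroup.mem_subgroupOf.2 hx⟩ := by
          show φ₀.1 (e.symm _) = _
          congr 1
        rw [← h5, h4, hfN m hm ⟨((x : L) : G), Subgroup.mem_subgroupOf.1 x.2⟩ hx]
        rfl) ⟨t, ht⟩ k'
    show a ψ * ψ.1 ((⟨t, ht⟩ : L) * (k' : L)) = f k * (a ψ * ψ.1 ⟨t, ht⟩)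
    rw [h1]
    show a ψ * (f k * ψ.1 ⟨t, ht⟩) = f k * (a ψ * ψ.1 ⟨t, ht⟩)
    ring
  · intro y hy hC l hl hlr hkill
    obtain ⟨a, ha⟩ := hval y hy hC
    have e1 := ha ⟨l, hl⟩ hlr
    rw [e1]
    refine Finset.sum_eq_zero fun ψ hψ => ?_
    have h0 : ψ.1 ⟨l, hl⟩ = 0 := by
      have hlK : ∀ k ∈ K, l * k * l⁻¹ ∈ K := hKN l (hLN hl)
      have hlK' : ∀ k ∈ K, l⁻¹ * k * l ∈ K := by
        intro k hk
        have := hKN l⁻¹ (inv_mem (hLN hl)) k hk
        rwa [inv_inv] at this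
      refine eq_zero_of_constituents (N := K.subgroupOf L) (Core.isIrr_isCharacter ψ.2) ⟨l, hl⟩
        (fun k hk => Subgroup.mem_subgroupOf.2 (hlK _ (Subgroup.mem_subgroupOf.1 hk)))
        (fun k hk => Subgroup.mem_subgroupOf.2 (hlK' _ (Subgroup.mem_subgroupOf.1 hk))) ?_
      intro φ hφ hne
      obtain ⟨m, hm, h3⟩ := hconj ψ₀ hψ₀ ψ hψ φ₀ ⟨φ, hφ⟩ hφ₀ hne
      have h4 : ∀ k : K.subgroupOf L, φ k = extendByZero K (φ₀.1 ∘ e.symm) (m * ((k : L) : G) * m⁻¹) := by
        intro k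
        rw [hex _ (hKN m hm _ (Subgroup.mem_subgroupOf.1 k.2))]
        exact h3 k _ _
      rcases hkill m hm with ⟨k, hk, hkne⟩ | ⟨t, k, hlt, ht, hk, hk0⟩
      · left
        refine ⟨⟨⟨k, hKL hk⟩, Subgroup.mem_subgroupOf.2 hk⟩, ?_⟩
        rw [h4, h4]
        exact hkne
      · right
        have htL : t ∈ L := by
          have : t = l * k⁻¹ := by rw [hlt]; group
          rw [this]
          exact mul_mem hl (inv_mem (hKL hk))
        refine ⟨⟨t, htL⟩, ⟨⟨k, hKL hk⟩, Subgroup.mem_subgroupOf.2 hk⟩, Subtype.ext hlt, ?_, ?_⟩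
        · intro x hx
          exact Subtype.ext (ht _ (Subgroup.mem_subgroupOf.1 hx))
        · rw [h4]
          exact hk0
    rw [h0, mul_zero]

theorem not_dvd_orderOf_of_mem {K : Subgroup G} (hKr : ¬ r ∣ Nat.card K) {k : G} (hk : k ∈ K) : ¬ r ∣ orderOf k := by
  intro h
  apply hKr
  refine dvd_trans h ?_
  have h1 := orderOf_dvd_natCard (⟨k, hk⟩ : K)
  rwa [Subgroup.orderOf_mk] at h1

/-- **The alternative**, `K` perfect or not: `φ = 1` gives constancy. -/
theorem kconst_or (R : Sylow r G)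
    (hab : (R : Subgroup G) ≤ Subgroup.centralizer ((R : Subgroup G) : Set G))
    (K : Subgroup G) (hKC : K ≤ Subgroup.centralizer ((R : Subgroup G) : Set G))
    (hKr : ¬ r ∣ Nat.card K)
    (hKN : ∀ n ∈ Subgroup.normalizer ((R : Subgroup G) : Set G), ∀ k ∈ K, n * k * n⁻¹ ∈ K)
    (χ : IrrCharacter G) :
    (∀ y ∈ R, Subgroup.centralizer ({y} : Set G) ≤ Subgroup.centralizer ((R : Subgroup G) : Set G) →
      ∀ k ∈ K, (χ : G → ℂ) (y * k) = (χ : G → ℂ) y) ∨
    ∃ φ : K → ℂ, IsIrrCharacter K φ ∧ (∃ k, φ k ≠ 1) ∧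
      ∀ y ∈ R, Subgroup.centralizer ({y} : Set G) ≤ Subgroup.centralizer ((R : Subgroup G) : Set G) →
        ∀ l ∈ Subgroup.centralizer ((R : Subgroup G) : Set G), ¬ r ∣ orderOf l →
          (∀ n ∈ Subgroup.normalizer ((R : Subgroup G) : Set G), Kill K φ n l) → (χ : G → ℂ) (y * l) = 0 := by
  obtain ⟨φ, hφ, h1, h2⟩ := exists_phi R hab K hKC hKr hKN χ
  by_cases h : ∃ k, φ k ≠ 1
  · exact Or.inr ⟨φ, hφ, h, h2⟩
  push Not at h
  left
  intro y hy hC k hk
  have h3 := h1 1 (funext fun k => by rw [h k]; rfl) (fun _ _ _ _ => rfl) y hy hC 1 (one_mem _) ⟨k, hk⟩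
    (by rw [orderOf_one]; exact (Fact.out : r.Prime).not_dvd_one)
    (by rw [one_mul]; exact not_dvd_orderOf_of_mem hKr hk)
  simpa using h3

omit [Fintype G] in
/-- Conjugate products have conjugate `r`-parts and `r'`-parts. -/
theorem conj_parts {z z' k k' c : G} (hz : ∃ a : ℕ, orderOf z = r ^ a) (hz' : ∃ a : ℕ, orderOf z' = r ^ a)
    (hk : ¬ r ∣ orderOf k) (hk' : ¬ r ∣ orderOf k') (hc : Commute z k) (hc' : Commute z' k')
    (h : c * (z * k) * c⁻¹ = z' * k') : c * z * c⁻¹ = z' ∧ c * k * c⁻¹ = k' := by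
  have hr : r.Prime := Fact.out
  obtain ⟨a, ha⟩ := hz
  obtain ⟨b, hb⟩ := hz'
  have hcop : Nat.Coprime (r ^ (a + b)) (orderOf k * orderOf k') := by
    refine Nat.Coprime.pow_left _ ((Nat.Prime.coprime_iff_not_dvd hr).2 fun hd => ?_)
    rcases (Nat.Prime.dvd_mul hr).1 hd with h1 | h1
    · exact hk h1
    · exact hk' h1
  obtain ⟨t, ht1, ht2⟩ := Nat.chineseRemainder hcop 1 0
  have key : ∀ {x y : G}, Commute x y → orderOf x ∣ r ^ (a + b) → orderOf y ∣ orderOf k * orderOf k' →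
      (x * y) ^ t = x := by
    intro x y hxy hx hy
    rw [hxy.mul_pow]
    have a1 : x ^ t = x := by
      conv_rhs => rw [← pow_one x]
      exact pow_eq_pow_iff_modEq.2 (ht1.of_dvd hx)
    have a2 : y ^ t = 1 := by
      rw [← orderOf_dvd_iff_pow_eq_one]
      exact hy.trans ((Nat.modEq_zero_iff_dvd).1 ht2)
    rw [a1, a2, mul_one]
  have e1 := key hc (ha ▸ pow_dvd_pow r (Nat.le_add_right a b)) (Dvd.intro _ rfl)
  have e2 := key hc' (hb ▸ pow_dvd_pow r (Nat.le_add_left b a)) (Dvd.intro_left _ rfl)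
  have h1 : c * z * c⁻¹ = z' := by
    calc c * z * c⁻¹ = c * (z * k) ^ t * c⁻¹ := by rw [e1]
      _ = (c * (z * k) * c⁻¹) ^ t := by rw [conj_pow]
      _ = z' := by rw [h, e2]
  refine ⟨h1, ?_⟩
  have h2 : c * (z * k) * c⁻¹ = (c * z * c⁻¹) * (c * k * c⁻¹) := by group
  rw [h2, h1] at h
  exact mul_left_cancel h

/-- two different classes of `R K`: an element outside `K` centralizing `K` and `R`, or two classes in `R` -/
def Sep (R : Sylow r G) (K : Subgroup G) (y : G) : Prop :=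
  (∃ t ∈ Subgroup.centralizer ((R : Subgroup G) : Set G), (∀ x ∈ K, t * x = x * t) ∧ t ∉ K ∧ ¬ r ∣ orderOf t) ∨
    ∃ y' ∈ R, Subgroup.centralizer ({y'} : Set G) ≤ Subgroup.centralizer ((R : Subgroup G) : Set G) ∧
      ¬ IsConj y y'

section Main

variable (R : Sylow r G) {y : G}

theorem rpow_of_mem {y : G} (hy : y ∈ R) : ∃ a : ℕ, orderOf y = r ^ a := by
  obtain ⟨k, hk⟩ := IsPGroup.iff_orderOf.mp R.isPGroup' ⟨y, hy⟩
  exact ⟨k, by rw [← hk, Subgroup.orderOf_mk]⟩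

omit [Fintype G] in
theorem not_dvd_orderOf_mul {t k : G} (h : t * k = k * t) (ht : ¬ r ∣ orderOf t) (hk : ¬ r ∣ orderOf k) :
    ¬ r ∣ orderOf (t * k) := by
  intro hd
  have h1 : orderOf (t * k) ∣ orderOf t * orderOf k :=
    (Commute.orderOf_mul_dvd_mul_orderOf (show Commute t k from h))
  rcases (Nat.Prime.dvd_mul Fact.out).1 (hd.trans h1) with h2 | h2
  · exact ht h2
  · exact hk h2

/-- the `r`-part and the `r'`-part of an element of `C_G(R)` -/
theorem exists_parts {l : G} (hl : l ∈ Subgroup.centralizer ((R : Subgroup G) : Set G)) :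
    ∃ l₁ l₂ : G, l = l₁ * l₂ ∧ l₂ ∈ Subgroup.centralizer ((R : Subgroup G) : Set G) ∧ l₁ ∈ R ∧
      ¬ r ∣ orderOf l₂ := by
  have hr : r.Prime := Fact.out
  have ho : orderOf l ≠ 0 := (orderOf_pos l).ne'
  obtain ⟨a, m, hm, hlm⟩ := Nat.exists_eq_pow_mul_and_not_dvd ho r hr.ne_one
  have hcop : Nat.Coprime (r ^ a) m := Nat.Coprime.pow_left _ ((Nat.Prime.coprime_iff_not_dvd hr).2 hm)
  obtain ⟨j, hj1, hj2⟩ := Nat.chineseRemainder hcop 0 1
  have h1 : (l ^ j) ^ m = 1 := by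
    rw [← pow_mul, ← orderOf_dvd_iff_pow_eq_one, hlm]
    exact Nat.mul_dvd_mul_right ((Nat.modEq_zero_iff_dvd).1 hj1) m
  have h2 : (l * (l ^ j)⁻¹) ^ (r ^ a) = 1 := by
    have hcm : Commute l (l ^ j)⁻¹ := ((Commute.refl l).pow_right j).inv_right
    rw [hcm.mul_pow, inv_pow, mul_inv_eq_one, ← pow_mul]
    rw [pow_eq_pow_iff_modEq, hlm]
    have h3 := (hj2.mul_left' (r ^ a)).symm
    rw [mul_one] at h3
    rwa [mul_comm j]
  refine ⟨l * (l ^ j)⁻¹, l ^ j, by group, pow_mem hl j, ?_, ?_⟩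
  · have hP : IsPGroup r (Subgroup.zpowers (l * (l ^ j)⁻¹)) := by
      have h3 : orderOf (l * (l ^ j)⁻¹) ∣ r ^ a := orderOf_dvd_of_pow_eq_one h2
      obtain ⟨b, -, hb⟩ := (Nat.dvd_prime_pow hr).1 h3
      exact IsPGroup.of_card (n := b) (by rw [Nat.card_zpowers, hb])
    have h3 := hP.inf_normalizer_sylow R
    have h4 : l * (l ^ j)⁻¹ ∈ Subgroup.normalizer ((R : Subgroup G) : Set G) :=
      centralizer_le_normalizer R (mul_mem hl (inv_mem (pow_mem hl j)))
    have h5 : l * (l ^ j)⁻¹ ∈ Subgroup.zpowers (l * (l ^ j)⁻¹) ⊓ Subgroup.normalizer ((R : Subgroup G) : Set G) :=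
      ⟨Subgroup.mem_zpowers _, h4⟩
    exact (h3.le h5).2
  · intro hd
    exact hm (hd.trans (orderOf_dvd_of_pow_eq_one h1))

/-- the end of the arguments with a common zero `k₀` -/
theorem false_of_zero (hy : y ∈ R)
    (hC : Subgroup.centralizer ({y} : Set G) ≤ Subgroup.centralizer ((R : Subgroup G) : Set G))
    (K : Subgroup G) (hKC : K ≤ Subgroup.centralizer ((R : Subgroup G) : Set G))
    (hKr : ¬ r ∣ Nat.card K)
    (hKN : ∀ n ∈ Subgroup.normalizer ((R : Subgroup G) : Set G), ∀ k ∈ K, n * k * n⁻¹ ∈ K)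
    (hsep : Sep R K y) {χ : G → ℂ} (hO : H730.OZ.OneZero χ) {φ : K → ℂ}
    (h : ∀ y ∈ R, Subgroup.centralizer ({y} : Set G) ≤ Subgroup.centralizer ((R : Subgroup G) : Set G) →
        ∀ l ∈ Subgroup.centralizer ((R : Subgroup G) : Set G), ¬ r ∣ orderOf l →
          (∀ n ∈ Subgroup.normalizer ((R : Subgroup G) : Set G), Kill K φ n l) → χ (y * l) = 0)
    {k₀ : G} (hk₀ : k₀ ∈ K)
    (hz : ∀ n ∈ Subgroup.normalizer ((R : Subgroup G) : Set G), extendByZero K φ (n * k₀ * n⁻¹) = 0) : False := by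
  have hkr : ¬ r ∣ orderOf k₀ := by
    intro h
    apply hKr
    refine dvd_trans h ?_
    have h1 := orderOf_dvd_natCard (⟨k₀, hk₀⟩ : K)
    rwa [Subgroup.orderOf_mk] at h1
  have hcR : ∀ {y c : G}, y ∈ R → c ∈ Subgroup.centralizer ((R : Subgroup G) : Set G) → Commute y c :=
    fun {y c} hy hc => Subgroup.mem_centralizer_iff.1 hc _ hy
  obtain ⟨x, hx, hx'⟩ := hO
  have h1 : χ (y * k₀) = 0 := h y hy hC k₀ (hKC hk₀) hkr fun n hn =>
    Or.inr ⟨1, k₀, by rw [one_mul], fun x _ => by rw [one_mul, mul_one], hk₀, hz n hn⟩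
  rcases hsep with ⟨t, ht, htK, htn, htr⟩ | ⟨y', hy', hC', hne⟩
  · have htk : ¬ r ∣ orderOf (t * k₀) := not_dvd_orderOf_mul (htK k₀ hk₀) htr hkr
    have h2 : χ (y * (t * k₀)) = 0 := h y hy hC (t * k₀) (mul_mem ht (hKC hk₀)) htk fun n hn =>
      Or.inr ⟨t, k₀, rfl, htK, hk₀, hz n hn⟩
    obtain ⟨c, hc⟩ := isConj_iff.1 ((hx' _ h1).symm.trans (hx' _ h2))
    obtain ⟨e1, e2⟩ := conj_parts (rpow_of_mem R hy) (rpow_of_mem R hy) hkr htk (hcR hy (hKC hk₀))
      (hcR hy (mul_mem ht (hKC hk₀))) hc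
    have hcC : c ∈ Subgroup.centralizer ({y} : Set G) := by
      rw [Subgroup.mem_centralizer_singleton_iff]
      rw [mul_inv_eq_iff_eq_mul] at e1
      exact e1
    have h3 := hKN c (centralizer_le_normalizer R (hC hcC)) k₀ hk₀
    rw [e2] at h3
    exact htn ((K.mul_mem_cancel_right hk₀).1 h3)
  · have h2 : χ (y' * k₀) = 0 := h y' hy' hC' k₀ (hKC hk₀) hkr fun n hn =>
      Or.inr ⟨1, k₀, by rw [one_mul], fun x _ => by rw [one_mul, mul_one], hk₀, hz n hn⟩
    obtain ⟨c, hc⟩ := isConj_iff.1 ((hx' _ h1).symm.trans (hx' _ h2))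
    obtain ⟨e1, -⟩ := conj_parts (rpow_of_mem R hy) (rpow_of_mem R hy') hkr hkr (hcR hy (hKC hk₀))
      (hcR hy' (hKC hk₀)) hc
    exact hne (isConj_iff.2 ⟨c, e1⟩)

/-! ### The alternatives, without hypothesis on the zeros of `χ` -/

/-- an irreducible character is linear or has a zero -/
theorem linear_or_zero {K : Type u} [Group K] [Finite K] {φ : K → ℂ} (hφ : IsIrrCharacter K φ) :
    (∃ f : K →* ℂˣ, φ = fun k => (f k : ℂ)) ∨ ∃ k, φ k = 0 := by
  obtain ⟨d, hd0, hd⟩ := Core.isIrr_apply_one hφ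
  by_cases hd1 : d = 1
  · left
    exact Linear.exists_hom_of_isIrrCharacter hφ (by rw [hd, hd1, Nat.cast_one])
  · right
    obtain ⟨n, ρ, hρ, rfl⟩ := hφ
    obtain ⟨g, hg⟩ := Cfsg.Agent.S0191.result ρ (by
      have h2 : ρ.character 1 = (Module.finrank ℂ (Fin n → ℂ) : ℂ) := ρ.char_one
      rw [h2] at hd
      have h3 : Module.finrank ℂ (Fin n → ℂ) = d := by exact_mod_cast hd
      rw [h3]
      omega)
    exact ⟨g, hg⟩

/-- **(A)** `N_G(R)` acts on `K` by inner automorphisms. -/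
theorem alt_inner (hab : (R : Subgroup G) ≤ Subgroup.centralizer ((R : Subgroup G) : Set G))
    (K : Subgroup G) (hKC : K ≤ Subgroup.centralizer ((R : Subgroup G) : Set G))
    (hKr : ¬ r ∣ Nat.card K)
    (hKN : ∀ n ∈ Subgroup.normalizer ((R : Subgroup G) : Set G), ∃ c ∈ K, ∀ k ∈ K, n * k * n⁻¹ = c * k * c⁻¹)
    (χ : IrrCharacter G) :
    (∃ f : K →* ℂˣ, ∀ y ∈ R,
      Subgroup.centralizer ({y} : Set G) ≤ Subgroup.centralizer ((R : Subgroup G) : Set G) →
      ∀ k : K, (χ : G → ℂ) (y * k) = f k * (χ : G → ℂ) y) ∨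
    ∃ k₀ ∈ K, ∀ y ∈ R, Subgroup.centralizer ({y} : Set G) ≤ Subgroup.centralizer ((R : Subgroup G) : Set G) →
      ∀ t ∈ Subgroup.centralizer ((R : Subgroup G) : Set G), (∀ x ∈ K, t * x = x * t) → ¬ r ∣ orderOf t →
        (χ : G → ℂ) (y * t * k₀) = 0 := by
  have hKN' : ∀ n ∈ Subgroup.normalizer ((R : Subgroup G) : Set G), ∀ k ∈ K, n * k * n⁻¹ ∈ K := by
    intro n hn k hk
    obtain ⟨c, hc, h1⟩ := hKN n hn
    rw [h1 k hk]
    exact mul_mem (mul_mem hc hk) (inv_mem hc)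
  obtain ⟨φ, hφ, h1, h2⟩ := exists_phi R hab K hKC hKr hKN' χ
  rcases linear_or_zero hφ with ⟨f, hf⟩ | ⟨k₀, hk₀⟩
  · left
    refine ⟨f, fun y hy hC k => ?_⟩
    have h3 := h1 f hf (fun n hn k hk => by
      obtain ⟨c, hc, h4⟩ := hKN n hn
      have h5 : (⟨n * (k : G) * n⁻¹, hk⟩ : K) = ⟨c, hc⟩ * k * ⟨c, hc⟩⁻¹ := Subtype.ext (h4 k k.2)
      rw [h5, map_mul, map_mul, map_inv, mul_comm (f ⟨c, hc⟩), mul_inv_cancel_right]) y hy hC 1 (one_mem _) k
      (by rw [orderOf_one]; exact (Fact.out : r.Prime).not_dvd_one)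
      (by rw [one_mul]; exact not_dvd_orderOf_of_mem hKr k.2)
    simpa using h3
  · right
    refine ⟨k₀, k₀.2, fun y hy hC t ht htK htr => ?_⟩
    rw [mul_assoc]
    refine h2 y hy hC (t * k₀) (mul_mem ht (hKC k₀.2))
      (not_dvd_orderOf_mul (htK k₀ k₀.2) htr (not_dvd_orderOf_of_mem hKr k₀.2)) fun n hn =>
      Or.inr ⟨t, k₀, rfl, htK, k₀.2, ?_⟩
    obtain ⟨c, hc, h4⟩ := hKN n hn
    rw [Core.extendByZero_of_mem K _ (hKN' n hn _ k₀.2)]
    have h5 : (⟨n * (k₀ : G) * n⁻¹, hKN' n hn _ k₀.2⟩ : K) = ⟨c, hc⟩ * k₀ * ⟨c, hc⟩⁻¹ := Subtype.ext (h4 k₀ k₀.2)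
    rw [h5, irr_conj hφ, hk₀]

/-- **(B)** `N_G(R)` acts on `K` by inner automorphisms and by `d` times inner automorphisms, `d ∈ C_G(R)`;
`C_G(R) = L₀ ∪ d L₀`, `L₀` acts by inner automorphisms. -/
theorem alt_two (hab : (R : Subgroup G) ≤ Subgroup.centralizer ((R : Subgroup G) : Set G))
    (K : Subgroup G) (hKC : K ≤ Subgroup.centralizer ((R : Subgroup G) : Set G))
    (hKr : ¬ r ∣ Nat.card K) (L₀ : Subgroup G)
    (h0 : ∀ l ∈ L₀, ∃ c ∈ K, ∀ k ∈ K, l * k * l⁻¹ = c * k * c⁻¹) {d : G}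
    (hd : d ∈ Subgroup.centralizer ((R : Subgroup G) : Set G))
    (hdK : ∀ n ∈ Subgroup.normalizer ((R : Subgroup G) : Set G), ∃ c ∈ K,
      (∀ k ∈ K, n * k * n⁻¹ = c * k * c⁻¹) ∨ ∀ k ∈ K, n * k * n⁻¹ = d * (c * k * c⁻¹) * d⁻¹)
    (hL : ∀ l ∈ Subgroup.centralizer ((R : Subgroup G) : Set G), l ∈ L₀ ∨ ∃ m ∈ L₀, l = d * m)
    (hKN : ∀ n ∈ Subgroup.normalizer ((R : Subgroup G) : Set G), ∀ k ∈ K, n * k * n⁻¹ ∈ K)
    (χ : IrrCharacter G) :
    (∃ f : K →* ℂˣ, ∀ y ∈ R,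
      Subgroup.centralizer ({y} : Set G) ≤ Subgroup.centralizer ((R : Subgroup G) : Set G) →
      ∀ k : K, (χ : G → ℂ) (y * k) = f k * (χ : G → ℂ) y) ∨
    (∃ k₀ ∈ K, ∀ y ∈ R, Subgroup.centralizer ({y} : Set G) ≤ Subgroup.centralizer ((R : Subgroup G) : Set G) →
      ∀ t ∈ Subgroup.centralizer ((R : Subgroup G) : Set G), (∀ x ∈ K, t * x = x * t) → ¬ r ∣ orderOf t →
        (χ : G → ℂ) (y * t * k₀) = 0) ∨
    ∀ y ∈ R, Subgroup.centralizer ({y} : Set G) ≤ Subgroup.centralizer ((R : Subgroup G) : Set G) →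
      ∀ l ∈ Subgroup.centralizer ((R : Subgroup G) : Set G), l ∉ L₀ → ¬ r ∣ orderOf l →
        (χ : G → ℂ) (y * l) = 0 := by
  obtain ⟨φ, hφ, h1, h2⟩ := exists_phi R hab K hKC hKr hKN χ
  set F : G → ℂ := extendByZero K φ with hF
  have hex : ∀ (k : G) (hk : k ∈ K), F k = φ ⟨k, hk⟩ := fun k hk => Core.extendByZero_of_mem K _ hk
  have hcl : ∀ c ∈ K, ∀ k ∈ K, F (c * k * c⁻¹) = F k := by
    intro c hc k hk
    rw [hex _ (mul_mem (mul_mem hc hk) (inv_mem hc)), hex _ hk]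
    exact irr_conj hφ ⟨k, hk⟩ ⟨c, hc⟩
  have hdKK : ∀ k ∈ K, d * k * d⁻¹ ∈ K := hKN d (centralizer_le_normalizer R hd)
  have hcK : ∀ c ∈ K, ∀ k ∈ K, c * k * c⁻¹ ∈ K := fun c hc k hk => mul_mem (mul_mem hc hk) (inv_mem hc)
  by_cases hinv : ∀ k ∈ K, F (d * k * d⁻¹) = F k
  · -- `φ` is `N_G(R)`-invariant
    have hN : ∀ n ∈ Subgroup.normalizer ((R : Subgroup G) : Set G), ∀ k ∈ K, F (n * k * n⁻¹) = F k := by
      intro n hn k hk
      obtain ⟨c, hc, h3 | h3⟩ := hdK n hn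
      · rw [h3 k hk, hcl c hc k hk]
      · rw [h3 k hk, hinv _ (hcK c hc k hk), hcl c hc k hk]
    rcases linear_or_zero hφ with ⟨f, hf⟩ | ⟨k₀, hk₀⟩
    · left
      refine ⟨f, fun y hy hC k => ?_⟩
      have h3 := h1 f hf (fun n hn k hk => by
        have h4 := hN n hn k k.2
        rw [hex _ hk, hex _ k.2, hf] at h4
        exact Units.ext h4) y hy hC 1 (one_mem _) k
        (by rw [orderOf_one]; exact (Fact.out : r.Prime).not_dvd_one)
        (by rw [one_mul]; exact not_dvd_orderOf_of_mem hKr k.2)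
      simpa using h3
    · right; left
      refine ⟨k₀, k₀.2, fun y hy hC t ht htK htr => ?_⟩
      rw [mul_assoc]
      refine h2 y hy hC (t * k₀) (mul_mem ht (hKC k₀.2))
        (not_dvd_orderOf_mul (htK k₀ k₀.2) htr (not_dvd_orderOf_of_mem hKr k₀.2)) fun n hn =>
        Or.inr ⟨t, k₀, rfl, htK, k₀.2, ?_⟩
      rw [← hF, hN n hn _ k₀.2, hex _ k₀.2]
      exact hk₀
  · right; right
    push Not at hinv
    obtain ⟨k₁, hk₁, hne⟩ := hinv
    intro y hy hC l hl hlL hlr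
    refine h2 y hy hC l hl hlr fun n hn => Or.inl ?_
    rw [← hF]
    by_contra hcon
    push Not at hcon
    obtain ⟨m, hm, rfl⟩ : ∃ m ∈ L₀, l = d * m := (hL l hl).resolve_left hlL
    obtain ⟨c₀, hc₀, hmc⟩ := h0 m hm
    have hlk : ∀ k ∈ K, d * m * k * (d * m)⁻¹ = d * (c₀ * k * c₀⁻¹) * d⁻¹ := by
      intro k hk
      rw [← hmc k hk]
      group
    obtain ⟨c, hc, h3 | h3⟩ := hdK n hn
    · -- `n` inner
      have h4 := hcon (c₀⁻¹ * k₁ * c₀) (by
        have := hcK c₀⁻¹ (inv_mem hc₀) k₁ hk₁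
        rwa [inv_inv] at this)
      have hk₁' : c₀⁻¹ * k₁ * c₀ ∈ K := by
        have := hcK c₀⁻¹ (inv_mem hc₀) k₁ hk₁
        rwa [inv_inv] at this
      rw [hlk _ hk₁'] at h4
      have e1 : c₀ * (c₀⁻¹ * k₁ * c₀) * c₀⁻¹ = k₁ := by group
      rw [e1, h3 _ (hdKK k₁ hk₁), h3 _ hk₁', hcl c hc _ (hdKK k₁ hk₁), hcl c hc _ hk₁'] at h4
      apply hne
      rw [h4]
      have := hcl c₀⁻¹ (inv_mem hc₀) k₁ hk₁
      rwa [inv_inv] at this
    · -- `n` acts as `d c`
      have hG : ∀ c ∈ K, ∀ k ∈ K, F (d * (c * k * c⁻¹) * d⁻¹) = F (d * k * d⁻¹) := by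
        intro c hc k hk
        have e1 : d * (c * k * c⁻¹) * d⁻¹ = (d * c * d⁻¹) * (d * k * d⁻¹) * (d * c * d⁻¹)⁻¹ := by group
        rw [e1, hcl _ (hdKK c hc) _ (hdKK k hk)]
      -- every `x ∈ K`
      have h4 : ∀ x ∈ K, F (d * x * d⁻¹) = F x := by
        intro x hx
        have hdi : ∀ k ∈ K, d⁻¹ * k * d ∈ K := by
          intro k hk
          have := hKN d⁻¹ (inv_mem (centralizer_le_normalizer R hd)) k hk
          rwa [inv_inv] at this
        set k := c₀⁻¹ * (d⁻¹ * x * d) * c₀ with hk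
        have hkK : k ∈ K := by
          have := hcK c₀⁻¹ (inv_mem hc₀) _ (hdi x hx)
          rwa [inv_inv] at this
        have h5 := hcon k hkK
        have e1 : c₀ * k * c₀⁻¹ = d⁻¹ * x * d := by rw [hk]; group
        have e2 : d * (d⁻¹ * x * d) * d⁻¹ = x := by group
        rw [hlk k hkK, e1, e2, h3 x hx, h3 k hkK, hG c hc x hx, hG c hc k hkK] at h5
        rw [h5, hk]
        have h6 := hG c₀⁻¹ (inv_mem hc₀) (d⁻¹ * x * d) (hdi x hx)
        rw [inv_inv, e2] at h6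
        exact h6
      exact hne (h4 k₁ hk₁)

/-! ### Characters with one class of zeros -/

/-- **(C)** Constancy on `y K` of a character with one class of zeros; every nonprincipal irreducible character of
`K` has a zero common to its `N_G(R)`-conjugates. -/
theorem kconst_one (hab : (R : Subgroup G) ≤ Subgroup.centralizer ((R : Subgroup G) : Set G))
    (hy : y ∈ R)
    (hC : Subgroup.centralizer ({y} : Set G) ≤ Subgroup.centralizer ((R : Subgroup G) : Set G))
    (K : Subgroup G) (hKC : K ≤ Subgroup.centralizer ((R : Subgroup G) : Set G))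
    (hKr : ¬ r ∣ Nat.card K)
    (hKN : ∀ n ∈ Subgroup.normalizer ((R : Subgroup G) : Set G), ∀ k ∈ K, n * k * n⁻¹ ∈ K)
    (hZ : ∀ φ : K → ℂ, IsIrrCharacter K φ → (∃ k, φ k ≠ 1) → ∃ k : K,
      ∀ n ∈ Subgroup.normalizer ((R : Subgroup G) : Set G), ∀ h : n * (k : G) * n⁻¹ ∈ K,
        φ ⟨n * (k : G) * n⁻¹, h⟩ = 0)
    (hsep : Sep R K y) (χ : IrrCharacter G) (hO : H730.OZ.OneZero (χ : G → ℂ)) :
    ∀ k ∈ K, (χ : G → ℂ) (y * k) = (χ : G → ℂ) y := by
  rcases kconst_or R hab K hKC hKr hKN χ with h | ⟨φ, hφ, hφ1, h⟩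
  · exact h y hy hC
  · exfalso
    obtain ⟨k₀, hk₀⟩ := hZ φ hφ hφ1
    refine false_of_zero R hy hC K hKC hKr hKN hsep hO h k₀.2 fun n hn => ?_
    rw [Core.extendByZero_of_mem K _ (hKN n hn _ k₀.2)]
    exact hk₀ n hn _

end Main

end Cfsg.Agent.H279.OZ
end

private theorem dce_26f4ce8368a1 : _root_.True := by
  try have : _root_.True := by simp only [_root_.Cfsg.Agent.H279.OZ.act.eq_1]
  exact _root_.True.intro
end

-- part: H477/OZ/Geo2
section
prune_inst 0x2304031454fc002000004001000001eb7e1000100004b80000806050204088002000286210c800510082200000000000810100000000000000000040000010120808014040200a00c06000900000001000000000000000000000080000000000000c010000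
set_option linter.all false
open scoped Cfsg.Agent.FastGrp

-- part: H477/OZ/Lin
section
/-!
# Elements of prime order with an irreducible commutator space of more than half the dimension (S4842, helper477)

`y : V ≃ₗ[K] V` of prime order `r`, `D` the order of `|K|` modulo `r`, `dim V < 2 D` (`Big y r`): `V = [V,y] ⊕ C_V(y)`,
`dim [V,y] = D`, `[V,y]` is an irreducible `y`-module, everything commuting with `y` acts on `[V,y]` as a polynomial in `y`.
-/

set_option autoImplicit false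
set_option linter.unusedSectionVars false

namespace Cfsg.Agent.H477.OZ

open Module Polynomial

universe u v

variable {K : Type u} [Field K] {V : Type v} [AddCommGroup V] [Module K V]

/-- the fixed space -/
def fixS (g : V ≃ₗ[K] V) : Submodule K V := LinearMap.ker ((g : V →ₗ[K] V) - 1)

/-- the commutator space -/
def comS (g : V ≃ₗ[K] V) : Submodule K V := LinearMap.range ((g : V →ₗ[K] V) - 1)

theorem mem_fixS {g : V ≃ₗ[K] V} {v : V} : v ∈ fixS g ↔ g v = v := by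
  rw [fixS, LinearMap.mem_ker, LinearMap.sub_apply, sub_eq_zero]
  rfl

theorem mem_comS {g : V ≃ₗ[K] V} {v : V} : v ∈ comS g ↔ ∃ u, g u - u = v := Iff.rfl

theorem pow_apply_succ (g : V ≃ₗ[K] V) (j : ℕ) (v : V) : (g ^ (j + 1)) v = g ((g ^ j) v) := by
  rw [pow_succ']
  rfl

/-- an element of prime order `r` whose commutator space is irreducible of dimension more than half of `dim V` -/
structure Big (y : V ≃ₗ[K] V) (r : ℕ) : Prop where
  prime : r.Prime
  ord : orderOf y = r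
  ndvd : ¬ r ∣ Nat.card K
  dim : finrank K V < 2 * orderOf (Nat.card K : ZMod r)

variable [Finite K] [FiniteDimensional K V]

theorem cast_ne_zero {r : ℕ} (hr : r.Prime) (h : ¬ r ∣ Nat.card K) : (r : K) ≠ 0 := by
  intro h0
  obtain ⟨p, hp⟩ := CharP.exists K
  have hpp : p.Prime := CharP.char_is_prime K p
  have h1 : p ∣ r := (CharP.cast_eq_zero_iff K p r).1 h0
  have h2 : p = r := (Nat.prime_dvd_prime_iff_eq hpp hr).1 h1
  apply h
  have := Fintype.ofFinite K
  obtain ⟨n, hn⟩ := FiniteField.card K p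
  rw [Nat.card_eq_fintype_card, hn.2, ← h2]
  exact dvd_pow_self p n.2.ne'

/-- the dimension of a stable subspace without fixed vectors -/
theorem ord_dvd_finrank {y : V ≃ₗ[K] V} {r : ℕ} (hr : r.Prime) (S : Submodule K V)
    (hy : ∀ s ∈ S, (y ^ r) s = s) (hS : ∀ s ∈ S, y s ∈ S) (hfix : ∀ s ∈ S, y s = s → s = 0) :
    orderOf (Nat.card K : ZMod r) ∣ finrank K S := by
  classical
  have := Fact.mk hr
  have : Finite V := Module.finite_of_finite K
  have := Fintype.ofFinite S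
  let f : Function.End S := fun s => ⟨y s, hS s s.2⟩
  have hf : ∀ (n : ℕ) (s : S), ((f ^ n) s : V) = (y ^ n) s := by
    intro n
    induction n with
    | zero => intro s; rfl
    | succ n ih =>
      intro s
      rw [pow_succ', pow_apply_succ, ← ih s]
      rfl
  have h1 : f ^ r ^ 1 = 1 := by
    rw [pow_one]
    funext s
    apply Subtype.ext
    rw [hf, hy _ s.2]
    rfl
  have h2 := Equiv.Perm.card_fixedPoints_modEq (α := S) h1
  have h3 : Fintype.card (Function.fixedPoints f) = 1 := by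
    rw [Fintype.card_eq_one_iff]
    refine ⟨⟨0, ?_⟩, fun s => ?_⟩
    · apply Subtype.ext
      show y ((0 : S) : V) = ((0 : S) : V)
      simp
    · have h4 : y ((s : S) : V) = ((s : S) : V) := congrArg Subtype.val s.2
      exact Subtype.ext (Subtype.ext (hfix _ (s : S).2 h4))
  rw [h3, ← Nat.card_eq_fintype_card, Module.natCard_eq_pow_finrank (K := K)] at h2
  rw [orderOf_dvd_iff_pow_eq_one]
  have h4 := (ZMod.natCast_eq_natCast_iff _ _ _).2 h2
  push_cast at h4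
  exact h4

section

variable {y : V ≃ₗ[K] V} {r : ℕ} (h : Big y r)

include h

theorem Big.pow_eq : y ^ r = 1 := by rw [← h.ord, pow_orderOf_eq_one]

theorem Big.r_ne : (r : K) ≠ 0 := cast_ne_zero h.prime h.ndvd

theorem Big.inf_eq : fixS y ⊓ comS y = ⊥ := by
  rw [Submodule.eq_bot_iff]
  rintro v ⟨hv1, hv2⟩
  rw [SetLike.mem_coe, mem_fixS] at hv1
  obtain ⟨u, hu⟩ := mem_comS.1 hv2
  have h1 : ∀ j : ℕ, (y ^ j) u = u + (j : K) • v := by
    intro j
    induction j with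
    | zero => simp only [_root_.pow_zero, _root_.LinearEquiv.coe_one, _root_.id_eq, _root_.Nat.cast_zero, _root_.zero_smul, _root_.add_zero]
    | succ j ih =>
      rw [pow_apply_succ, ih, map_add, map_smul, hv1]
      have : y u = u + v := by rw [← hu]; abel
      rw [this]
      push_cast
      rw [add_smul, one_smul]
      abel
  have h2 := h1 r
  rw [h.pow_eq] at h2
  have h3 : (r : K) • v = 0 := by
    have : u = u + (r : K) • v := h2
    exact (add_eq_left.1 this.symm)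
  exact (smul_eq_zero.1 h3).resolve_left h.r_ne

theorem Big.isCompl : IsCompl (comS y) (fixS y) := by
  rw [isCompl_comm]
  have h1 := h.inf_eq
  refine ⟨disjoint_iff.2 h1, codisjoint_iff.2 ?_⟩
  apply Submodule.eq_top_of_finrank_eq
  have h2 := Submodule.finrank_sup_add_finrank_inf_eq (fixS y) (comS y)
  rw [h1, finrank_bot, add_zero] at h2
  have h3 : finrank K (comS y) + finrank K (fixS y) = finrank K V :=
    LinearMap.finrank_range_add_finrank_ker ((y : V →ₗ[K] V) - 1)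
  rw [h2, add_comm, h3]

theorem Big.comS_stable (u : V) (hu : u ∈ comS y) : y u ∈ comS y := by
  obtain ⟨w, rfl⟩ := mem_comS.1 hu
  exact ⟨y w, by simp⟩

theorem Big.comS_fix (u : V) (hu : u ∈ comS y) (hf : y u = u) : u = 0 := by
  have : u ∈ fixS y ⊓ comS y := ⟨mem_fixS.2 hf, hu⟩
  rwa [h.inf_eq, Submodule.mem_bot] at this

theorem Big.comS_ne : comS y ≠ ⊥ := by
  intro h0
  have h1 : y = 1 := by
    ext v
    have h2 : y v - v ∈ comS y := ⟨v, rfl⟩
    rw [h0, Submodule.mem_bot, sub_eq_zero] at h2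
    exact h2
  have h2 := h.ord
  rw [h1, orderOf_one] at h2
  exact h.prime.one_lt.ne h2

theorem Big.finrank_comS : finrank K (comS y) = orderOf (Nat.card K : ZMod r) := by
  obtain ⟨k, hk⟩ := ord_dvd_finrank h.prime (comS y) (fun s _ => by rw [h.pow_eq]; rfl) h.comS_stable
    h.comS_fix
  have h1 : finrank K (comS y) ≤ finrank K V := Submodule.finrank_le _
  have h2 := h.dim
  have h3 : finrank K (comS y) ≠ 0 := fun h0 => h.comS_ne (Submodule.finrank_eq_zero.1 h0)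
  rcases Nat.lt_or_ge k 2 with h4 | h4
  · interval_cases k
    · exact absurd (by rw [hk, mul_zero]) h3
    · rw [hk, mul_one]
  · have := Nat.mul_le_mul_left (orderOf (Nat.card K : ZMod r)) h4
    omega

theorem Big.irr (S : Submodule K V) (hS : S ≤ comS y) (hst : ∀ s ∈ S, y s ∈ S) (hne : S ≠ ⊥) : S = comS y := by
  obtain ⟨k, hk⟩ := ord_dvd_finrank h.prime S (fun s _ => by rw [h.pow_eq]; rfl) hst
    fun s hs => h.comS_fix s (hS hs)
  have h1 : finrank K S ≠ 0 := fun h0 => hne (Submodule.finrank_eq_zero.1 h0)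
  have h2 : 1 ≤ k := by
    rcases Nat.eq_zero_or_pos k with rfl | h2
    · exact absurd (by rw [hk, mul_zero]) h1
    · exact h2
  apply Submodule.eq_of_le_of_finrank_le hS
  rw [h.finrank_comS, hk]
  exact Nat.le_mul_of_pos_right _ h2

/-- the fixed space is small -/
theorem Big.finrank_fixS : finrank K (fixS y) < orderOf (Nat.card K : ZMod r) := by
  have h1 := Submodule.finrank_add_eq_of_isCompl h.isCompl
  rw [h.finrank_comS] at h1
  have := h.dim
  omega

/-- elements commuting with `y` stabilize the commutator space -/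
theorem Big.comm_comS {g : V →ₗ[K] V} (hg : ∀ v, g (y v) = y (g v)) (u : V) (hu : u ∈ comS y) : g u ∈ comS y := by
  obtain ⟨w, rfl⟩ := mem_comS.1 hu
  refine ⟨g w, ?_⟩
  show y (g w) - g w = g (y w - w)
  rw [map_sub, hg]

omit h [Finite K] [FiniteDimensional K V] in
theorem aeval_comm (p : K[X]) (v : V) : aeval (y : V →ₗ[K] V) p (y v) = y (aeval (y : V →ₗ[K] V) p v) := by
  have h1 : Commute (aeval (y : V →ₗ[K] V) p) (y : V →ₗ[K] V) := by
    have := Polynomial.aeval_X (R := K) (y : V →ₗ[K] V)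
    conv => arg 2; rw [← this]
    exact (Commute.all p X).map (aeval (y : V →ₗ[K] V))
  exact LinearMap.congr_fun h1.eq v

/-- a nonzero vector of the commutator space generates it -/
theorem Big.exists_aeval {u₀ : V} (hu₀ : u₀ ∈ comS y) (h0 : u₀ ≠ 0) (u : V) (hu : u ∈ comS y) :
    ∃ p : K[X], aeval (y : V →ₗ[K] V) p u₀ = u := by
  let L : K[X] →ₗ[K] V :=
    { toFun := fun p => aeval (y : V →ₗ[K] V) p u₀
      map_add' := fun p p' => by rw [map_add]; rfl
      map_smul' := fun c p => by rw [map_smul]; rfl }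
  have h1 : LinearMap.range L = comS y := by
    apply h.irr
    · rintro _ ⟨p, rfl⟩
      exact h.comm_comS (fun v => aeval_comm p v) u₀ hu₀
    · rintro _ ⟨p, rfl⟩
      refine ⟨X * p, ?_⟩
      show aeval (y : V →ₗ[K] V) (X * p) u₀ = y (aeval (y : V →ₗ[K] V) p u₀)
      rw [map_mul, aeval_X]
      rfl
    · intro hb
      apply h0
      have : L 1 ∈ LinearMap.range L := ⟨1, rfl⟩
      rw [hb, Submodule.mem_bot] at this
      have h2 : L 1 = u₀ := by
        show aeval (y : V →ₗ[K] V) 1 u₀ = u₀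
        rw [map_one]
        rfl
      rwa [h2] at this
  rw [← h1] at hu
  obtain ⟨p, hp⟩ := hu
  exact ⟨p, hp⟩

/-- everything commuting with `y` is a polynomial in `y` on the commutator space -/
theorem Big.exists_poly {g : V →ₗ[K] V} (hg : ∀ v, g (y v) = y (g v)) :
    ∃ p : K[X], ∀ u ∈ comS y, g u = aeval (y : V →ₗ[K] V) p u := by
  obtain ⟨u₀, hu₀, h0⟩ := Submodule.exists_mem_ne_zero_of_ne_bot h.comS_ne
  obtain ⟨p, hp⟩ := h.exists_aeval hu₀ h0 (g u₀) (h.comm_comS hg u₀ hu₀)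
  refine ⟨p, fun u hu => ?_⟩
  obtain ⟨s, rfl⟩ := h.exists_aeval hu₀ h0 u hu
  have h1 : ∀ (s : K[X]) (v : V), g (aeval (y : V →ₗ[K] V) s v) = aeval (y : V →ₗ[K] V) s (g v) := by
    intro s v
    have h2 : Commute g (y : V →ₗ[K] V) := LinearMap.ext fun v => hg v
    have h3 : Commute g (aeval (y : V →ₗ[K] V) s) := by
      induction s using Polynomial.induction_on' with
      | add p q hp hq => rw [map_add]; exact hp.add_right hq
      | monomial n a =>
        rw [aeval_monomial]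
        exact Commute.mul_right (Algebra.commutes' a g).symm (h2.pow_right n)
    exact LinearMap.congr_fun h3.eq v
  rw [h1, ← hp]
  have h4 : Commute (aeval (y : V →ₗ[K] V) s) (aeval (y : V →ₗ[K] V) p) :=
    (Commute.all s p).map (aeval (y : V →ₗ[K] V))
  exact LinearMap.congr_fun h4.eq u₀

/-- two elements commuting with `y` commute on the commutator space -/
theorem Big.comm_of_comm {g k : V →ₗ[K] V} (hg : ∀ v, g (y v) = y (g v)) (hk : ∀ v, k (y v) = y (k v)) (u : V)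
    (hu : u ∈ comS y) : g (k u) = k (g u) := by
  obtain ⟨p, hp⟩ := h.exists_poly hg
  obtain ⟨s, hs⟩ := h.exists_poly hk
  rw [hs u hu, hp _ (h.comm_comS (fun v => aeval_comm s v) u hu), hp u hu,
    hs _ (h.comm_comS (fun v => aeval_comm p v) u hu)]
  exact LinearMap.congr_fun ((Commute.all p s).map (aeval (y : V →ₗ[K] V))).eq u

/-- a linear map commuting with `y` is zero or injective on the commutator space -/
theorem Big.zero_or_inj {g : V →ₗ[K] V} (hg : ∀ v, g (y v) = y (g v)) :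
    (∀ u ∈ comS y, g u = 0) ∨ ∀ u ∈ comS y, g u = 0 → u = 0 := by
  by_cases hb : LinearMap.ker g ⊓ comS y = ⊥
  · right
    intro u hu hgu
    have : u ∈ LinearMap.ker g ⊓ comS y := ⟨hgu, hu⟩
    rwa [hb, Submodule.mem_bot] at this
  · left
    have h1 := h.irr (LinearMap.ker g ⊓ comS y) inf_le_right (by
      rintro s ⟨hs1, hs2⟩
      refine ⟨?_, h.comS_stable s hs2⟩
      rw [SetLike.mem_coe, LinearMap.mem_ker] at hs1 ⊢
      rw [hg, hs1, map_zero]) hb
    intro u hu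
    rw [← h1] at hu
    exact hu.1

/-- `p`-elements commuting with `y` are trivial on the commutator space -/
theorem Big.trivial_of_char {p : ℕ} [CharP K p] [Fact p.Prime] {g : V ≃ₗ[K] V} (hg : Commute g y) {j : ℕ}
    (hj : g ^ p ^ j = 1) (u : V) (hu : u ∈ comS y) : g u = u := by
  have hgv : ∀ v, g (y v) = y (g v) := fun v => LinearEquiv.congr_fun hg.eq v
  have hc : ∀ v, ((g : V →ₗ[K] V) - 1) (y v) = y (((g : V →ₗ[K] V) - 1) v) := by
    intro v
    rw [LinearMap.sub_apply, LinearMap.sub_apply, map_sub]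
    congr 1
    exact hgv v
  rcases h.zero_or_inj hc with h1 | h1
  · exact sub_eq_zero.1 (h1 u hu)
  · exfalso
    obtain ⟨u₀, hu₀, h0⟩ := Submodule.exists_mem_ne_zero_of_ne_bot h.comS_ne
    have h2 : ((g : V →ₗ[K] V) - 1) ^ p ^ j = 0 := by
      have hp2 : CharP (V →ₗ[K] V) p := by
        have : Nontrivial V := ⟨u₀, 0, h0⟩
        exact charP_of_injective_algebraMap (algebraMap K (Module.End K V)).injective p
      have h3 : Commute (g : V →ₗ[K] V) 1 := Commute.one_right _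
      have h4 := sub_pow_char_pow_of_commute (R := Module.End K V) (p := p) (n := j) h3
      rw [one_pow] at h4
      have h5 : ((g : V →ₗ[K] V)) ^ p ^ j = 1 := by
        have : ∀ n : ℕ, ((g : V →ₗ[K] V)) ^ n = ((g ^ n : V ≃ₗ[K] V) : V →ₗ[K] V) := by
          intro n
          induction n with
          | zero => rfl
          | succ n ih =>
            rw [pow_succ, pow_succ, ih]
            rfl
        rw [this, hj]
        rfl
      rw [h5, sub_self] at h4
      exact h4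
    have h3 : ∀ n : ℕ, ∀ v ∈ comS y, (((g : V →ₗ[K] V) - 1) ^ n) v = 0 → v = 0 := by
      intro n
      induction n with
      | zero => intro v _ hv; exact hv
      | succ n ih =>
        intro v hv hv0
        rw [pow_succ'] at hv0
        have h4 : (((g : V →ₗ[K] V) - 1) ^ n) v = 0 := by
          refine h1 _ ?_ hv0
          have hcn : ∀ n : ℕ, ∀ v ∈ comS y, (((g : V →ₗ[K] V) - 1) ^ n) v ∈ comS y := by
            intro n
            induction n with
            | zero => intro v hv; exact hv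
            | succ n ih =>
              intro v hv
              rw [pow_succ']
              exact h.comm_comS hc _ (ih v hv)
          exact hcn n v hv
        exact ih v hv h4
    exact h0 (h3 (p ^ j) u₀ hu₀ (by rw [h2]; rfl))

/-- elements of `r`-power order stabilizing the fixed space are trivial on it -/
theorem Big.trivial_fixS {g : V ≃ₗ[K] V} (hst : ∀ v ∈ fixS y, g v ∈ fixS y) {j : ℕ} (hj : g ^ r ^ j = 1) (w : V)
    (hw : w ∈ fixS y) : g w = w := by
  classical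
  by_contra hne
  -- a power acting with order `r`
  have hst' : ∀ (n : ℕ), ∀ v ∈ fixS y, (g ^ n) v ∈ fixS y := by
    intro n
    induction n with
    | zero => intro v hv; exact hv
    | succ n ih => intro v hv; rw [pow_apply_succ]; exact hst _ (ih v hv)
  have hex : ∃ i : ℕ, ∀ v ∈ fixS y, (g ^ r ^ i) v = v := ⟨j, fun v _ => by rw [hj]; rfl⟩
  obtain ⟨i', hi1, hlt⟩ : ∃ i' : ℕ, (∀ v ∈ fixS y, (g ^ r ^ (i' + 1)) v = v) ∧ ¬ ∀ v ∈ fixS y, (g ^ r ^ i') v = v := by
    have hi1 := Nat.find_spec hex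
    have hi0 : Nat.find hex ≠ 0 := by
      intro h0
      rw [h0, pow_zero, pow_one] at hi1
      exact hne (hi1 w hw)
    refine ⟨Nat.find hex - 1, ?_, Nat.find_min hex (by omega)⟩
    rw [Nat.sub_add_cancel (Nat.one_le_iff_ne_zero.2 hi0)]
    exact hi1
  push Not at hlt
  obtain ⟨v, hv, hvne⟩ := hlt
  -- the commutator space of `k = g ^ r ^ i'` on the fixed space
  set k := g ^ r ^ i' with hk
  have hkr : ∀ v ∈ fixS y, (k ^ r) v = v := by
    intro v hv
    rw [hk, ← pow_mul, ← pow_succ]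
    exact hi1 v hv
  let S : Submodule K V := (fixS y).map ((k : V →ₗ[K] V) - 1)
  have hSle : S ≤ fixS y := by
    rintro _ ⟨x, hx, rfl⟩
    exact (fixS y).sub_mem (hst' _ x hx) hx
  have hSne : S ≠ ⊥ := by
    intro hb
    have h1 : ((k : V →ₗ[K] V) - 1) v ∈ S := ⟨v, hv, rfl⟩
    rw [hb, Submodule.mem_bot] at h1
    exact hvne (sub_eq_zero.1 h1)
  -- restrict to `S`: no fixed vectors
  have hSst : ∀ s ∈ S, k s ∈ S := by
    rintro _ ⟨x, hx, rfl⟩
    refine ⟨k x, hst' _ x hx, ?_⟩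
    rw [LinearMap.sub_apply, LinearMap.sub_apply, map_sub]
    rfl
  have hSfix : ∀ s ∈ S, k s = s → s = 0 := by
    rintro _ ⟨x, hx, rfl⟩ hs
    set s := ((k : V →ₗ[K] V) - 1) x with hsdef
    have h1 : ∀ n : ℕ, (k ^ n) x = x + (n : K) • s := by
      intro n
      induction n with
      | zero => simp only [_root_.pow_zero, _root_.LinearEquiv.coe_one, _root_.id_eq, _root_.Nat.cast_zero, _root_.zero_smul, _root_.add_zero]
      | succ n ih =>
        rw [pow_apply_succ, ih, map_add, map_smul, hs]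
        have : k x = x + s := by rw [hsdef, LinearMap.sub_apply]; show k x = x + (k x - x); abel
        rw [this]
        push_cast
        rw [add_smul, one_smul]
        abel
    have h2 := h1 r
    rw [hkr x hx] at h2
    have h3 : (r : K) • s = 0 := add_eq_left.1 h2.symm
    exact (smul_eq_zero.1 h3).resolve_left h.r_ne
  -- the dimension
  have h1 : orderOf (Nat.card K : ZMod r) ∣ finrank K S :=
    ord_dvd_finrank h.prime S (fun s hs => hkr s (hSle hs)) hSst hSfix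
  have h2 : finrank K S ≠ 0 := fun h0 => hSne (Submodule.finrank_eq_zero.1 h0)
  have h3 := Nat.le_of_dvd (Nat.pos_of_ne_zero h2) h1
  have h4 := Submodule.finrank_mono hSle
  have h5 := h.finrank_fixS
  omega

end

end Cfsg.Agent.H477.OZ
end

-- part: H477/OZ/Iso
section
/-!
# Big elements in isometry groups (S4842, helper477)

`y : F.iso` with `Big y r`: `V = [V,y] ⊥ C_V(y)`; glueing; the torus `T` of the norm one elements.
-/

set_option autoImplicit false
set_option linter.unusedSectionVars false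

namespace Cfsg.Agent.H477.OZ

open Module Polynomial Cfsg.Agent.H477.HC

universe u v

variable {K : Type u} [Field K] {V : Type v} [AddCommGroup V] [Module K V] (F : CForm K V)

theorem B_com_fix {y : F.iso} {u w : V} (hu : u ∈ comS (y : V ≃ₗ[K] V)) (hw : w ∈ fixS (y : V ≃ₗ[K] V)) :
    F.B u w = 0 := by
  obtain ⟨v, rfl⟩ := mem_comS.1 hu
  rw [mem_fixS] at hw
  rw [F.B_sub_left]
  conv_lhs => arg 1; rw [← hw, F.iso_B]
  rw [sub_self]

theorem B_fix_com {y : F.iso} {u w : V} (hu : u ∈ comS (y : V ≃ₗ[K] V)) (hw : w ∈ fixS (y : V ≃ₗ[K] V)) :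
    F.B w u = 0 := F.B_eq_zero (B_com_fix F hu hw)

theorem Q_com_fix {y : F.iso} {u w : V} (hu : u ∈ comS (y : V ≃ₗ[K] V)) (hw : w ∈ fixS (y : V ≃ₗ[K] V)) :
    F.Q (u + w) = F.Q u + F.Q w := by
  rw [F.Q_add, B_com_fix F hu hw, F.T_zero, add_zero]

variable [Finite K] [FiniteDimensional K V]

variable {F} {y : F.iso} {r : ℕ} (h : Big (y : V ≃ₗ[K] V) r)

include h

theorem Big.nondeg_com (u : V) (hu : u ∈ comS (y : V ≃ₗ[K] V)) (h0 : ∀ v ∈ comS (y : V ≃ₗ[K] V), F.B v u = 0) :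
    u = 0 := by
  refine F.nondeg u fun x => ?_
  obtain ⟨a, ha, b, hb, rfl⟩ := Submodule.mem_sup.1 (h.isCompl.sup_eq_top ▸ Submodule.mem_top : x ∈ comS (y : V ≃ₗ[K] V) ⊔ fixS (y : V ≃ₗ[K] V))
  rw [F.B_add_right, F.B_eq_zero (h0 a ha), B_com_fix F hu hb, add_zero]

/-- glueing isometries of the two parts -/
theorem Big.glue (a b : V →ₗ[K] V) (ha : ∀ u ∈ comS (y : V ≃ₗ[K] V), a u ∈ comS (y : V ≃ₗ[K] V))
    (hb : ∀ w ∈ fixS (y : V ≃ₗ[K] V), b w ∈ fixS (y : V ≃ₗ[K] V))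
    (haB : ∀ u ∈ comS (y : V ≃ₗ[K] V), ∀ v ∈ comS (y : V ≃ₗ[K] V), F.B (a u) (a v) = F.B u v)
    (haQ : ∀ u ∈ comS (y : V ≃ₗ[K] V), F.Q (a u) = F.Q u)
    (hbB : ∀ u ∈ fixS (y : V ≃ₗ[K] V), ∀ v ∈ fixS (y : V ≃ₗ[K] V), F.B (b u) (b v) = F.B u v)
    (hbQ : ∀ u ∈ fixS (y : V ≃ₗ[K] V), F.Q (b u) = F.Q u) :
    ∃ t : F.iso, (∀ u ∈ comS (y : V ≃ₗ[K] V), (t : V ≃ₗ[K] V) u = a u) ∧
      ∀ w ∈ fixS (y : V ≃ₗ[K] V), (t : V ≃ₗ[K] V) w = b w := by
  have hcompl := h.isCompl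
  generalize hU : comS (y : V ≃ₗ[K] V) = U at *
  generalize hW : fixS (y : V ≃ₗ[K] V) = W at *
  let pU : V →ₗ[K] V := U.subtype ∘ₗ U.projectionOnto W hcompl
  let f : V →ₗ[K] V := a ∘ₗ pU + b ∘ₗ (1 - pU)
  have hpU : ∀ u ∈ U, pU u = u := fun u hu => by
    show ((U.projectionOnto W hcompl) u : V) = u
    have := Submodule.projectionOnto_apply_left hcompl ⟨u, hu⟩
    exact congrArg Subtype.val this
  have hpW : ∀ w ∈ W, pU w = 0 := fun w hw => by
    show ((U.projectionOnto W hcompl) w : V) = 0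
    have := Submodule.projectionOnto_apply_right hcompl ⟨w, hw⟩
    exact congrArg Subtype.val this
  have hfU : ∀ u ∈ U, f u = a u := fun u hu => by
    show a (pU u) + b (u - pU u) = a u
    rw [hpU u hu, sub_self, map_zero, add_zero]
  have hfW : ∀ w ∈ W, f w = b w := fun w hw => by
    show a (pU w) + b (w - pU w) = b w
    rw [hpW w hw, sub_zero, map_zero, zero_add]
  have hdec : ∀ x : V, ∃ u ∈ U, ∃ w ∈ W, u + w = x := fun x =>
    Submodule.mem_sup.1 (hcompl.sup_eq_top ▸ Submodule.mem_top : x ∈ U ⊔ W)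
  have hUW : ∀ {u w : V}, u ∈ U → w ∈ W → F.B u w = 0 := fun hu hw => by subst hU hW; exact B_com_fix F hu hw
  have hWU : ∀ {u w : V}, u ∈ U → w ∈ W → F.B w u = 0 := fun hu hw => by subst hU hW; exact B_fix_com F hu hw
  have hQUW : ∀ {u w : V}, u ∈ U → w ∈ W → F.Q (u + w) = F.Q u + F.Q w := fun hu hw => by
    subst hU hW; exact Q_com_fix F hu hw
  obtain ⟨t, ht⟩ := F.exists_iso f (by
      intro x x'
      obtain ⟨u, hu, w, hw, rfl⟩ := hdec x
      obtain ⟨u', hu', w', hw', rfl⟩ := hdec x'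
      rw [map_add, map_add, hfU u hu, hfU u' hu', hfW w hw, hfW w' hw', F.B_add_left, F.B_add_left,
        F.B_add_right, F.B_add_right, F.B_add_right, F.B_add_right, haB u hu u' hu', hbB w hw w' hw',
        hUW (ha u hu) (hb w' hw'), hWU (ha u' hu') (hb w hw), hUW hu hw', hWU hu' hw]) (by
      intro x
      obtain ⟨u, hu, w, hw, rfl⟩ := hdec x
      rw [map_add, hfU u hu, hfW w hw, hQUW (ha u hu) (hb w hw), hQUW hu hw, haQ u hu, hbQ w hw])
  exact ⟨t, fun u hu => by rw [ht, hfU u hu], fun w hw => by rw [ht, hfW w hw]⟩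

/-- an isometry stabilizing the fixed space stabilizes the commutator space -/
theorem Big.stable_com {g : F.iso} (hg : ∀ w ∈ fixS (y : V ≃ₗ[K] V), (g : V ≃ₗ[K] V) w ∈ fixS (y : V ≃ₗ[K] V)) (u : V)
    (hu : u ∈ comS (y : V ≃ₗ[K] V)) : (g : V ≃ₗ[K] V) u ∈ comS (y : V ≃ₗ[K] V) := by
  -- `g` maps `W` onto `W`
  have hsurj : ∀ w ∈ fixS (y : V ≃ₗ[K] V), ∃ w' ∈ fixS (y : V ≃ₗ[K] V), (g : V ≃ₗ[K] V) w' = w := by
    intro w hw
    have h1 : (fixS (y : V ≃ₗ[K] V)).map ((g : V ≃ₗ[K] V) : V →ₗ[K] V) = fixS (y : V ≃ₗ[K] V) := by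
      apply Submodule.eq_of_le_of_finrank_eq
      · rintro _ ⟨x, hx, rfl⟩
        exact hg x hx
      · exact LinearEquiv.finrank_map_eq (g : V ≃ₗ[K] V) _
    rw [← h1] at hw
    obtain ⟨x, hx, hxw⟩ := hw
    exact ⟨x, hx, hxw⟩
  obtain ⟨a, ha, b, hb, hab⟩ := Submodule.mem_sup.1 (h.isCompl.sup_eq_top ▸ Submodule.mem_top :
    (g : V ≃ₗ[K] V) u ∈ comS (y : V ≃ₗ[K] V) ⊔ fixS (y : V ≃ₗ[K] V))
  have hb0 : b = 0 := by
    refine F.nondeg b fun x => ?_
    obtain ⟨c, hc, d, hd, rfl⟩ := Submodule.mem_sup.1 (h.isCompl.sup_eq_top ▸ Submodule.mem_top :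
      x ∈ comS (y : V ≃ₗ[K] V) ⊔ fixS (y : V ≃ₗ[K] V))
    obtain ⟨d', hd', rfl⟩ := hsurj d hd
    have h1 : F.B b ((g : V ≃ₗ[K] V) d') = 0 := by
      have h2 : b = (g : V ≃ₗ[K] V) u - a := by rw [← hab]; abel
      rw [h2, F.B_sub_left, F.iso_B, B_com_fix F hu hd', B_com_fix F ha hd, sub_zero]
    rw [F.B_add_right, h1, B_fix_com F hc hb, add_zero]
  rw [← hab, hb0, add_zero]
  exact ha

end Cfsg.Agent.H477.OZ
end

-- part: H477/OZ/Torus
section
/-!
# The torus of the norm one elements (S4842, helper477)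

`torus y` : the isometries commuting with `y` and trivial on `C_V(y)`; `|torus y| ≥ q ^ k + 1` if `D = 2 k`
(`card_torus`).
-/

set_option autoImplicit false
set_option linter.unusedSectionVars false

namespace Cfsg.Agent.H477.OZ

open Module Polynomial Cfsg.Agent.H477.HC

universe u v

variable {K : Type u} [Field K] {V : Type v} [AddCommGroup V] [Module K V] (F : CForm K V)

/-- isometries commuting with `y` and trivial on the fixed space of `y` -/
def torus (y : F.iso) : Subgroup F.iso where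
  carrier := {t | Commute t y ∧ ∀ w ∈ fixS (y : V ≃ₗ[K] V), (t : V ≃ₗ[K] V) w = w}
  one_mem' := ⟨Commute.one_left y, fun _ _ => rfl⟩
  mul_mem' := by
    rintro a b ⟨ha, ha'⟩ ⟨hb, hb'⟩
    refine ⟨ha.mul_left hb, fun w hw => ?_⟩
    show (a : V ≃ₗ[K] V) ((b : V ≃ₗ[K] V) w) = w
    rw [hb' w hw, ha' w hw]
  inv_mem' := by
    rintro a ⟨ha, ha'⟩
    refine ⟨ha.inv_left, fun w hw => ?_⟩
    conv_lhs => rw [← ha' w hw]
    exact (a : V ≃ₗ[K] V).symm_apply_apply w

theorem coe_inv_apply (y : F.iso) (v : V) : ((y⁻¹ : F.iso) : V ≃ₗ[K] V) ((y : V ≃ₗ[K] V) v) = v :=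
  (y : V ≃ₗ[K] V).symm_apply_apply v

theorem coe_apply_inv (y : F.iso) (v : V) : (y : V ≃ₗ[K] V) (((y⁻¹ : F.iso) : V ≃ₗ[K] V) v) = v :=
  (y : V ≃ₗ[K] V).apply_symm_apply v

/-- the adjoint of a polynomial in `y` -/
theorem adj_poly (hσ : ∀ a, F.σ a = a) (y : F.iso) (p : K[X]) (v w : V) :
    F.B (aeval ((y : V ≃ₗ[K] V) : V →ₗ[K] V) p v) w =
      F.B v (aeval (((y⁻¹ : F.iso) : V ≃ₗ[K] V) : V →ₗ[K] V) p w) := by
  have hpow : ∀ (n : ℕ) (v w : V), F.B ((((y : V ≃ₗ[K] V) : V →ₗ[K] V) ^ n) v) w =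
      F.B v (((((y⁻¹ : F.iso) : V ≃ₗ[K] V) : V →ₗ[K] V) ^ n) w) := by
    intro n
    induction n with
    | zero => intro v w; rfl
    | succ n ih =>
      intro v w
      rw [pow_succ, pow_succ']
      show F.B ((((y : V ≃ₗ[K] V) : V →ₗ[K] V) ^ n) ((y : V ≃ₗ[K] V) v)) w =
        F.B v (((y⁻¹ : F.iso) : V ≃ₗ[K] V) (((((y⁻¹ : F.iso) : V ≃ₗ[K] V) : V →ₗ[K] V) ^ n) w))
      rw [ih, ← F.iso_B y v, coe_apply_inv]
  induction p using Polynomial.induction_on' with
  | add p q hp hq => rw [map_add, map_add, LinearMap.add_apply, LinearMap.add_apply, F.B_add_left, F.B_add_right, hp, hq]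
  | monomial n a =>
    rw [aeval_monomial, aeval_monomial]
    show F.B (a • ((((y : V ≃ₗ[K] V) : V →ₗ[K] V) ^ n) v)) w =
      F.B v (a • (((((y⁻¹ : F.iso) : V ≃ₗ[K] V) : V →ₗ[K] V) ^ n) w))
    rw [F.B_smul_left, F.B_smul_right, hσ, hpow]

theorem comm_inv (y : F.iso) (p : K[X]) (v : V) :
    aeval (((y⁻¹ : F.iso) : V ≃ₗ[K] V) : V →ₗ[K] V) p ((y : V ≃ₗ[K] V) v) =
      (y : V ≃ₗ[K] V) (aeval (((y⁻¹ : F.iso) : V ≃ₗ[K] V) : V →ₗ[K] V) p v) := by
  have h1 := aeval_comm (y := ((y⁻¹ : F.iso) : V ≃ₗ[K] V)) p ((y : V ≃ₗ[K] V) v)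
  rw [coe_inv_apply] at h1
  rw [h1, coe_apply_inv]

theorem commute_aeval {f g : Module.End K V} (hfg : Commute f g) (s : K[X]) : Commute f (aeval g s) := by
  induction s using Polynomial.induction_on' with
  | add p q hp hq => rw [map_add]; exact hp.add_right hq
  | monomial n a =>
    rw [aeval_monomial]
    exact Commute.mul_right (Algebra.commutes' a f).symm (hfg.pow_right n)

theorem commute_aeval' {f g : Module.End K V} (hfg : Commute f g) (p s : K[X]) :
    Commute (aeval f p) (aeval g s) := (commute_aeval (commute_aeval hfg s).symm p).symm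

theorem commute_inv (y : F.iso) : Commute (((y : V ≃ₗ[K] V) : V →ₗ[K] V) : Module.End K V)
    (((y⁻¹ : F.iso) : V ≃ₗ[K] V) : V →ₗ[K] V) := by
  refine LinearMap.ext fun v => ?_
  show (y : V ≃ₗ[K] V) (((y⁻¹ : F.iso) : V ≃ₗ[K] V) v) = ((y⁻¹ : F.iso) : V ≃ₗ[K] V) ((y : V ≃ₗ[K] V) v)
  rw [coe_apply_inv, coe_inv_apply]

variable [Finite K] [FiniteDimensional K V]

variable {F} {y : F.iso} {r : ℕ} (h : Big (y : V ≃ₗ[K] V) r)

include h

/-- a polynomial in `y` is zero on the commutator space iff the polynomial in `y⁻¹` is -/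
theorem Big.inv_zero (hσ : ∀ a, F.σ a = a) {p : K[X]}
    (hp : ∀ u ∈ comS (y : V ≃ₗ[K] V), aeval ((y : V ≃ₗ[K] V) : V →ₗ[K] V) p u = 0) (u : V)
    (hu : u ∈ comS (y : V ≃ₗ[K] V)) : aeval (((y⁻¹ : F.iso) : V ≃ₗ[K] V) : V →ₗ[K] V) p u = 0 := by
  refine h.nondeg_com _ (h.comm_comS (fun v => comm_inv F y p v) u hu) fun v hv => ?_
  rw [← adj_poly F hσ, hp v hv, F.B_zero_left]

theorem Big.poly_zero_of {p : K[X]} {u₀ : V} (hu₀ : u₀ ∈ comS (y : V ≃ₗ[K] V)) (h0 : u₀ ≠ 0)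
    (hp : aeval ((y : V ≃ₗ[K] V) : V →ₗ[K] V) p u₀ = 0) (u : V) (hu : u ∈ comS (y : V ≃ₗ[K] V)) :
    aeval ((y : V ≃ₗ[K] V) : V →ₗ[K] V) p u = 0 := by
  rcases h.zero_or_inj (fun v => aeval_comm (y := (y : V ≃ₗ[K] V)) p v) with h1 | h1
  · exact h1 u hu
  · exact absurd (h1 u₀ hu₀ hp) h0

theorem Big.odd (h2 : 2 ≤ orderOf (Nat.card K : ZMod r)) : r ≠ 2 := by
  rintro rfl
  have h1 : (Nat.card K : ZMod 2) ^ 1 = 1 := by
    rw [pow_one]
    exact ZMod.natCast_eq_one_iff_odd.2 (Nat.not_even_iff_odd.1 fun he => h.ndvd he.two_dvd)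
  have := Nat.le_of_dvd one_pos (orderOf_dvd_of_pow_eq_one h1)
  omega

/-- the space of the self-adjoint elements -/
def sa (y : F.iso) (u₀ : V) : Submodule K V where
  carrier := {x | ∃ p : K[X], aeval ((y : V ≃ₗ[K] V) : V →ₗ[K] V) p u₀ = x ∧
    aeval (((y⁻¹ : F.iso) : V ≃ₗ[K] V) : V →ₗ[K] V) p u₀ = x}
  zero_mem' := ⟨0, by simp, by simp⟩
  add_mem' := by
    rintro _ _ ⟨p, hp, hp'⟩ ⟨s, hs, hs'⟩
    refine ⟨p + s, ?_, ?_⟩
    · rw [map_add, LinearMap.add_apply, hp, hs]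
    · rw [map_add, LinearMap.add_apply, hp', hs']
  smul_mem' := by
    rintro c _ ⟨p, hp, hp'⟩
    refine ⟨c • p, ?_, ?_⟩
    · rw [map_smul, LinearMap.smul_apply, hp]
    · rw [map_smul, LinearMap.smul_apply, hp']

theorem Big.finrank_sa (hσ : ∀ a, F.σ a = a) (h2 : 2 ≤ orderOf (Nat.card K : ZMod r)) {u₀ : V}
    (hu₀ : u₀ ∈ comS (y : V ≃ₗ[K] V)) (h0 : u₀ ≠ 0) :
    finrank K (sa y u₀) + finrank K (sa y u₀) ≤ orderOf (Nat.card K : ZMod r) := by
  have hle : ∀ x ∈ sa y u₀, x ∈ comS (y : V ≃ₗ[K] V) := by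
    rintro _ ⟨p, rfl, -⟩
    exact h.comm_comS (fun v => aeval_comm (y := (y : V ≃ₗ[K] V)) p v) u₀ hu₀
  let L : (sa y u₀) × (sa y u₀) →ₗ[K] comS (y : V ≃ₗ[K] V) :=
    { toFun := fun a => ⟨(a.1 : V) + (y : V ≃ₗ[K] V) a.2,
        (comS (y : V ≃ₗ[K] V)).add_mem (hle _ a.1.2) (h.comS_stable _ (hle _ a.2.2))⟩
      map_add' := fun a b => by
        apply Subtype.ext
        show ((a.1 : V) + (b.1 : V)) + (y : V ≃ₗ[K] V) ((a.2 : V) + (b.2 : V)) =
          ((a.1 : V) + (y : V ≃ₗ[K] V) a.2) + ((b.1 : V) + (y : V ≃ₗ[K] V) b.2)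
        rw [map_add]
        abel
      map_smul' := fun c a => by
        apply Subtype.ext
        show c • (a.1 : V) + (y : V ≃ₗ[K] V) (c • (a.2 : V)) = c • ((a.1 : V) + (y : V ≃ₗ[K] V) a.2)
        rw [map_smul, smul_add] }
  have hinj : Function.Injective L := by
    rw [← LinearMap.ker_eq_bot, Submodule.eq_bot_iff]
    rintro ⟨⟨x, p, hp, hp'⟩, ⟨x', p', hs, hs'⟩⟩ hL
    have hL' : x + (y : V ≃ₗ[K] V) x' = 0 := congrArg Subtype.val (LinearMap.mem_ker.1 hL)
    -- the polynomial `p + X p'` kills `u₀`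
    have h1 : aeval ((y : V ≃ₗ[K] V) : V →ₗ[K] V) (p + X * p') u₀ = 0 := by
      rw [map_add, map_mul, aeval_X, LinearMap.add_apply, hp]
      show x + (y : V ≃ₗ[K] V) (aeval ((y : V ≃ₗ[K] V) : V →ₗ[K] V) p' u₀) = 0
      rw [hs, hL']
    have h3 := h.inv_zero hσ (fun u hu => h.poly_zero_of hu₀ h0 h1 u hu) u₀ hu₀
    rw [map_add, map_mul, aeval_X, LinearMap.add_apply, hp'] at h3
    have h4 : x + ((y⁻¹ : F.iso) : V ≃ₗ[K] V) x' = 0 := by
      rw [← hs']
      exact h3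
    have h5 : (y : V ≃ₗ[K] V) x' = ((y⁻¹ : F.iso) : V ≃ₗ[K] V) x' := by
      have := hL'.trans h4.symm
      exact add_left_cancel this
    have h6 : ((y : V ≃ₗ[K] V) ^ 2) x' = x' := by
      rw [pow_two]
      show (y : V ≃ₗ[K] V) ((y : V ≃ₗ[K] V) x') = x'
      rw [h5, coe_apply_inv]
    have h7 : (y : V ≃ₗ[K] V) x' = x' := by
      have hodd : Odd r := h.prime.odd_of_ne_two (h.odd h2)
      obtain ⟨j, hj⟩ := hodd
      have h8 : ∀ n : ℕ, (((y : V ≃ₗ[K] V) ^ 2) ^ n) x' = x' := by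
        intro n
        induction n with
        | zero => rfl
        | succ n ih => rw [pow_apply_succ, ih, h6]
      have h9 : ((y : V ≃ₗ[K] V) ^ r) x' = x' := by rw [h.pow_eq]; rfl
      rw [hj, pow_apply_succ, pow_mul, h8 j] at h9
      exact h9
    have hx' : x' = 0 := h.comS_fix x' (hle x' ⟨p', hs, hs'⟩) h7
    have hx : x = 0 := by rw [hx', map_zero, add_zero] at hL'; exact hL'
    refine Prod.ext (Subtype.ext hx) (Subtype.ext hx')
  have h1 := LinearMap.finrank_le_finrank_of_injective hinj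
  rw [Module.finrank_prod, h.finrank_comS] at h1
  exact h1

/-- **The order of the torus.** -/
theorem Big.card_torus (hσ : ∀ a, F.σ a = a) {k : ℕ} (hk : 1 ≤ k) (hD : orderOf (Nat.card K : ZMod r) = 2 * k)
    (hQ : ∀ a : V →ₗ[K] V, (∀ v, a ((y : V ≃ₗ[K] V) v) = (y : V ≃ₗ[K] V) (a v)) →
      (∀ u ∈ comS (y : V ≃ₗ[K] V), ∀ v ∈ comS (y : V ≃ₗ[K] V), F.B (a u) (a v) = F.B u v) →
      ∀ u ∈ comS (y : V ≃ₗ[K] V), F.Q (a u) = F.Q u) :
    Nat.card K ^ k + 1 ≤ Nat.card (torus F y) := by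
  classical
  have : Finite V := Module.finite_of_finite K
  have : Finite (V ≃ₗ[K] V) := Finite.of_injective (fun e => (e : V → V)) (fun a b hab => LinearEquiv.ext fun v => congrFun hab v)
  have : Finite F.iso := Subtype.finite
  have := Fintype.ofFinite V
  obtain ⟨u₀, hu₀, h0⟩ := Submodule.exists_mem_ne_zero_of_ne_bot h.comS_ne
  set U := comS (y : V ≃ₗ[K] V) with hU
  -- the polynomials
  have hex : ∀ u : V, ∃ p : K[X], u ∈ U → aeval ((y : V ≃ₗ[K] V) : V →ₗ[K] V) p u₀ = u := by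
    intro u
    by_cases hu : u ∈ U
    · obtain ⟨p, hp⟩ := h.exists_aeval hu₀ h0 u hu
      exact ⟨p, fun _ => hp⟩
    · exact ⟨0, fun h' => absurd h' hu⟩
  choose P hP using hex
  let β : V → V := fun u => aeval (((y⁻¹ : F.iso) : V ≃ₗ[K] V) : V →ₗ[K] V) (P u)
    (aeval ((y : V ≃ₗ[K] V) : V →ₗ[K] V) (P u) u₀)
  let S : Finset V := Finset.univ.filter fun u => u ∈ U ∧ u ≠ 0
  have hcommP : ∀ (p s : K[X]) (v : V), aeval ((y : V ≃ₗ[K] V) : V →ₗ[K] V) p
      (aeval (((y⁻¹ : F.iso) : V ≃ₗ[K] V) : V →ₗ[K] V) s v) =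
      aeval (((y⁻¹ : F.iso) : V ≃ₗ[K] V) : V →ₗ[K] V) s (aeval ((y : V ≃ₗ[K] V) : V →ₗ[K] V) p v) :=
    fun p s v => LinearMap.congr_fun (commute_aeval' (commute_inv F y) p s).eq v
  have hS : ∀ u, u ∈ S ↔ u ∈ U ∧ u ≠ 0 := fun u => by simp [S]
  have hpowy : ∀ (z : F.iso) (n : ℕ), (((z : V ≃ₗ[K] V) : V →ₗ[K] V)) ^ n = ((z ^ n : F.iso) : V ≃ₗ[K] V) := by
    intro z n
    induction n with
    | zero => rfl
    | succ n ih => rw [pow_succ, pow_succ, ih]; rfl
  have hyr : y ^ r = 1 := by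
    apply Subtype.ext
    rw [Subgroup.coe_pow, h.pow_eq]
    rfl
  have hr1 : 1 ≤ r := h.prime.one_lt.le
  have hyi : y⁻¹ = y ^ (r - 1) := by
    rw [inv_eq_iff_mul_eq_one, ← pow_succ', Nat.sub_add_cancel hr1, hyr]
  have hyi' : y = (y⁻¹) ^ (r - 1) := by
    rw [inv_pow, ← hyi, inv_inv]
  have hUst : ∀ (p : K[X]), ∀ u ∈ U, aeval ((y : V ≃ₗ[K] V) : V →ₗ[K] V) p u ∈ U := fun p u hu =>
    h.comm_comS (fun v => aeval_comm (y := (y : V ≃ₗ[K] V)) p v) u hu
  have hUst' : ∀ (p : K[X]), ∀ u ∈ U, aeval (((y⁻¹ : F.iso) : V ≃ₗ[K] V) : V →ₗ[K] V) p u ∈ U := fun p u hu =>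
    h.comm_comS (fun v => comm_inv F y p v) u hu
  have hβsa : ∀ u, β u ∈ sa y u₀ := by
    intro u
    refine ⟨(P u).comp (X ^ (r - 1)) * P u, ?_, ?_⟩
    · rw [map_mul, aeval_comp, map_pow, aeval_X, hpowy, ← hyi]
      rfl
    · rw [map_mul, aeval_comp, map_pow, aeval_X, hpowy, ← hyi']
      exact hcommP _ _ _
  have hinjinv : ∀ p : K[X], (∀ u ∈ U, aeval (((y⁻¹ : F.iso) : V ≃ₗ[K] V) : V →ₗ[K] V) p u = 0) →
      ∀ u ∈ U, aeval ((y : V ≃ₗ[K] V) : V →ₗ[K] V) p u = 0 := by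
    intro p hp u hu
    refine h.nondeg_com _ (hUst p u hu) fun v hv => F.B_eq_zero ?_
    rw [adj_poly F hσ, hp v hv, F.B_zero_right]
  have hβ0 : ∀ u ∈ S, β u ≠ 0 := by
    intro u hu hb
    obtain ⟨huU, hu0⟩ := (hS u).1 hu
    have e1 : aeval (((y⁻¹ : F.iso) : V ≃ₗ[K] V) : V →ₗ[K] V) (P u) u = 0 := by
      conv_lhs => arg 2; rw [← hP u huU]
      exact hb
    rcases h.zero_or_inj (fun v => comm_inv F y (P u) v) with h1 | h1
    · exact hu0 (by rw [← hP u huU]; exact hinjinv _ h1 u₀ hu₀)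
    · exact hu0 (h1 u huU e1)
  -- the fibres
  have hfib : ∀ b ∈ S.image β, (S.filter fun u => β u = b).card ≤ Nat.card (torus F y) := by
    intro b hb
    obtain ⟨u₁, hu₁, rfl⟩ := Finset.mem_image.1 hb
    obtain ⟨hu₁U, hu₁0⟩ := (hS u₁).1 hu₁
    have := Fintype.ofFinite (torus F y)
    have hsub : (S.filter fun u => β u = β u₁) ⊆
        (Finset.univ : Finset (torus F y)).image fun t : torus F y => ((t : F.iso) : V ≃ₗ[K] V) u₁ := by
      intro u hu
      obtain ⟨huS, hub⟩ := Finset.mem_filter.1 hu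
      obtain ⟨huU, hu0⟩ := (hS u).1 huS
      obtain ⟨s, hs⟩ := h.exists_aeval hu₁U hu₁0 u huU
      -- `s(y) P_{u₁}(y) = P_u(y)` on `U`
      have h3 : ∀ v ∈ U, aeval ((y : V ≃ₗ[K] V) : V →ₗ[K] V) (s * P u₁ - P u) v = 0 := by
        apply h.poly_zero_of hu₀ h0
        rw [map_sub, map_mul, LinearMap.sub_apply, hP u huU]
        show aeval ((y : V ≃ₗ[K] V) : V →ₗ[K] V) s (aeval ((y : V ≃ₗ[K] V) : V →ₗ[K] V) (P u₁) u₀) - u = 0
        rw [hP u₁ hu₁U, hs, sub_self]
      have h4 := h.inv_zero hσ h3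
      -- `s(y⁻¹) s(y)` fixes `β u₁`
      have h5 : aeval (((y⁻¹ : F.iso) : V ≃ₗ[K] V) : V →ₗ[K] V) s (aeval ((y : V ≃ₗ[K] V) : V →ₗ[K] V) s (β u₁)) =
          β u₁ := by
        have e1 : β u = aeval (((y⁻¹ : F.iso) : V ≃ₗ[K] V) : V →ₗ[K] V) (s * P u₁)
            (aeval ((y : V ≃ₗ[K] V) : V →ₗ[K] V) (P u) u₀) := by
          have e2 := h4 _ (hUst (P u) u₀ hu₀)
          rw [map_sub, LinearMap.sub_apply, sub_eq_zero] at e2
          exact e2.symm
        have e3 : aeval ((y : V ≃ₗ[K] V) : V →ₗ[K] V) (P u) u₀ =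
            aeval ((y : V ≃ₗ[K] V) : V →ₗ[K] V) s (aeval ((y : V ≃ₗ[K] V) : V →ₗ[K] V) (P u₁) u₀) := by
          rw [hP u huU, hP u₁ hu₁U, hs]
        have e4 : β u = aeval (((y⁻¹ : F.iso) : V ≃ₗ[K] V) : V →ₗ[K] V) s
            (aeval ((y : V ≃ₗ[K] V) : V →ₗ[K] V) s (β u₁)) := by
          rw [e1, e3, map_mul]
          show aeval (((y⁻¹ : F.iso) : V ≃ₗ[K] V) : V →ₗ[K] V) s
            (aeval (((y⁻¹ : F.iso) : V ≃ₗ[K] V) : V →ₗ[K] V) (P u₁) (aeval ((y : V ≃ₗ[K] V) : V →ₗ[K] V) s _)) = _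
          rw [← hcommP s (P u₁)]
        rw [← e4, hub]
      have h6 : ∀ v ∈ U, aeval (((y⁻¹ : F.iso) : V ≃ₗ[K] V) : V →ₗ[K] V) s
          (aeval ((y : V ≃ₗ[K] V) : V →ₗ[K] V) s v) = v := by
        let g : V →ₗ[K] V := aeval (((y⁻¹ : F.iso) : V ≃ₗ[K] V) : V →ₗ[K] V) s ∘ₗ
          aeval ((y : V ≃ₗ[K] V) : V →ₗ[K] V) s - LinearMap.id
        have hg : ∀ v, g ((y : V ≃ₗ[K] V) v) = (y : V ≃ₗ[K] V) (g v) := by
          intro v
          show aeval (((y⁻¹ : F.iso) : V ≃ₗ[K] V) : V →ₗ[K] V) s (aeval ((y : V ≃ₗ[K] V) : V →ₗ[K] V) s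
            ((y : V ≃ₗ[K] V) v)) - (y : V ≃ₗ[K] V) v = (y : V ≃ₗ[K] V) (_ - v)
          rw [aeval_comm, comm_inv, map_sub]
          rfl
        rcases h.zero_or_inj hg with h7 | h7
        · intro v hv
          exact sub_eq_zero.1 (h7 v hv)
        · exfalso
          refine hβ0 u₁ hu₁ (h7 _ (hUst' _ _ (hUst _ _ hu₀)) ?_)
          show _ - β u₁ = 0
          rw [sub_eq_zero]
          exact h5
      obtain ⟨t, ht1, ht2⟩ := h.glue (F := F) (aeval ((y : V ≃ₗ[K] V) : V →ₗ[K] V) s) LinearMap.id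
        (hUst s) (fun w hw => hw) (fun u hu v hv => by rw [adj_poly F hσ, h6 v hv])
        (hQ _ (fun v => aeval_comm (y := (y : V ≃ₗ[K] V)) s v) (fun u hu v hv => by rw [adj_poly F hσ, h6 v hv]))
        (fun _ _ _ _ => rfl) (fun _ _ => rfl)
      have htT : t ∈ torus F y := by
        refine ⟨?_, fun w hw => ht2 w hw⟩
        apply Subtype.ext
        refine LinearEquiv.ext fun v => ?_
        show (t : V ≃ₗ[K] V) ((y : V ≃ₗ[K] V) v) = (y : V ≃ₗ[K] V) ((t : V ≃ₗ[K] V) v)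
        obtain ⟨a, ha, b, hb, rfl⟩ := Submodule.mem_sup.1 (h.isCompl.sup_eq_top ▸ Submodule.mem_top :
          v ∈ comS (y : V ≃ₗ[K] V) ⊔ fixS (y : V ≃ₗ[K] V))
        have hyb : (y : V ≃ₗ[K] V) b = b := mem_fixS.1 hb
        have e1 : (t : V ≃ₗ[K] V) ((y : V ≃ₗ[K] V) (a + b)) =
            aeval ((y : V ≃ₗ[K] V) : V →ₗ[K] V) s ((y : V ≃ₗ[K] V) a) + b := by
          rw [map_add, map_add, hyb, ht1 _ (h.comS_stable a ha), ht2 b hb]
          rfl
        have e2 : (y : V ≃ₗ[K] V) ((t : V ≃ₗ[K] V) (a + b)) =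
            (y : V ≃ₗ[K] V) (aeval ((y : V ≃ₗ[K] V) : V →ₗ[K] V) s a) + b := by
          rw [map_add, map_add, ht1 a ha, ht2 b hb]
          show _ + (y : V ≃ₗ[K] V) b = _
          rw [hyb]
        rw [e1, e2, aeval_comm]
      refine Finset.mem_image.2 ⟨⟨t, htT⟩, Finset.mem_univ _, ?_⟩
      show (t : V ≃ₗ[K] V) u₁ = u
      rw [ht1 u₁ hu₁U, hs]
    refine (Finset.card_le_card hsub).trans (Finset.card_image_le.trans ?_)
    rw [Finset.card_univ, Nat.card_eq_fintype_card]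
  have hcount := Finset.card_le_mul_card_image S _ hfib
  -- the cardinalities
  have hScard : S.card = Nat.card K ^ (2 * k) - 1 := by
    have h3 : (Finset.univ.filter fun u => u ∈ U).card = Nat.card K ^ (2 * k) := by
      rw [← hD, ← h.finrank_comS, ← Module.natCard_eq_pow_finrank (K := K), Nat.card_eq_fintype_card,
        Fintype.card_subtype]
    have h4 : S = (Finset.univ.filter fun u => u ∈ U).erase 0 := by
      ext u
      rw [hS, Finset.mem_erase, Finset.mem_filter]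
      simp only [Finset.mem_univ, true_and]
      exact and_comm
    rw [h4, Finset.card_erase_of_mem (Finset.mem_filter.2 ⟨Finset.mem_univ _, U.zero_mem⟩), h3]
  have hsacard : (S.image β).card ≤ Nat.card K ^ k - 1 := by
    have h3 : (Finset.univ.filter fun u => u ∈ sa y u₀).card ≤ Nat.card K ^ k := by
      have e1 : (Finset.univ.filter fun u => u ∈ sa y u₀).card = Nat.card K ^ finrank K (sa y u₀) := by
        rw [← Module.natCard_eq_pow_finrank (K := K), Nat.card_eq_fintype_card, Fintype.card_subtype]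
      rw [e1]
      refine Nat.pow_le_pow_right Nat.card_pos ?_
      have := h.finrank_sa hσ (by omega) hu₀ h0
      omega
    have h4 : S.image β ⊆ (Finset.univ.filter fun u => u ∈ sa y u₀).erase 0 := by
      intro b hb
      obtain ⟨u, hu, rfl⟩ := Finset.mem_image.1 hb
      exact Finset.mem_erase.2 ⟨hβ0 u hu, Finset.mem_filter.2 ⟨Finset.mem_univ _, hβsa u⟩⟩
    have h5 := Finset.card_le_card h4
    rw [Finset.card_erase_of_mem (Finset.mem_filter.2 ⟨Finset.mem_univ _, (sa y u₀).zero_mem⟩)] at h5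
    exact h5.trans (Nat.sub_le_sub_right h3 1)
  have hq : 2 ≤ Nat.card K := Finite.one_lt_card
  have hqk : 2 ≤ Nat.card K ^ k := hq.trans (Nat.le_self_pow (by omega) _)
  have h7 : Nat.card K ^ (2 * k) - 1 = (Nat.card K ^ k + 1) * (Nat.card K ^ k - 1) := by
    rw [mul_comm 2 k, pow_mul, ← Nat.sq_sub_sq, one_pow]
  rw [hScard, h7] at hcount
  have h8 : (Nat.card K ^ k + 1) * (Nat.card K ^ k - 1) ≤ Nat.card (torus F y) * (Nat.card K ^ k - 1) :=
    hcount.trans (Nat.mul_le_mul_left _ hsacard)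
  exact Nat.le_of_mul_le_mul_right h8 (by omega)

end Cfsg.Agent.H477.OZ
end

-- part: H477/OZ/Root
section
/-!
# Roots in the field generated by a big element (S4842, helper477)

* `Big.eq_pow` : `g` commuting with `y`, `g ^ r = 1`: `g = y ^ i` on `[V,y]`;
* `Big.exists_min` : every linear map commuting with `y` is annihilated on `[V,y]` by a polynomial of degree at most `D`;
* `Big.card_roots` : at most `deg m` restrictions to `[V,y]` of maps commuting with `y` are annihilated by `m`;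
* `Big.isCyclic_of` : groups of such restrictions are cyclic.
-/

set_option autoImplicit false
set_option linter.unusedSectionVars false

namespace Cfsg.Agent.H477.OZ

open Module Polynomial Cfsg.Agent.H477.HC

universe u v

variable {K : Type u} [Field K] {V : Type v} [AddCommGroup V] [Module K V]

/-- the polynomials which are zero on `[V,y]` -/
noncomputable def ann (y : V ≃ₗ[K] V) : Ideal K[X] where
  carrier := {p | ∀ u ∈ comS y, aeval (y : V →ₗ[K] V) p u = 0}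
  zero_mem' := fun u _ => by simp
  add_mem' := by
    intro a b ha hb u hu
    rw [map_add, LinearMap.add_apply, ha u hu, hb u hu, add_zero]
  smul_mem' := by
    intro c a ha u hu
    rw [smul_eq_mul, map_mul]
    show aeval (y : V →ₗ[K] V) c (aeval (y : V →ₗ[K] V) a u) = 0
    rw [ha u hu, map_zero]

theorem mem_ann {y : V ≃ₗ[K] V} {p : K[X]} : p ∈ ann y ↔ ∀ u ∈ comS y, aeval (y : V →ₗ[K] V) p u = 0 := Iff.rfl

theorem lin_pow (g : V ≃ₗ[K] V) (n : ℕ) : ((g ^ n : V ≃ₗ[K] V) : V →ₗ[K] V) = (g : V →ₗ[K] V) ^ n := by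
  induction n with
  | zero => rfl
  | succ n ih => rw [pow_succ, pow_succ, ← ih]; rfl

variable [Finite K] [FiniteDimensional K V]

section

variable {y : V ≃ₗ[K] V} {r : ℕ} (h : Big y r)

include h

theorem Big.isPrime_ann : (ann y).IsPrime := by
  refine ⟨?_, ?_⟩
  · intro h1
    have h2 : (1 : K[X]) ∈ ann y := h1 ▸ Submodule.mem_top
    obtain ⟨u₀, hu₀, h0⟩ := Submodule.exists_mem_ne_zero_of_ne_bot h.comS_ne
    have h3 := h2 u₀ hu₀
    rw [map_one] at h3
    exact h0 h3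
  · intro a b hab
    rcases h.zero_or_inj (fun v => aeval_comm a v) with h1 | h1
    · exact Or.inl h1
    · right
      intro u hu
      refine h1 _ (h.comm_comS (fun v => aeval_comm b v) u hu) ?_
      have := hab u hu
      rwa [map_mul] at this

/-- elements with `g ^ r = 1` commuting with `y` -/
theorem Big.eq_pow {g : V ≃ₗ[K] V} (hg : Commute g y) (hgr : g ^ r = 1) :
    ∃ i < r, ∀ u ∈ comS y, g u = (y ^ i) u := by
  have hP := h.isPrime_ann
  have hdom : IsDomain (K[X] ⧸ ann y) := Ideal.Quotient.isDomain (ann y)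
  obtain ⟨p, hp⟩ := h.exists_poly (g := (g : V →ₗ[K] V)) (fun v => LinearEquiv.congr_fun hg.eq v)
  let q : K[X] →+* K[X] ⧸ ann y := Ideal.Quotient.mk (ann y)
  have hq : ∀ a b : K[X], q a = q b ↔ ∀ u ∈ comS y, aeval (y : V →ₗ[K] V) a u = aeval (y : V →ₗ[K] V) b u := by
    intro a b
    rw [Ideal.Quotient.eq, mem_ann]
    refine forall₂_congr fun u hu => ?_
    rw [map_sub, LinearMap.sub_apply, sub_eq_zero]
  have hyX : ∀ n : ℕ, aeval (y : V →ₗ[K] V) (X ^ n : K[X]) = ((y ^ n : V ≃ₗ[K] V) : V →ₗ[K] V) := by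
    intro n
    rw [map_pow, aeval_X, lin_pow]
  -- `X` has order `r`
  have hXr : q X ^ r = 1 := by
    rw [← map_pow, ← map_one q, hq]
    intro u hu
    rw [hyX, h.pow_eq, map_one]
    rfl
  have hX1 : q X ≠ 1 := by
    intro h1
    rw [← map_one q, hq] at h1
    obtain ⟨u₀, hu₀, h0⟩ := Submodule.exists_mem_ne_zero_of_ne_bot h.comS_ne
    have h2 := h1 u₀ hu₀
    rw [aeval_X, map_one] at h2
    exact h0 (h.comS_fix u₀ hu₀ h2)
  have hprim : IsPrimitiveRoot (q X) r := by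
    rw [IsPrimitiveRoot.iff_orderOf]
    exact orderOf_eq_prime hXr hX1 (hp := ⟨h.prime⟩)
  have hgpow : ∀ n : ℕ, ∀ u ∈ comS y, (g ^ n) u = aeval (y : V →ₗ[K] V) (p ^ n) u := by
    intro n
    induction n with
    | zero => intro u _; rw [pow_zero, pow_zero, map_one]; rfl
    | succ n ih =>
      intro u hu
      rw [pow_apply_succ, ih u hu, pow_succ', map_mul]
      exact hp _ (h.comm_comS (fun v => aeval_comm (p ^ n) v) u hu)
  have hpr : q p ^ r = 1 := by
    rw [← map_pow, ← map_one q, hq]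
    intro u hu
    rw [← hgpow r u hu, hgr, map_one]
    rfl
  have : NeZero r := ⟨h.prime.ne_zero⟩
  obtain ⟨i, hi, hi2⟩ := hprim.eq_pow_of_pow_eq_one hpr
  refine ⟨i, hi, fun u hu => ?_⟩
  rw [← map_pow, hq] at hi2
  have h3 := hi2 u hu
  rw [hyX] at h3
  have h4 : g u = aeval (y : V →ₗ[K] V) p u := hp u hu
  rw [h4, ← h3]
  rfl

/-- a nonzero polynomial of degree at most `D` annihilating `f` on `[V,y]` -/
theorem Big.exists_min {f : V →ₗ[K] V} (hf : ∀ v, f (y v) = y (f v)) :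
    ∃ m : K[X], m ≠ 0 ∧ m.natDegree ≤ orderOf (Nat.card K : ZMod r) ∧ ∀ u ∈ comS y, aeval f m u = 0 := by
  obtain ⟨u₀, hu₀, h0⟩ := Submodule.exists_mem_ne_zero_of_ne_bot h.comS_ne
  set D := orderOf (Nat.card K : ZMod r) with hD
  -- the vectors `f ^ i u₀`, `i ≤ D`, are dependent
  have hst : ∀ n : ℕ, (f ^ n) u₀ ∈ comS y := by
    intro n
    induction n with
    | zero => exact hu₀
    | succ n ih => rw [pow_succ']; exact h.comm_comS hf _ ih
  let f' : Fin (D + 1) → comS y := fun i => ⟨(f ^ (i : ℕ)) u₀, hst i⟩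
  have hdep : ¬ LinearIndependent K f' := by
    intro hli
    have h1 := hli.fintype_card_le_finrank
    rw [Fintype.card_fin, h.finrank_comS] at h1
    omega
  obtain ⟨g, hg, i, hi⟩ := Fintype.not_linearIndependent_iff.1 hdep
  let m : K[X] := ∑ j : Fin (D + 1), C (g j) * X ^ (j : ℕ)
  have hcoeff : ∀ j : Fin (D + 1), m.coeff j = g j := by
    intro j
    simp only [m, finsetSum_coeff, coeff_C_mul, coeff_X_pow]
    rw [Finset.sum_eq_single j]
    · simp
    · intro b _ hb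
      rw [if_neg (fun h' => hb (Fin.ext h'.symm)), mul_zero]
    · intro h'; exact absurd (Finset.mem_univ j) h'
  refine ⟨m, ?_, ?_, ?_⟩
  · intro hm
    apply hi
    rw [← hcoeff i, hm, coeff_zero]
  · refine natDegree_sum_le_of_forall_le _ _ fun j _ => ?_
    exact (natDegree_C_mul_X_pow_le _ _).trans (by have := j.2; omega)
  · -- zero on `u₀`, hence everywhere
    have h1 : aeval f m u₀ = 0 := by
      have h2 : (∑ j, g j • f' j : comS y) = 0 := hg
      have h3 := congrArg Subtype.val h2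
      simp only [m, map_sum, map_mul, aeval_C, map_pow, aeval_X, LinearMap.sum_apply]
      rw [Submodule.coe_zero, AddSubmonoidClass.coe_finsetSum] at h3
      rw [← h3]
      refine Finset.sum_congr rfl fun j _ => ?_
      rfl
    have hcomm : ∀ v, aeval f m (y v) = y (aeval f m v) := by
      intro v
      have hc : Commute (f : Module.End K V) (y : V →ₗ[K] V) := LinearMap.ext hf
      exact LinearMap.congr_fun (commute_aeval hc.symm m).symm.eq v
    rcases h.zero_or_inj hcomm with h2 | h2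
    · exact h2
    · exact absurd (h2 u₀ hu₀ h1) h0

/-- **Counting conjugates.**  `S` a set of linear maps commuting with `y`, pairwise different on `[V,y]`, annihilated on
`[V,y]` by the polynomial `m`. -/
theorem Big.card_roots {ι : Type*} (S : Finset ι) (g : ι → V →ₗ[K] V) (hg : ∀ i ∈ S, ∀ v, g i (y v) = y (g i v))
    (hinj : ∀ i ∈ S, ∀ j ∈ S, (∀ u ∈ comS y, g i u = g j u) → i = j) {m : K[X]} (hm0 : m ≠ 0)
    (hroot : ∀ i ∈ S, ∀ u ∈ comS y, aeval (g i) m u = 0) : S.card ≤ m.natDegree := by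
  classical
  have hP := h.isPrime_ann
  have hdom : IsDomain (K[X] ⧸ ann y) := Ideal.Quotient.isDomain (ann y)
  let q : K[X] →+* K[X] ⧸ ann y := Ideal.Quotient.mk (ann y)
  have hq : ∀ a b : K[X], q a = q b ↔ ∀ u ∈ comS y, aeval (y : V →ₗ[K] V) a u = aeval (y : V →ₗ[K] V) b u := by
    intro a b
    rw [Ideal.Quotient.eq, mem_ann]
    refine forall₂_congr fun u hu => ?_
    rw [map_sub, LinearMap.sub_apply, sub_eq_zero]
  have hex : ∀ i : ι, ∃ p : K[X], i ∈ S → ∀ u ∈ comS y, g i u = aeval (y : V →ₗ[K] V) p u := by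
    intro i
    by_cases hi : i ∈ S
    · obtain ⟨p, hp⟩ := h.exists_poly (hg i hi)
      exact ⟨p, fun _ => hp⟩
    · exact ⟨0, fun h' => absurd h' hi⟩
  choose P hP using hex
  -- the polynomial over the quotient
  let φ : K →+* K[X] ⧸ ann y := q.comp C
  have hφ : Function.Injective φ := φ.injective
  let M : (K[X] ⧸ ann y)[X] := m.map φ
  have hM0 : M ≠ 0 := (Polynomial.map_ne_zero_iff hφ).2 hm0
  have hroots : ∀ i ∈ S, q (P i) ∈ M.roots := by
    intro i hi
    rw [mem_roots hM0, IsRoot.def, eval_map]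
    have h1 : eval₂ φ (q (P i)) m = q (m.comp (P i)) := by
      rw [Polynomial.comp, hom_eval₂]
    rw [h1, ← map_zero q, hq]
    intro u hu
    rw [map_zero, aeval_comp]
    -- `m(P_i(y)) = m(g_i)` on `[V,y]`
    have h2 : ∀ s : K[X], ∀ u ∈ comS y, aeval (aeval (y : V →ₗ[K] V) (P i)) s u = aeval (g i) s u := by
      intro s
      have hpw : ∀ n : ℕ, ∀ u ∈ comS y, ((aeval (y : V →ₗ[K] V) (P i)) ^ n) u = ((g i) ^ n) u := by
        intro n
        induction n with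
        | zero => intro u _; rfl
        | succ n ih =>
          intro u hu
          rw [pow_succ, pow_succ]
          show ((aeval (y : V →ₗ[K] V) (P i)) ^ n) (aeval (y : V →ₗ[K] V) (P i) u) = ((g i) ^ n) (g i u)
          rw [← hP i hi u hu]
          exact ih _ (h.comm_comS (hg i hi) u hu)
      induction s using Polynomial.induction_on' with
      | add p q hp hq =>
        intro u hu
        rw [map_add, map_add, LinearMap.add_apply, LinearMap.add_apply, hp u hu, hq u hu]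
      | monomial n a =>
        intro u hu
        rw [aeval_monomial, aeval_monomial]
        show (algebraMap K (V →ₗ[K] V)) a (((aeval (y : V →ₗ[K] V) (P i)) ^ n) u) =
          (algebraMap K (V →ₗ[K] V)) a (((g i) ^ n) u)
        rw [hpw n u hu]
    rw [h2 m u hu, hroot i hi u hu]
    rfl
  have hcard : S.card ≤ M.roots.toFinset.card := by
    refine Finset.card_le_card_of_injOn (fun i => q (P i)) (fun i hi => ?_) ?_
    · exact Multiset.mem_toFinset.2 (hroots i hi)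
    · intro i hi j hj hij
      refine hinj i hi j hj fun u hu => ?_
      rw [hP i hi u hu, hP j hj u hu]
      exact (hq _ _).1 hij u hu
  have h5 : M.roots.toFinset.card ≤ M.natDegree := (Multiset.toFinset_card_le _).trans (card_roots' M)
  have h6 : M.natDegree ≤ m.natDegree := natDegree_map_le
  omega

/-- groups acting faithfully on `[V,y]` by maps commuting with `y` are cyclic -/
theorem Big.isCyclic_of {A : Type*} [Group A] [Finite A] (φ : A →* (V ≃ₗ[K] V)) (hφ : ∀ a, Commute (φ a) y)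
    (hinj : ∀ a, (∀ u ∈ comS y, φ a u = u) → a = 1) : IsCyclic A := by
  classical
  have hP := h.isPrime_ann
  have hdom : IsDomain (K[X] ⧸ ann y) := Ideal.Quotient.isDomain (ann y)
  let q : K[X] →+* K[X] ⧸ ann y := Ideal.Quotient.mk (ann y)
  have hq : ∀ a b : K[X], q a = q b ↔ ∀ u ∈ comS y, aeval (y : V →ₗ[K] V) a u = aeval (y : V →ₗ[K] V) b u := by
    intro a b
    rw [Ideal.Quotient.eq, mem_ann]
    refine forall₂_congr fun u hu => ?_
    rw [map_sub, LinearMap.sub_apply, sub_eq_zero]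
  have hc : ∀ a v, φ a (y v) = y (φ a v) := fun a v => LinearEquiv.congr_fun (hφ a).eq v
  choose P hP' using fun a => h.exists_poly (g := (φ a : V →ₗ[K] V)) (hc a)
  have hPa : ∀ a, ∀ u ∈ comS y, φ a u = aeval (y : V →ₗ[K] V) (P a) u := fun a u hu => hP' a u hu
  let f : A →* K[X] ⧸ ann y :=
    { toFun := fun a => q (P a)
      map_one' := by
        rw [← map_one q, hq]
        intro u hu
        rw [← hPa 1 u hu, map_one, map_one]
        rfl
      map_mul' := by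
        intro a b
        rw [← map_mul, hq]
        intro u hu
        rw [← hPa (a * b) u hu, map_mul, map_mul]
        show φ a (φ b u) = aeval (y : V →ₗ[K] V) (P a) (aeval (y : V →ₗ[K] V) (P b) u)
        rw [← hPa b u hu]
        exact hPa a _ (h.comm_comS (g := (φ b : V →ₗ[K] V)) (hc b) u hu) }
  refine isCyclic_of_subgroup_isDomain f ?_
  rw [injective_iff_map_eq_one]
  intro a ha
  refine hinj a fun u hu => ?_
  have h1 : q (P a) = q 1 := by rw [map_one]; exact ha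
  rw [hPa a u hu, (hq _ _).1 h1 u hu, map_one]
  rfl

end

end Cfsg.Agent.H477.OZ
end

-- part: H477/OZ/Geo
section
/-!
# Sylow subgroups, centralizers and normalizers of big elements in isometry groups (S4842, helper477)

* `Ky F y` : the isometries trivial on `[V,y]`;
* `exists_big` : the Sylow `r`-subgroup is cyclic, its elements of order `r` are big, `C(y) = C(R)`;
* `inner` : elements conjugating `y` to a power of `y` act on `Ky F y` by inner automorphisms;
* `count` : the number of elements `t` of the torus with `t k₀` conjugate to `t₁ k₀` modulo a central subgroup `Z`.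
-/

set_option autoImplicit false
set_option linter.unusedSectionVars false

namespace Cfsg.Agent.H477.OZ

open Module Polynomial Cfsg.Agent.H477.HC

universe u v

variable {K : Type u} [Field K] {V : Type v} [AddCommGroup V] [Module K V] (F : CForm K V)

/-- the isometries trivial on `[V,y]` -/
def Ky (y : F.iso) : Subgroup F.iso where
  carrier := {g | ∀ u ∈ comS (y : V ≃ₗ[K] V), (g : V ≃ₗ[K] V) u = u}
  one_mem' := fun _ _ => rfl
  mul_mem' := by
    intro a b ha hb u hu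
    show (a : V ≃ₗ[K] V) ((b : V ≃ₗ[K] V) u) = u
    rw [hb u hu, ha u hu]
  inv_mem' := by
    intro a ha u hu
    conv_lhs => rw [← ha u hu]
    exact (a : V ≃ₗ[K] V).symm_apply_apply u

theorem mem_Ky {y g : F.iso} : g ∈ Ky F y ↔ ∀ u ∈ comS (y : V ≃ₗ[K] V), (g : V ≃ₗ[K] V) u = u := Iff.rfl

theorem mul_apply (a b : F.iso) (v : V) : ((a * b : F.iso) : V ≃ₗ[K] V) v = (a : V ≃ₗ[K] V) ((b : V ≃ₗ[K] V) v) := rfl

theorem comm_apply {a b : F.iso} (hab : Commute a b) (v : V) :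
    (a : V ≃ₗ[K] V) ((b : V ≃ₗ[K] V) v) = (b : V ≃ₗ[K] V) ((a : V ≃ₗ[K] V) v) := by
  rw [← mul_apply, hab.eq, mul_apply]

theorem coe_pow (a : F.iso) (n : ℕ) : ((a ^ n : F.iso) : V ≃ₗ[K] V) = (a : V ≃ₗ[K] V) ^ n := rfl

theorem comS_le_of {y t : V ≃ₗ[K] V} (hy : comS y ⊔ fixS y = ⊤) (hc : ∀ u ∈ comS y, t u ∈ comS y)
    (hf : ∀ w ∈ fixS y, t w = w) : comS t ≤ comS y := by
  intro x hx
  obtain ⟨v, rfl⟩ := mem_comS.1 hx
  obtain ⟨a, ha, b, hb, rfl⟩ := Submodule.mem_sup.1 (hy ▸ Submodule.mem_top : v ∈ comS y ⊔ fixS y)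
  rw [map_add, hf b hb, add_sub_add_right_eq_sub]
  exact Submodule.sub_mem _ (hc a ha) ha

/-- conjugation and commutator spaces -/
theorem comS_conj {g x x' : V ≃ₗ[K] V} (hx : ∀ v, g (x v) = x' (g v)) {u : V} (hu : u ∈ comS x) : g u ∈ comS x' := by
  obtain ⟨v, rfl⟩ := mem_comS.1 hu
  rw [map_sub, hx]
  exact mem_comS.2 ⟨g v, rfl⟩

theorem fixS_conj {g x x' : V ≃ₗ[K] V} (hx : ∀ v, g (x v) = x' (g v)) {u : V} (hu : u ∈ fixS x) : g u ∈ fixS x' := by
  rw [mem_fixS] at hu ⊢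
  rw [← hx, hu]

variable [Finite K] [FiniteDimensional K V]

section

variable {F} {y : F.iso} {r : ℕ} (h : Big (y : V ≃ₗ[K] V) r)

include h

theorem Big.decomp (x : V) : ∃ a ∈ comS (y : V ≃ₗ[K] V), ∃ b ∈ fixS (y : V ≃ₗ[K] V), a + b = x :=
  Submodule.mem_sup.1 (h.isCompl.sup_eq_top ▸ Submodule.mem_top : x ∈ comS (y : V ≃ₗ[K] V) ⊔ fixS (y : V ≃ₗ[K] V))

theorem Big.ext {a b : F.iso} (h1 : ∀ u ∈ comS (y : V ≃ₗ[K] V), (a : V ≃ₗ[K] V) u = (b : V ≃ₗ[K] V) u)
    (h2 : ∀ u ∈ fixS (y : V ≃ₗ[K] V), (a : V ≃ₗ[K] V) u = (b : V ≃ₗ[K] V) u) : a = b := by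
  refine Subtype.ext (LinearEquiv.ext fun v => ?_)
  obtain ⟨x, hx, w, hw, rfl⟩ := h.decomp v
  rw [map_add, map_add, h1 x hx, h2 w hw]

theorem Big.stab_com {g : F.iso} (hg : Commute g y) {u : V} (hu : u ∈ comS (y : V ≃ₗ[K] V)) :
    (g : V ≃ₗ[K] V) u ∈ comS (y : V ≃ₗ[K] V) :=
  comS_conj (fun v => comm_apply F hg v) hu

theorem Big.stab_fix {g : F.iso} (hg : Commute g y) {u : V} (hu : u ∈ fixS (y : V ≃ₗ[K] V)) :
    (g : V ≃ₗ[K] V) u ∈ fixS (y : V ≃ₗ[K] V) :=
  fixS_conj (fun v => comm_apply F hg v) hu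

/-- the torus is central in the centralizer -/
theorem Big.torus_comm {t c : F.iso} (ht : t ∈ torus F y) (hc : Commute c y) : Commute t c := by
  refine h.ext (fun u hu => ?_) fun w hw => ?_
  · exact h.comm_of_comm (g := ((t : V ≃ₗ[K] V) : V →ₗ[K] V)) (k := ((c : V ≃ₗ[K] V) : V →ₗ[K] V))
      (fun v => comm_apply F ht.1 v) (fun v => comm_apply F hc v) u hu
  · rw [mul_apply, mul_apply, ht.2 w hw, ht.2 _ (h.stab_fix hc hw)]

theorem Big.mem_torus_of_pow {g : F.iso} (hg : Commute g y) {j : ℕ} (hj : g ^ r ^ j = 1) : g ∈ torus F y :=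
  ⟨hg, h.trivial_fixS (g := (g : V ≃ₗ[K] V)) (fun _ hv => h.stab_fix hg hv) (j := j)
    (congrArg Subtype.val hj)⟩

theorem Big.mem_zpowers {g : F.iso} (hg : Commute g y) (hj : g ^ r = 1) : g ∈ Subgroup.zpowers y := by
  obtain ⟨i, -, hi⟩ := h.eq_pow (g := (g : V ≃ₗ[K] V)) (congrArg Subtype.val hg.eq) (congrArg Subtype.val hj)
  have h1 := (h.mem_torus_of_pow hg (j := 1) (by rwa [pow_one])).2
  refine Subgroup.mem_zpowers_iff.2 ⟨i, ?_⟩
  rw [zpow_natCast]
  refine h.ext (fun u hu => (hi u hu).symm) fun w hw => ?_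
  rw [h1 w hw, coe_pow]
  have : ∀ n : ℕ, ((y : V ≃ₗ[K] V) ^ n) w = w := by
    intro n
    induction n with
    | zero => rfl
    | succ n ih => rw [pow_apply_succ, ih]; exact mem_fixS.1 hw
  exact this i

theorem Big.y_mem_torus : y ∈ torus F y := ⟨Commute.refl y, fun _ hw => mem_fixS.1 hw⟩

theorem Big.Ky_fix {k : F.iso} (hk : k ∈ Ky F y) {w : V} (hw : w ∈ fixS (y : V ≃ₗ[K] V)) :
    (k : V ≃ₗ[K] V) w ∈ fixS (y : V ≃ₗ[K] V) := by
  obtain ⟨a, ha, b, hb, hab⟩ := h.decomp ((k : V ≃ₗ[K] V) w)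
  have h1 : a = 0 := by
    refine h.nondeg_com a ha fun u hu => ?_
    have h2 : F.B u ((k : V ≃ₗ[K] V) w) = 0 := by
      rw [← hk u hu, F.iso_B]
      exact B_com_fix F hu hw
    rw [← hab, F.B_add_right, B_com_fix F hu hb, add_zero] at h2
    exact h2
  rw [← hab, h1, zero_add]
  exact hb

theorem Big.Ky_comm {k : F.iso} (hk : k ∈ Ky F y) : Commute k y := by
  refine h.ext (fun u hu => ?_) fun w hw => ?_
  · rw [mul_apply, mul_apply, hk u hu, hk _ (h.comS_stable u hu)]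
  · rw [mul_apply, mul_apply, mem_fixS.1 hw, mem_fixS.1 (h.Ky_fix hk hw)]

theorem Big.inf_torus {g : F.iso} (h1 : g ∈ torus F y) (h2 : g ∈ Ky F y) : g = 1 :=
  h.ext (fun u hu => h2 u hu) fun w hw => h1.2 w hw

variable [Finite F.iso]

theorem Big.not_dvd_Ky : ¬ r ∣ Nat.card (Ky F y) := by
  intro hd
  have := Fact.mk h.prime
  obtain ⟨g, hg⟩ := exists_prime_orderOf_dvd_card' r hd
  have hg1 : ((g : F.iso)) ^ r = 1 := by
    rw [← Subgroup.orderOf_coe] at hg
    rw [← hg, pow_orderOf_eq_one]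
  have h1 : (g : F.iso) ∈ torus F y := h.mem_torus_of_pow (h.Ky_comm g.2) (j := 1) (by rwa [pow_one])
  have h2 : g = 1 := Subtype.ext (h.inf_torus h1 g.2)
  rw [h2, orderOf_one] at hg
  exact h.prime.one_lt.ne hg

/-- `p`-elements of the centralizer -/
theorem Big.mem_Ky_of_char {p : ℕ} [CharP K p] [Fact p.Prime] {g : F.iso} (hg : Commute g y)
    (hp : ∃ k, orderOf g = p ^ k) : g ∈ Ky F y := by
  obtain ⟨k, hk⟩ := hp
  have h1 : g ^ p ^ k = 1 := by rw [← hk, pow_orderOf_eq_one]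
  exact h.trivial_of_char (g := (g : V ≃ₗ[K] V)) (congrArg Subtype.val hg.eq) (congrArg Subtype.val h1)

/-- inner action on `Ky` -/
theorem Big.inner {n : F.iso} (hn : ∃ i : ℕ, ¬ r ∣ i ∧ n * y * n⁻¹ = y ^ i) :
    ∃ c ∈ Ky F y, ∀ k ∈ Ky F y, n * k * n⁻¹ = c * k * c⁻¹ := by
  obtain ⟨i, hi, hni⟩ := hn
  have hny : n * y = y ^ i * n := by rw [← hni, inv_mul_cancel_right]
  -- `y` is a power of `y ^ i`
  obtain ⟨j, hj⟩ : ∃ j : ℕ, (y ^ i) ^ j = y := by
    have h1 : (orderOf y).Coprime i := by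
      have : orderOf y = r := by
        have := h.ord
        rwa [Subgroup.orderOf_coe] at this
      rw [this]
      exact (Nat.Prime.coprime_iff_not_dvd h.prime).2 hi
    exact exists_pow_eq_self_of_coprime h1.symm
  have hpow : ∀ (x : F.iso) (m : ℕ) (w : V), w ∈ fixS (x : V ≃ₗ[K] V) → w ∈ fixS ((x ^ m : F.iso) : V ≃ₗ[K] V) := by
    intro x m w hw
    rw [mem_fixS] at hw ⊢
    induction m with
    | zero => rfl
    | succ m ih =>
      rw [pow_succ, mul_apply, hw, ih]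
  have hfix : ∀ w ∈ fixS (y : V ≃ₗ[K] V), (n : V ≃ₗ[K] V) w ∈ fixS (y : V ≃ₗ[K] V) := by
    intro w hw
    have h1 : (n : V ≃ₗ[K] V) w ∈ fixS ((y ^ i : F.iso) : V ≃ₗ[K] V) :=
      fixS_conj (x := (y : V ≃ₗ[K] V)) (x' := ((y ^ i : F.iso) : V ≃ₗ[K] V)) (g := (n : V ≃ₗ[K] V)) (fun v => by
        rw [← mul_apply, hny, mul_apply]) hw
    have h2 := hpow _ j _ h1
    rwa [hj] at h2
  have hcom := h.stable_com hfix
  obtain ⟨c, hc1, hc2⟩ := h.glue (LinearMap.id) ((n : V ≃ₗ[K] V) : V →ₗ[K] V) (fun u hu => hu) hfix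
    (fun _ _ _ _ => rfl) (fun _ _ => rfl) (fun u _ v _ => F.iso_B n u v) (fun u _ => F.iso_Q n u)
  have hcK : c ∈ Ky F y := fun u hu => hc1 u hu
  -- `m = c⁻¹ n` centralizes `Ky`
  have hm1 : ∀ w ∈ fixS (y : V ≃ₗ[K] V), ((c⁻¹ * n : F.iso) : V ≃ₗ[K] V) w = w := by
    intro w hw
    rw [mul_apply]
    have h1 : (n : V ≃ₗ[K] V) w = (c : V ≃ₗ[K] V) w := (hc2 w hw).symm
    rw [h1]
    exact coe_inv_apply F c w
  have hm2 : ∀ u ∈ comS (y : V ≃ₗ[K] V), ((c⁻¹ * n : F.iso) : V ≃ₗ[K] V) u ∈ comS (y : V ≃ₗ[K] V) := by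
    intro u hu
    rw [mul_apply, Subgroup.inv_mem _ hcK _ (hcom u hu)]
    exact hcom u hu
  refine ⟨c, hcK, fun k hk => ?_⟩
  have hmk : Commute (c⁻¹ * n) k := by
    refine h.ext (fun u hu => ?_) fun w hw => ?_
    · rw [mul_apply F (c⁻¹ * n), mul_apply F k, hk u hu, hk _ (hm2 u hu)]
    · rw [mul_apply F (c⁻¹ * n), mul_apply F k, hm1 w hw, hm1 _ (h.Ky_fix hk hw)]
  have hn' : n = c * (c⁻¹ * n) := by group
  calc n * k * n⁻¹ = c * ((c⁻¹ * n) * k) * (c⁻¹ * n)⁻¹ * c⁻¹ := by group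
    _ = c * (k * (c⁻¹ * n)) * (c⁻¹ * n)⁻¹ * c⁻¹ := by rw [hmk.eq]
    _ = c * k * c⁻¹ := by group

theorem Big.orderOf_eq : orderOf y = r := by
  have := h.ord
  rwa [Subgroup.orderOf_coe] at this

/-- elements normalizing the Sylow subgroup -/
theorem Big.norm_pow {R : Subgroup F.iso} (hRT : R ≤ torus F y) (hyR : y ∈ R) {n : F.iso}
    (hn : n ∈ Subgroup.normalizer (R : Set F.iso)) : ∃ i : ℕ, ¬ r ∣ i ∧ n * y * n⁻¹ = y ^ i := by
  have h1 : n * y * n⁻¹ ∈ R := (Subgroup.mem_normalizer_iff.1 hn y).1 hyR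
  have h2 : (n * y * n⁻¹) ^ r = 1 := by
    rw [conj_pow, ← h.orderOf_eq, pow_orderOf_eq_one, mul_one, mul_inv_cancel]
  have h3 := mem_powers_iff_mem_zpowers.2 (h.mem_zpowers (hRT h1).1 h2)
  obtain ⟨i, hi⟩ := h3
  refine ⟨i, fun hd => ?_, hi.symm⟩
  have h4 : y ^ i = 1 := by
    rw [← orderOf_dvd_iff_pow_eq_one, h.orderOf_eq]
    exact hd
  have h5 : y = 1 := by
    have h6 : n * y * n⁻¹ = 1 := by rw [← hi]; exact h4
    have : y = n⁻¹ * (n * y * n⁻¹) * n := by group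
    rw [this, h6]; group
  have h6 := h.orderOf_eq
  rw [h5, orderOf_one] at h6
  exact h.prime.one_lt.ne h6

/-- the commutator space of a nontrivial element of the torus -/
theorem Big.comS_torus {t : F.iso} (ht : t ∈ torus F y) (h1 : t ≠ 1) :
    comS (t : V ≃ₗ[K] V) = comS (y : V ≃ₗ[K] V) := by
  have hle : comS (t : V ≃ₗ[K] V) ≤ comS (y : V ≃ₗ[K] V) :=
    comS_le_of (h.isCompl.sup_eq_top) (fun u hu => h.stab_com ht.1 hu) ht.2
  refine h.irr _ hle (fun s hs => comS_conj (fun v => comm_apply F ht.1.symm v) hs) fun hb => h1 ?_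
  refine Subtype.ext (LinearEquiv.ext fun v => ?_)
  have : (t : V ≃ₗ[K] V) v - v ∈ comS (t : V ≃ₗ[K] V) := mem_comS.2 ⟨v, rfl⟩
  rw [hb, Submodule.mem_bot, sub_eq_zero] at this
  exact this

/-- **Counting.** -/
theorem Big.count {Z : Subgroup F.iso} (hZ : Z ≤ Subgroup.center F.iso) (hZr : ¬ r ∣ Nat.card Z) {k₀ t₁ : F.iso}
    (hk₀ : k₀ ∈ Ky F y) (ht₁ : t₁ ∈ torus F y) (hr₁ : r ∣ orderOf t₁) (S : Finset F.iso)
    (hS : ∀ t ∈ S, t ∈ torus F y ∧ ∃ g : F.iso, ∃ c ∈ Z, g * (t₁ * k₀) * g⁻¹ = c * (t * k₀)) :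
    S.card ≤ Nat.card Z * orderOf (Nat.card K : ZMod r) := by
  classical
  obtain ⟨a, s, hs, hG⟩ := Nat.exists_eq_pow_mul_and_not_dvd (Nat.card_pos (α := F.iso)).ne' r h.prime.ne_one
  have hord : ∀ x : F.iso, ¬ r ∣ orderOf x → x ^ s = 1 := by
    intro x hx
    have h1 : orderOf x ∣ r ^ a * s := hG ▸ orderOf_dvd_natCard x
    have h2 : (orderOf x).Coprime (r ^ a) := ((Nat.Prime.coprime_iff_not_dvd h.prime).2 hx).symm.pow_right a
    exact orderOf_dvd_iff_pow_eq_one.1 (h2.dvd_of_dvd_mul_left h1)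
  have hk1 : k₀ ^ s = 1 := by
    refine hord k₀ fun hd => h.not_dvd_Ky (hd.trans ?_)
    have := orderOf_dvd_natCard (⟨k₀, hk₀⟩ : Ky F y)
    rwa [Subgroup.orderOf_mk] at this
  have hc1 : ∀ c ∈ Z, c ^ s = 1 := by
    intro c hc
    refine hord c fun hd => hZr (hd.trans ?_)
    have := orderOf_dvd_natCard (⟨c, hc⟩ : Z)
    rwa [Subgroup.orderOf_mk] at this
  have ht1 : t₁ ^ s ≠ 1 := fun h1 => hs (hr₁.trans (orderOf_dvd_of_pow_eq_one h1))
  have hcom1 : comS ((t₁ ^ s : F.iso) : V ≃ₗ[K] V) = comS (y : V ≃ₗ[K] V) :=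
    h.comS_torus (Subgroup.pow_mem _ ht₁ s) ht1
  -- the witnesses map the commutator space onto itself
  have hgst : ∀ t ∈ torus F y, ∀ g : F.iso, ∀ c ∈ Z, g * (t₁ * k₀) * g⁻¹ = c * (t * k₀) →
      (comS (y : V ≃ₗ[K] V)).map ((g : V ≃ₗ[K] V) : V →ₗ[K] V) = comS (y : V ≃ₗ[K] V) := by
    intro t ht g c hc hg
    have e1 : (g * (t₁ * k₀) * g⁻¹) ^ s = g * t₁ ^ s * g⁻¹ := by
      rw [conj_pow, (h.torus_comm ht₁ (h.Ky_comm hk₀)).mul_pow, hk1, mul_one]
    have e2 : (c * (t * k₀)) ^ s = t ^ s := by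
      have h3 : Commute c (t * k₀) := (Subgroup.mem_center_iff.1 (hZ hc) _).symm
      rw [h3.mul_pow, hc1 c hc, one_mul, (h.torus_comm ht (h.Ky_comm hk₀)).mul_pow, hk1, mul_one]
    have e3 : g * t₁ ^ s = t ^ s * g := by
      rw [← e2, ← hg, e1, inv_mul_cancel_right]
    have h4 : comS ((t ^ s : F.iso) : V ≃ₗ[K] V) ≤ comS (y : V ≃ₗ[K] V) :=
      comS_le_of (h.isCompl.sup_eq_top) (fun u hu => h.stab_com (Subgroup.pow_mem _ ht s).1 hu)
        (Subgroup.pow_mem _ ht s).2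
    apply Submodule.eq_of_le_of_finrank_eq
    · rintro _ ⟨u, hu, rfl⟩
      refine h4 ?_
      rw [SetLike.mem_coe, ← hcom1] at hu
      exact comS_conj (x := ((t₁ ^ s : F.iso) : V ≃ₗ[K] V)) (x' := ((t ^ s : F.iso) : V ≃ₗ[K] V))
        (g := (g : V ≃ₗ[K] V)) (fun v => by rw [← mul_apply, e3, mul_apply]) hu
    · exact LinearEquiv.finrank_map_eq (g : V ≃ₗ[K] V) _
  obtain ⟨m, hm0, hmD, hm⟩ := h.exists_min (f := ((t₁ : V ≃ₗ[K] V) : V →ₗ[K] V)) (fun v => comm_apply F ht₁.1 v)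
  have hcount : ∀ c ∈ Z, (S.filter fun t => ∃ g : F.iso, g * (t₁ * k₀) * g⁻¹ = c * (t * k₀)).card ≤
      orderOf (Nat.card K : ZMod r) := by
    intro c hc
    have hcc : ∀ x : F.iso, Commute c x := fun x => (Subgroup.mem_center_iff.1 (hZ hc) x).symm
    refine (h.card_roots _ (fun t : F.iso => (((c * t : F.iso) : V ≃ₗ[K] V) : V →ₗ[K] V)) ?_ ?_ hm0 ?_).trans hmD
    · intro t ht v
      have htT := (hS t (Finset.mem_filter.1 ht).1).1
      exact comm_apply F ((hcc y).mul_left htT.1) v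
    · intro t ht t' ht' htt
      have htT := (hS t (Finset.mem_filter.1 ht).1).1
      have htT' := (hS t' (Finset.mem_filter.1 ht').1).1
      refine h.ext (fun u hu => ?_) fun w hw => by rw [htT.2 w hw, htT'.2 w hw]
      exact (c : V ≃ₗ[K] V).injective (htt u hu)
    · intro t ht u' hu'
      have htT := (hS t (Finset.mem_filter.1 ht).1).1
      obtain ⟨g, hg⟩ := (Finset.mem_filter.1 ht).2
      have hmap := hgst t htT g c hc hg
      have key : ∀ u ∈ comS (y : V ≃ₗ[K] V), ((c * t : F.iso) : V ≃ₗ[K] V) ((g : V ≃ₗ[K] V) u) =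
          (g : V ≃ₗ[K] V) ((t₁ : V ≃ₗ[K] V) u) := by
        intro u hu
        have hgu : (g : V ≃ₗ[K] V) u ∈ comS (y : V ≃ₗ[K] V) := by
          rw [← hmap]; exact ⟨u, hu, rfl⟩
        have e1 : g * (t₁ * k₀) = c * (t * k₀) * g := by rw [← hg, inv_mul_cancel_right]
        have e2 := congrArg (fun x : F.iso => (x : V ≃ₗ[K] V) u) e1
        simp only [mul_apply] at e2
        rw [hk₀ u hu, hk₀ _ hgu] at e2
        rw [mul_apply]
        exact e2.symm
      have key2 : ∀ s : K[X], ∀ u ∈ comS (y : V ≃ₗ[K] V),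
          aeval (((c * t : F.iso) : V ≃ₗ[K] V) : V →ₗ[K] V) s ((g : V ≃ₗ[K] V) u) =
          (g : V ≃ₗ[K] V) (aeval ((t₁ : V ≃ₗ[K] V) : V →ₗ[K] V) s u) := by
        intro s
        have hpw : ∀ n : ℕ, ∀ u ∈ comS (y : V ≃ₗ[K] V),
            (((((c * t : F.iso) : V ≃ₗ[K] V) : V →ₗ[K] V)) ^ n) ((g : V ≃ₗ[K] V) u) =
            (g : V ≃ₗ[K] V) (((((t₁ : V ≃ₗ[K] V) : V →ₗ[K] V)) ^ n) u) := by
          intro n
          induction n with
          | zero => intro u _; rfl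
          | succ n ih =>
            intro u hu
            rw [pow_succ, pow_succ]
            show (((((c * t : F.iso) : V ≃ₗ[K] V) : V →ₗ[K] V)) ^ n)
              (((c * t : F.iso) : V ≃ₗ[K] V) ((g : V ≃ₗ[K] V) u)) =
              (g : V ≃ₗ[K] V) (((((t₁ : V ≃ₗ[K] V) : V →ₗ[K] V)) ^ n) ((t₁ : V ≃ₗ[K] V) u))
            rw [key u hu]
            exact ih _ (h.stab_com ht₁.1 hu)
        induction s using Polynomial.induction_on' with
        | add p q hp hq =>
          intro u hu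
          rw [map_add, map_add, LinearMap.add_apply, LinearMap.add_apply, hp u hu, hq u hu, map_add]
        | monomial n a =>
          intro u hu
          rw [aeval_monomial, aeval_monomial]
          show (algebraMap K (V →ₗ[K] V)) a ((((((c * t : F.iso) : V ≃ₗ[K] V) : V →ₗ[K] V)) ^ n)
            ((g : V ≃ₗ[K] V) u)) = (g : V ≃ₗ[K] V) ((algebraMap K (V →ₗ[K] V)) a
              (((((t₁ : V ≃ₗ[K] V) : V →ₗ[K] V)) ^ n) u))
          rw [hpw n u hu]
          exact ((g : V ≃ₗ[K] V).map_smul a _).symm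
      rw [← hmap] at hu'
      obtain ⟨u, hu, rfl⟩ := hu'
      have := key2 m u hu
      rw [hm u hu, map_zero] at this
      exact this
  let ZF : Finset F.iso := (Set.toFinite (Z : Set F.iso)).toFinset
  have hZF : ∀ c, c ∈ ZF ↔ c ∈ Z := fun c => (Set.Finite.mem_toFinset _)
  have hcard : ZF.card = Nat.card Z := by
    rw [← Set.ncard_eq_toFinset_card (Z : Set F.iso)]
    rfl
  have hsub : S ⊆ ZF.biUnion fun c => S.filter fun t => ∃ g : F.iso, g * (t₁ * k₀) * g⁻¹ = c * (t * k₀) := by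
    intro t ht
    obtain ⟨-, g, c, hc, hg⟩ := hS t ht
    exact Finset.mem_biUnion.2 ⟨c, (hZF c).2 hc, Finset.mem_filter.2 ⟨ht, g, hg⟩⟩
  calc S.card ≤ _ := Finset.card_le_card hsub
    _ ≤ ZF.card * orderOf (Nat.card K : ZMod r) :=
      Finset.card_biUnion_le_card_mul _ _ _ fun c hc => hcount c ((hZF c).1 hc)
    _ = _ := by rw [hcard]

end

/-- **The Sylow subgroup.** -/
theorem exists_big {F : CForm K V} [Finite F.iso] {r : ℕ} [hr : Fact r.Prime] (hK : ¬ r ∣ Nat.card K)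
    (hdim : finrank K V < 2 * orderOf (Nat.card K : ZMod r)) (R : Sylow r F.iso) (hd : r ∣ Nat.card F.iso) :
    ∃ y ∈ (R : Subgroup F.iso), Big (y : V ≃ₗ[K] V) r ∧ (R : Subgroup F.iso) ≤ torus F y ∧
      Subgroup.centralizer ({y} : Set F.iso) ≤ Subgroup.centralizer ((R : Subgroup F.iso) : Set F.iso) ∧
      IsCyclic (R : Subgroup F.iso) := by
  have hR : r ∣ Nat.card (R : Subgroup F.iso) := R.dvd_card_of_dvd_card hd
  have hRp : IsPGroup r (R : Subgroup F.iso) := R.isPGroup'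
  have : Nontrivial (R : Subgroup F.iso) := by
    rw [← Finite.one_lt_card_iff_nontrivial]
    exact hr.out.one_lt.trans_le (Nat.le_of_dvd Nat.card_pos hR)
  have hZ := hRp.center_nontrivial
  obtain ⟨n, hn, hcard⟩ := (hRp.to_subgroup (Subgroup.center _)).nontrivial_iff_card.1 hZ
  have hrZ : r ∣ Nat.card (Subgroup.center (R : Subgroup F.iso)) := by
    rw [hcard]; exact dvd_pow_self r hn.ne'
  obtain ⟨z, hz⟩ := exists_prime_orderOf_dvd_card' r hrZ
  have hyR : (((z : (R : Subgroup F.iso)) : F.iso)) ∈ (R : Subgroup F.iso) := (z : (R : Subgroup F.iso)).2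
  have hyo : orderOf ((z : (R : Subgroup F.iso)) : F.iso) = r := by
    rw [Subgroup.orderOf_coe, Subgroup.orderOf_coe, hz]
  have hcomm : ∀ t ∈ (R : Subgroup F.iso), Commute t ((z : (R : Subgroup F.iso)) : F.iso) := fun t ht =>
    congrArg Subtype.val (Subgroup.mem_center_iff.1 z.2 ⟨t, ht⟩)
  generalize ((z : (R : Subgroup F.iso)) : F.iso) = y at *
  have hbig : Big (y : V ≃ₗ[K] V) r := ⟨hr.out, by rw [Subgroup.orderOf_coe]; exact hyo, hK, hdim⟩
  have hRT : (R : Subgroup F.iso) ≤ torus F y := by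
    intro t ht
    obtain ⟨k, hk⟩ := (IsPGroup.iff_orderOf.1 hRp) ⟨t, ht⟩
    refine hbig.mem_torus_of_pow (hcomm t ht) (j := k) ?_
    rw [← hk, Subgroup.orderOf_mk]
    exact pow_orderOf_eq_one t
  refine ⟨y, hyR, hbig, hRT, ?_, ?_⟩
  · intro c hc
    rw [Subgroup.mem_centralizer_iff]
    intro t ht
    have hcy : Commute c y := (Subgroup.mem_centralizer_singleton_iff.1 hc)
    exact (hbig.torus_comm (hRT ht) hcy).eq
  · refine hbig.isCyclic_of (F.iso.subtype.comp (R : Subgroup F.iso).subtype) (fun a => ?_) fun a ha => ?_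
    · exact congrArg Subtype.val (hcomm a a.2).eq
    · exact Subtype.ext (hbig.ext ha fun w hw => (hRT a.2).2 w hw)

end Cfsg.Agent.H477.OZ
end

-- part: H477/OZ/Geo2
section
/-!
# Two classes of products with big elements (S4842, helper477)

`F.iso` modulo a central subgroup `Z` of order prime to `r`.
* `Big.two_classes` : for `k₀ ∈ Ky` some `t` in the torus of order divisible by `r` is such that `t k₀`, `y k₀` are not
  conjugate modulo `Z`;
* `Big.two_good` : the same in the form needed for `H279.OZ.alt_inner`;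
* `Big.card_cent_or` : `|C(y)| ≠ r |Z|` or some `y ^ m` is not conjugate to `y` modulo `Z`.
-/

set_option autoImplicit false
set_option linter.unusedSectionVars false

namespace Cfsg.Agent.H477.OZ

open Module Polynomial Cfsg.Agent.H477.HC

universe u v w

variable {K : Type u} [Field K] {V : Type v} [AddCommGroup V] [Module K V] [Finite K] [FiniteDimensional K V]
variable {F : CForm K V} {y : F.iso} {r : ℕ} (h : Big (y : V ≃ₗ[K] V) r) [Finite F.iso]

theorem le_sub_one {q r : ℕ} (hr : r.Prime) (hq : ¬ r ∣ q) : orderOf (q : ZMod r) + 1 ≤ r := by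
  have := Fact.mk hr
  have hq0 : (q : ZMod r) ≠ 0 := by rwa [Ne, ZMod.natCast_eq_zero_iff]
  have h1 : orderOf (q : ZMod r) ∣ r - 1 := orderOf_dvd_of_pow_eq_one (ZMod.pow_card_sub_one_eq_one hq0)
  have h2 := Nat.le_of_dvd (by have := hr.two_le; omega) h1
  have := hr.two_le
  omega

/-- conjugacy modulo the kernel -/
theorem conj_of_isConj {G : Type*} {S : Type*} [Group G] [Group S] {π : G →* S} (hπ : Function.Surjective π) {a b : G}
    (hab : IsConj (π a) (π b)) : ∃ g : G, ∃ c ∈ π.ker, g * a * g⁻¹ = c * b := by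
  obtain ⟨s, hs⟩ := isConj_iff.1 hab
  obtain ⟨g, rfl⟩ := hπ s
  refine ⟨g, g * a * g⁻¹ * b⁻¹, ?_, by group⟩
  rw [MonoidHom.mem_ker, map_mul, map_inv, map_mul, map_mul, map_inv, hs, mul_inv_cancel]

include h

theorem Big.card_ker_torus [Fact r.Prime] (T' : Finset F.iso)
    (hT' : ∀ t ∈ T', t ∈ torus F y ∧ ¬ r ∣ orderOf t) : T'.card * r ≤ Nat.card (torus F y) := by
  classical
  have := Fintype.ofFinite F.iso
  let ZF : Finset F.iso := (Set.toFinite (Subgroup.zpowers y : Set F.iso)).toFinset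
  have hZF : ∀ c, c ∈ ZF ↔ c ∈ Subgroup.zpowers y := fun c => (Set.Finite.mem_toFinset _)
  have hcard : ZF.card = r := by
    rw [← Set.ncard_eq_toFinset_card (Subgroup.zpowers y : Set F.iso), ← h.orderOf_eq, ← Nat.card_zpowers]
    rfl
  let TF : Finset F.iso := (Set.toFinite (torus F y : Set F.iso)).toFinset
  have hTF : ∀ c, c ∈ TF ↔ c ∈ torus F y := fun c => (Set.Finite.mem_toFinset _)
  have hcardT : TF.card = Nat.card (torus F y) := by
    rw [← Set.ncard_eq_toFinset_card (torus F y : Set F.iso)]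
    rfl
  have hzt : ∀ z ∈ Subgroup.zpowers y, z ∈ torus F y := fun z hz =>
    (Subgroup.zpowers_le.2 h.y_mem_torus) hz
  have hzo : ∀ z ∈ Subgroup.zpowers y, ∃ a : ℕ, orderOf z = r ^ a := by
    intro z hz
    have h1 : orderOf z ∣ r := by
      rw [← h.orderOf_eq]
      exact orderOf_dvd_of_mem_zpowers hz
    rcases (Nat.dvd_prime h.prime).1 h1 with h2 | h2
    · exact ⟨0, by rw [h2, pow_zero]⟩
    · exact ⟨1, by rw [h2, pow_one]⟩
  rw [← hcardT]
  calc T'.card * r = (ZF ×ˢ T').card := by rw [Finset.card_product, hcard, mul_comm]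
    _ ≤ TF.card := by
      refine Finset.card_le_card_of_injOn (fun p => p.1 * p.2) ?_ ?_
      · rintro ⟨z, t⟩ hp
        obtain ⟨h1, h2⟩ := Finset.mem_product.1 hp
        exact (hTF _).2 (Subgroup.mul_mem _ (hzt z ((hZF z).1 h1)) (hT' t h2).1)
      · rintro ⟨z, t⟩ hp ⟨z', t'⟩ hp' heq
        obtain ⟨h1, h2⟩ := Finset.mem_product.1 hp
        obtain ⟨h1', h2'⟩ := Finset.mem_product.1 hp'
        have hz := (hZF z).1 h1
        have hz' := (hZF z').1 h1'
        have h3 := H279.OZ.conj_parts (r := r) (hzo z hz) (hzo z' hz') (hT' t h2).2 (hT' t' h2').2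
          (h.torus_comm (hzt z hz) (hT' t h2).1.1) (h.torus_comm (hzt z' hz') (hT' t' h2').1.1) (c := 1)
          (by rw [one_mul, inv_one, mul_one]; exact heq)
        simp only [one_mul, inv_one, mul_one] at h3
        rw [h3.1, h3.2]

/-- **Two classes.** -/
theorem Big.two_classes (hσ : ∀ a, F.σ a = a) {j : ℕ} (hj : 1 ≤ j) (hD : orderOf (Nat.card K : ZMod r) = 2 * j)
    (hQ : ∀ a : V →ₗ[K] V, (∀ v, a ((y : V ≃ₗ[K] V) v) = (y : V ≃ₗ[K] V) (a v)) →
      (∀ u ∈ comS (y : V ≃ₗ[K] V), ∀ v ∈ comS (y : V ≃ₗ[K] V), F.B (a u) (a v) = F.B u v) →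
      ∀ u ∈ comS (y : V ≃ₗ[K] V), F.Q (a u) = F.Q u)
    {Z : Subgroup F.iso} (hZ : Z ≤ Subgroup.center F.iso) (hZr : ¬ r ∣ Nat.card Z)
    (hnum : Nat.card Z * (2 * j + 1) < Nat.card K ^ j + 1) {k₀ : F.iso} (hk₀ : k₀ ∈ Ky F y) :
    ∃ t ∈ torus F y, r ∣ orderOf t ∧ ¬ ∃ g : F.iso, ∃ c ∈ Z, g * (y * k₀) * g⁻¹ = c * (t * k₀) := by
  classical
  have := Fact.mk h.prime
  have := Fintype.ofFinite F.iso
  by_contra hcon
  push Not at hcon
  let S : Finset F.iso := Finset.univ.filter fun t => t ∈ torus F y ∧ r ∣ orderOf t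
  let T' : Finset F.iso := Finset.univ.filter fun t => t ∈ torus F y ∧ ¬ r ∣ orderOf t
  let T : Finset F.iso := Finset.univ.filter fun t => t ∈ torus F y
  have hT : T.card = Nat.card (torus F y) := by
    rw [Nat.card_eq_fintype_card, Fintype.card_subtype]
  have hST : S.card + T'.card = T.card := by
    rw [← Finset.card_filter_add_card_filter_not (s := T) (fun t => r ∣ orderOf t), Finset.filter_filter,
      Finset.filter_filter]
  have h1 := h.count hZ hZr hk₀ h.y_mem_torus (by rw [h.orderOf_eq]) S fun t ht => by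
    obtain ⟨-, h1, h2⟩ := Finset.mem_filter.1 ht
    exact ⟨h1, hcon t h1 h2⟩
  have h2 := h.card_ker_torus T' fun t ht => (Finset.mem_filter.1 ht).2
  have h3 := h.card_torus hσ hj hD hQ
  have h4 := le_sub_one (q := Nat.card K) h.prime h.ndvd
  rw [hD] at h1 h4
  rw [← hT] at h2 h3
  have h5 := h.prime.two_le
  set ν := Nat.card Z
  set q := Nat.card K ^ j
  set s := S.card
  set t := T.card
  set t' := T'.card
  have h6 : t * (r - 1) ≤ s * r := by
    have e1 : t * r ≤ s * r + t := by nlinarith only [h2, hST]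
    have e2 : t * (r - 1) + t = t * r := by
      obtain ⟨r', rfl⟩ : ∃ r', r = r' + 1 := ⟨r - 1, by omega⟩
      rw [Nat.add_sub_cancel]; ring
    omega
  obtain ⟨r', rfl⟩ : ∃ r', r = r' + 1 := ⟨r - 1, by omega⟩
  rw [Nat.add_sub_cancel] at h6
  have h7 : ν * (2 * j + 1) + 1 ≤ t := by omega
  have h8 : (ν * (2 * j + 1) + 1) * r' ≤ ν * (2 * j) * (r' + 1) :=
    (Nat.mul_le_mul_right _ h7).trans (h6.trans (Nat.mul_le_mul_right _ h1))
  have h9 : 2 * j ≤ r' := by omega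
  have h10 : ν * (2 * j) ≤ ν * r' := Nat.mul_le_mul_left _ h9
  linarith only [hj, h4, h8, h10]

/-- good elements of the torus -/
theorem Big.good {R : Subgroup F.iso}
    (hC : Subgroup.centralizer ({y} : Set F.iso) ≤ Subgroup.centralizer (R : Set F.iso)) {z : F.iso}
    (hz : z ∈ torus F y) (hz1 : z ≠ 1) {a : ℕ} (ha : orderOf z = r ^ a) :
    Subgroup.centralizer ({z} : Set F.iso) ≤ Subgroup.centralizer (R : Set F.iso) := by
  have hr := h.prime
  have ha0 : a ≠ 0 := by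
    rintro rfl
    rw [pow_zero] at ha
    exact hz1 (orderOf_eq_one_iff.1 ha)
  obtain ⟨b, rfl⟩ : ∃ b, a = b + 1 := ⟨a - 1, by omega⟩
  have hw : orderOf (z ^ r ^ b) = r := by
    rw [orderOf_pow_of_dvd (pow_ne_zero _ hr.ne_zero) (by rw [ha]; exact pow_dvd_pow r (Nat.le_succ b)), ha,
      pow_succ, Nat.mul_div_cancel_left _ (pow_pos hr.pos b)]
  have hwT := Subgroup.pow_mem _ hz (r ^ b)
  have h1 : z ^ r ^ b ∈ Subgroup.zpowers y := h.mem_zpowers hwT.1 (by
    have := pow_orderOf_eq_one (z ^ r ^ b)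
    rwa [hw] at this)
  have h2 : Subgroup.zpowers (z ^ r ^ b) = Subgroup.zpowers y := by
    apply Subgroup.eq_of_le_of_card_ge (Subgroup.zpowers_le.2 h1)
    rw [Nat.card_zpowers, Nat.card_zpowers, h.orderOf_eq, hw]
  have h3 : y ∈ Subgroup.zpowers z := by
    have h4 : y ∈ Subgroup.zpowers (z ^ r ^ b) := h2 ▸ Subgroup.mem_zpowers y
    exact (Subgroup.zpowers_le.2 (Subgroup.pow_mem _ (Subgroup.mem_zpowers z) _)) h4
  intro c hc
  refine hC ?_
  rw [Subgroup.mem_centralizer_singleton_iff] at hc ⊢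
  obtain ⟨i, rfl⟩ := Subgroup.mem_zpowers_iff.1 h3
  exact ((show Commute c z from hc).zpow_right i).eq

theorem Big.split [Fact r.Prime] {R : Sylow r F.iso} (hRT : (R : Subgroup F.iso) ≤ torus F y)
    (hC : Subgroup.centralizer ({y} : Set F.iso) ≤ Subgroup.centralizer ((R : Subgroup F.iso) : Set F.iso))
    {t : F.iso} (ht : t ∈ torus F y) (hrt : r ∣ orderOf t) :
    ∃ y' t' : F.iso, t = y' * t' ∧ y' ∈ R ∧
      Subgroup.centralizer ({y'} : Set F.iso) ≤ Subgroup.centralizer ((R : Subgroup F.iso) : Set F.iso) ∧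
      t' ∈ Subgroup.centralizer ((R : Subgroup F.iso) : Set F.iso) ∧ (∀ x ∈ Ky F y, t' * x = x * t') ∧
      ¬ r ∣ orderOf t' := by
  have := Fintype.ofFinite F.iso
  obtain ⟨y', t', h1, h2, h3, h4⟩ := H279.OZ.exists_parts (R := R) (l := t)
    (hC (Subgroup.mem_centralizer_singleton_iff.2 ht.1.eq))
  have hy'T := hRT h3
  have ht'T : t' ∈ torus F y := by
    have : t' = y'⁻¹ * t := by rw [h1]; group
    rw [this]
    exact Subgroup.mul_mem _ (Subgroup.inv_mem _ hy'T) ht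
  have hne : y' ≠ 1 := by
    rintro rfl
    rw [one_mul] at h1
    exact h4 (h1 ▸ hrt)
  obtain ⟨a, ha⟩ := H279.OZ.rpow_of_mem R h3
  exact ⟨y', t', h1, h3, h.good hC hy'T hne ha, h2, fun x hx => (h.torus_comm ht'T (h.Ky_comm hx)).eq, h4⟩

/-- **Two classes**, in the form needed for `alt_inner`. -/
theorem Big.two_good [Fact r.Prime] (hσ : ∀ a, F.σ a = a) {j : ℕ} (hj : 1 ≤ j)
    (hD : orderOf (Nat.card K : ZMod r) = 2 * j)
    (hQ : ∀ a : V →ₗ[K] V, (∀ v, a ((y : V ≃ₗ[K] V) v) = (y : V ≃ₗ[K] V) (a v)) →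
      (∀ u ∈ comS (y : V ≃ₗ[K] V), ∀ v ∈ comS (y : V ≃ₗ[K] V), F.B (a u) (a v) = F.B u v) →
      ∀ u ∈ comS (y : V ≃ₗ[K] V), F.Q (a u) = F.Q u)
    {R : Sylow r F.iso} (hRT : (R : Subgroup F.iso) ≤ torus F y) (hyR : y ∈ R)
    (hC : Subgroup.centralizer ({y} : Set F.iso) ≤ Subgroup.centralizer ((R : Subgroup F.iso) : Set F.iso))
    {S : Type w} [Group S] {π : F.iso →* S} (hπ : Function.Surjective π) (hker : π.ker ≤ Subgroup.center F.iso)
    (hZr : ¬ r ∣ Nat.card π.ker) (hnum : Nat.card π.ker * (2 * j + 1) < Nat.card K ^ j + 1) (k₀ : F.iso)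
    (hk₀ : k₀ ∈ Ky F y) :
    ∃ y₁ ∈ R, ∃ t₁ ∈ Subgroup.centralizer ((R : Subgroup F.iso) : Set F.iso),
    ∃ y₂ ∈ R, ∃ t₂ ∈ Subgroup.centralizer ((R : Subgroup F.iso) : Set F.iso),
      Subgroup.centralizer ({y₁} : Set F.iso) ≤ Subgroup.centralizer ((R : Subgroup F.iso) : Set F.iso) ∧
      (∀ x ∈ Ky F y, t₁ * x = x * t₁) ∧ ¬ r ∣ orderOf t₁ ∧
      Subgroup.centralizer ({y₂} : Set F.iso) ≤ Subgroup.centralizer ((R : Subgroup F.iso) : Set F.iso) ∧
      (∀ x ∈ Ky F y, t₂ * x = x * t₂) ∧ ¬ r ∣ orderOf t₂ ∧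
      ¬ IsConj (π (y₁ * t₁ * k₀)) (π (y₂ * t₂ * k₀)) := by
  obtain ⟨t, ht, hrt, hno⟩ := h.two_classes hσ hj hD hQ hker hZr hnum hk₀
  obtain ⟨y', t', h1, h2, h3, h4, h5, h6⟩ := h.split hRT hC ht hrt
  refine ⟨y, hyR, 1, Subgroup.one_mem _, y', h2, t', h4, hC, fun x _ => by rw [one_mul, mul_one], ?_, h3, h5, h6,
    fun hcon => hno ?_⟩
  · rw [orderOf_one]
    exact fun hd => h.prime.one_lt.ne' (Nat.dvd_one.1 hd)
  · rw [mul_one, ← h1] at hcon
    exact conj_of_isConj hπ hcon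

theorem Big.card_cent_or (hσ : ∀ a, F.σ a = a) {j : ℕ} (hj : 1 ≤ j)
    (hD : orderOf (Nat.card K : ZMod r) = 2 * j)
    (hQ : ∀ a : V →ₗ[K] V, (∀ v, a ((y : V ≃ₗ[K] V) v) = (y : V ≃ₗ[K] V) (a v)) →
      (∀ u ∈ comS (y : V ≃ₗ[K] V), ∀ v ∈ comS (y : V ≃ₗ[K] V), F.B (a u) (a v) = F.B u v) →
      ∀ u ∈ comS (y : V ≃ₗ[K] V), F.Q (a u) = F.Q u)
    {S : Type w} [Group S] {π : F.iso →* S} (hπ : Function.Surjective π) (hker : π.ker ≤ Subgroup.center F.iso)
    (hZr : ¬ r ∣ Nat.card π.ker)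
    (hnum : Nat.card π.ker * (Nat.card π.ker * (2 * j) + 1) < Nat.card K ^ j + 1) :
    Nat.card (Subgroup.centralizer ({y} : Set F.iso)) ≠ r * Nat.card π.ker ∨
      ∃ m : ℕ, ¬ r ∣ m ∧ ¬ IsConj (π y) (π y ^ m) := by
  classical
  by_contra hcon
  push Not at hcon
  obtain ⟨hc1, hc2⟩ := hcon
  have hr := h.prime
  let S' : Finset F.iso := (Finset.Ico 1 r).image fun m => y ^ m
  have hS' : S'.card = r - 1 := by
    rw [Finset.card_image_of_injOn, Nat.card_Ico]
    intro a ha b hb hab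
    have ha' := Finset.mem_Ico.1 ha
    have hb' := Finset.mem_Ico.1 hb
    exact pow_injOn_Iio_orderOf (by rw [h.orderOf_eq]; exact ha'.2) (by rw [h.orderOf_eq]; exact hb'.2) hab
  have h1 := h.count (k₀ := 1) hker hZr (Subgroup.one_mem _) h.y_mem_torus (by rw [h.orderOf_eq]) S' fun t ht => by
    obtain ⟨m, hm, rfl⟩ := Finset.mem_image.1 ht
    have hm' := Finset.mem_Ico.1 hm
    refine ⟨Subgroup.pow_mem _ h.y_mem_torus m, ?_⟩
    rw [mul_one, mul_one]
    refine conj_of_isConj hπ ?_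
    rw [map_pow]
    exact hc2 m fun hd => by
      have := Nat.le_of_dvd (by omega) hd
      omega
  have h3 := h.card_torus hσ hj hD hQ
  have h4 : Nat.card (torus F y) ≤ Nat.card (Subgroup.centralizer ({y} : Set F.iso)) := by
    refine Subgroup.card_le_of_le fun t ht => ?_
    exact Subgroup.mem_centralizer_singleton_iff.2 ht.1.eq
  rw [hS', hD] at h1
  rw [hc1] at h4
  have h5 : r ≤ Nat.card π.ker * (2 * j) + 1 := by omega
  have h6 : r * Nat.card π.ker ≤ Nat.card π.ker * (Nat.card π.ker * (2 * j) + 1) := by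
    rw [mul_comm]
    exact Nat.mul_le_mul_left _ h5
  omega

end Cfsg.Agent.H477.OZ
end

private theorem dce_fa87912080c6 : _root_.True := by
  try have : _root_.True := by simp only [_root_.Cfsg.Agent.H477.OZ.fixS.eq_1]
  exact _root_.True.intro
end

-- part: H366/OZ/SpFront
section
prune_inst 0x231406545356202040000058611202024640005b000600001e8020042000183200980a140068010000a2622011001002000000010404000000e00000000010120800210041100000406001900008401000000000000000000000080000000000400c010002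
set_option linter.all false
open scoped Cfsg.Agent.FastGrp

-- part: H477/OZ/CongS
section
/-!
# Congruences with several values (S4842, helper477)

* `CongS p r C G` : `e p^m ≡ c (mod r)` for some `c ∈ C`; `none_of_congS` : the closing criterion.
* `cSet p v q k` : the sums of the linear characters of `Sp_{2k}(q)` (or `Omega_{2k+1}(q)`) over the `p`-elements,
  `{p^(2v)}` standing for the perfect case.
* `SpCong p n q S` : all congruences used for `PSp_{2n}(q)`, `Omega_{2n+1}(q)`.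
-/

set_option autoImplicit false

open Cfsg Cfsg.Agent.Characters Cfsg.Agent.H730.OZ

namespace Cfsg.Agent.H477.OZ

universe u

variable {G : Type u} [Group G]

/-- `e p^m ≡ c (mod r)` for some `c ∈ C`, for the characters with exactly one class of zeros. -/
def CongS (p r : ℕ) (C : Set ℤ) (G : Type u) [Group G] : Prop :=
  ∀ χ : G → ℂ, IsIrrCharacter G χ → OneZero χ → ∀ (m : ℕ) (e : ℤ), (e = 1 ∨ e = -1) →
    ∑ᶠ u ∈ pSet p G, χ u = (e : ℂ) * (p : ℂ) ^ m * χ 1 → ∃ c ∈ C, (r : ℤ) ∣ e * (p : ℤ) ^ m - c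

/-- **Closing criterion** with `CongS`. -/
theorem none_of_congS [Finite G] (hs : IsSimpleGroup G) {p : ℕ} (hp : p.Prime) {v : ℕ}
    (hv : (Nat.card G).factorization p = v) (hv0 : v ≠ 0) (hK : Kaw p G)
    (h0 : ¬ p ^ (2 * v) - 1 ∣ Nat.card G)
    (hmid : ∀ (m : ℕ) (e : ℤ), (e = 1 ∨ e = -1) → 0 < m → m < 2 * v →
      (∀ (r : ℕ) (C : Set ℤ), CongS p r C G → ∃ c ∈ C, (r : ℤ) ∣ e * (p : ℤ) ^ m - c) → False)
    {χ : G → ℂ} (hχ : IsIrrCharacter G χ) : ¬ OneZero χ := by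
  classical
  intro hz
  have := Fintype.ofFinite G
  have hd : ((charDegree χ : ℕ) : ℂ) = χ 1 := H686.CharKit.charDegree_cast (Core.isIrr_isCharacter hχ)
  have hd0 : 0 < charDegree χ := H686.CharKit.charDegree_pos ⟨χ, hχ⟩
  have hpG : p ∣ Nat.card G := by
    by_contra h
    rw [Nat.factorization_eq_zero_of_not_dvd h] at hv
    exact hv0 hv.symm
  obtain ⟨m, e, he, hsum⟩ := hK.sum χ hχ
  obtain ⟨hmle, hmtop⟩ := hK.top hp hχ he hsum
  rw [hv] at hmle hmtop
  rcases Nat.eq_zero_or_pos m with hm0 | hm0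
  · -- `m = 0`
    refine h0 ?_
    have h1 := OneZero.dvd_of_degree hp hpG hχ hz ?_
    · rwa [hK.card, hv] at h1
    · obtain ⟨z, hzz⟩ := frob hp hχ
      rw [hsum, hm0, pow_zero, mul_one, ← hd] at hzz
      have h2 : e * (charDegree χ : ℤ) = ((p ^ (Nat.card G).factorization p : ℕ) : ℤ) * z := by
        exact_mod_cast hzz
      have h3 : ((p ^ (Nat.card G).factorization p : ℕ) : ℤ) ∣ (charDegree χ : ℤ) := by
        rcases he with rfl | rfl
        · exact ⟨z, by rw [← h2, one_mul]⟩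
        · exact ⟨-z, by rw [mul_neg, ← h2]; ring⟩
      exact_mod_cast h3
  rcases Nat.lt_or_ge m (2 * v) with hlt | hge
  · exact hmid m e he hm0 hlt fun r C hrk => hrk χ hχ hz m e he hsum
  · -- `m = 2 v`
    have hall := hmtop (le_antisymm hmle hge)
    obtain ⟨u, hu⟩ := @exists_prime_orderOf_dvd_card' G _ _ p ⟨hp⟩ hpG
    have hu1 : χ u = χ 1 := hall u ⟨1, by rw [hu, pow_one]⟩
    set K := H686.CharKit.chKer (⟨χ, hχ⟩ : IrrCharacter G) with hKdef
    have huK : u ∈ K := H686.CharKit.mem_chKer.2 hu1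
    have hKtop : K = ⊤ := by
      rcases hs.eq_bot_or_eq_top_of_normal K inferInstance with h | h
      · exfalso
        rw [h, Subgroup.mem_bot] at huK
        rw [huK, orderOf_one] at hu
        exact hp.one_lt.ne hu
      · exact h
    obtain ⟨x, hx0, -⟩ := hz
    have hxK : x ∈ K := by rw [hKtop]; exact Subgroup.mem_top _
    have hx1 : χ x = χ 1 := H686.CharKit.mem_chKer.1 hxK
    rw [hx0, ← hd] at hx1
    have : (charDegree χ : ℂ) ≠ 0 := by exact_mod_cast hd0.ne'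
    exact this hx1.symm

/-- The sums of the linear characters of `Sp_{2k}(q)` over the `p`-elements. -/
def cSet (p v q k : ℕ) : Set ℤ :=
  {c | (k = 0 ∧ c = 1) ∨ (k = 1 ∧ q = 2 ∧ (c = 4 ∨ c = -2)) ∨ (k = 1 ∧ q = 3 ∧ (c = 9 ∨ c = -3)) ∨
    (k = 2 ∧ q = 2 ∧ (c = 256 ∨ c = 16)) ∨
    (k ≠ 0 ∧ ¬ (k = 1 ∧ (q = 2 ∨ q = 3)) ∧ ¬ (k = 2 ∧ q = 2) ∧ c = (p : ℤ) ^ (2 * v))}

/-- All congruences for `PSp_{2n}(q)`, `Omega_{2n+1}(q)`. -/
def SpCong (p n q : ℕ) (S : Type u) [Group S] : Prop :=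
  ∀ k r : ℕ, 2 * k < n → 3 ≤ n - k → r.Prime → orderOf ((q : ℕ) : ZMod r) = 2 * (n - k) →
    CongS p r (cSet p ((Nat.card S).factorization p) q k) S

end Cfsg.Agent.H477.OZ
end

-- part: H167/OZ/SpArith
section
/-!
# S4842: arithmetic of the rows `PSp_2n(q)`, `Ω_{2n+1}(q)`, `n ≥ 5`

`sp_false` : the congruences `e p^m ≡ c_k (mod r)`, `ord_r(q) = 2 (n - k)`, with `c_k = q^(2 k^2)` (`Val` gives the
exceptional values of `c_1`, `c_2` for `q = 2, 3`), have no solution `0 < m < 2 a n^2`.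
`om_false` : the version with `c_k = q^(2 k^2)`, `k ≤ 2`.
`not_dvd_sp` : `p^(2 a n^2) - 1` does not divide the order.
-/

set_option autoImplicit false

namespace Cfsg.Agent.H167.OZ

/-- the value of the sum of a linear character over the `p`-elements of `Sp_2k(q)`, `q = p ^ a` -/
def Val (p a k : ℕ) (c : ℤ) : Prop :=
  c = (p : ℤ) ^ (2 * a * k ^ 2) ∨ (p ^ a = 3 ∧ k = 1 ∧ c = -3) ∨ (p ^ a = 2 ∧ k = 1 ∧ c = -2) ∨
    (p ^ a = 2 ∧ k = 2 ∧ c = 16)

/-- `e p^m ≡ e' p^s (mod r)` in terms of the exponents, `ord_r(p) = 2 h` -/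
theorem key {p r h m s : ℕ} {e e' : ℤ} (hr : r.Prime) (hD : orderOf (p : ZMod r) = 2 * h) (hh : 0 < h)
    (he : e = 1 ∨ e = -1) (he' : e' = 1 ∨ e' = -1) (hd : (r : ℤ) ∣ e * (p : ℤ) ^ m - e' * (p : ℤ) ^ s) :
    m ≡ s + (if e = e' then 0 else h) [MOD 2 * h] := by
  have : Fact r.Prime := ⟨hr⟩
  have hx0 : (p : ZMod r) ≠ 0 := by
    intro h0
    have h1 : (p : ZMod r) ^ (2 * h) = 1 := by rw [← hD]; exact pow_orderOf_eq_one _
    rw [h0, zero_pow (by omega)] at h1
    exact zero_ne_one h1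
  let u : (ZMod r)ˣ := Units.mk0 _ hx0
  have hu : orderOf u = 2 * h := by rw [← orderOf_units]; exact hD
  have hneg : u ^ h = -1 := by
    have h1 : (u ^ h) ^ 2 = 1 := by rw [← pow_mul, mul_comm, ← hu]; exact pow_orderOf_eq_one _
    have h2 : u ^ h ≠ 1 := by
      intro h3
      have := Nat.le_of_dvd hh (orderOf_dvd_of_pow_eq_one h3)
      omega
    have h3 : ((u ^ h : (ZMod r)ˣ) : ZMod r) ^ 2 = 1 := by rw [← Units.val_pow_eq_pow_val, h1, Units.val_one]
    rcases mul_self_eq_one_iff.1 ((pow_two _).symm.trans h3) with h4 | h4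
    · exact absurd (Units.ext h4) h2
    · exact Units.ext (by rw [h4, Units.val_neg, Units.val_one])
  have hc : ((e : ℤ) : ZMod r) * (p : ZMod r) ^ m = ((e' : ℤ) : ZMod r) * (p : ZMod r) ^ s := by
    have h1 := (ZMod.intCast_zmod_eq_zero_iff_dvd _ r).2 hd
    push_cast at h1
    exact sub_eq_zero.1 h1
  rw [← hu]
  split_ifs with hee
  · subst hee
    refine pow_eq_pow_iff_modEq.1 (Units.ext ?_)
    rw [Units.val_pow_eq_pow_val, Units.val_pow_eq_pow_val]
    have h0 : ((e : ℤ) : ZMod r) ≠ 0 := by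
      rcases he with rfl | rfl <;> simp
    exact mul_left_cancel₀ h0 hc
  · refine pow_eq_pow_iff_modEq.1 (Units.ext ?_)
    rw [pow_add, hneg, Units.val_mul, Units.val_pow_eq_pow_val, Units.val_pow_eq_pow_val, Units.val_neg, Units.val_one]
    rcases he with rfl | rfl <;> rcases he' with rfl | rfl
    · exact absurd rfl hee
    · rw [Int.cast_neg, Int.cast_one, one_mul] at hc
      rw [show ((u : (ZMod r)ˣ) : ZMod r) = (p : ZMod r) from rfl, hc]; ring
    · rw [Int.cast_neg, Int.cast_one, one_mul] at hc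
      rw [show ((u : (ZMod r)ˣ) : ZMod r) = (p : ZMod r) from rfl, ← hc]; ring
    · exact absurd rfl hee

/-- the congruence for `k`, after `m = a n t` -/
theorem red {p a n m k t r y : ℕ} {e e' : ℤ} (ha : 0 < a) (ht : m = a * (n * t))
    (hte : e = 1 ∧ Even t ∨ e = -1 ∧ Odd t) (he' : e' = 1 ∨ e' = -1) (hk : k < n) (hr : r.Prime)
    (hD : orderOf (p : ZMod r) = a * (2 * (n - k))) (hd : (r : ℤ) ∣ e * (p : ℤ) ^ m - e' * (p : ℤ) ^ (a * y)) :
    (2 * ((n : ℤ) - k)) ∣ k * t - (y + (if e' = 1 then 0 else ((n : ℤ) - k))) := by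
  have he : e = 1 ∨ e = -1 := by rcases hte with ⟨h, -⟩ | ⟨h, -⟩ <;> simp [h]
  have h1 := key (h := a * (n - k)) hr (by rw [hD]; ring) (Nat.mul_pos ha (by omega)) he he' hd
  have h2 : n * t ≡ y + (if e = e' then 0 else (n - k)) [MOD 2 * (n - k)] := by
    refine Nat.ModEq.mul_left_cancel' (c := a) ha.ne' ?_
    rw [← ht, show a * (2 * (n - k)) = 2 * (a * (n - k)) by ring]
    convert h1 using 2
    rw [mul_add]
    split_ifs <;> simp
  have h3 := (Nat.modEq_iff_dvd.1 h2.symm)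
  push_cast [Nat.cast_sub hk.le] at h3
  obtain ⟨u, hu⟩ := h3
  rcases hte with ⟨rfl, t', ht'⟩ | ⟨rfl, t', ht'⟩ <;> rcases he' with rfl | rfl
  · rw [if_pos rfl] at hu ⊢
    refine ⟨u - t', ?_⟩
    subst ht'
    push_cast at hu ⊢
    linear_combination hu
  · rw [if_neg (by norm_num)] at hu ⊢
    refine ⟨u - t', ?_⟩
    subst ht'
    push_cast at hu ⊢
    linear_combination hu
  · rw [if_neg (by norm_num)] at hu
    rw [if_pos rfl]
    refine ⟨u - t', ?_⟩
    subst ht'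
    push_cast at hu ⊢
    linear_combination hu
  · rw [if_pos rfl] at hu
    rw [if_neg (by norm_num)]
    refine ⟨u - t' - 1, ?_⟩
    subst ht'
    push_cast at hu ⊢
    linear_combination hu

/-- a primitive prime divisor of order `2 (n - k)` for `q = p ^ a` -/
theorem exists_r {p a n k : ℕ} (hp : p.Prime) (ha : 0 < a) (hnk : 3 ≤ n - k) (h2 : ¬ (p ^ a = 2 ∧ n - k = 3)) :
    ∃ r : ℕ, r.Prime ∧ orderOf (p : ZMod r) = a * (2 * (n - k)) ∧ orderOf ((p ^ a : ℕ) : ZMod r) = 2 * (n - k) := by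
  have h6 : 6 ≤ a * (2 * (n - k)) := by nlinarith
  obtain ⟨r, hr, hD⟩ := Cfsg.Agent.Lib.Zsigmondy.exists_prime_orderOf (a := p) (n := a * (2 * (n - k))) hp.two_le
    (by omega) (by omega) (by
      rintro ⟨rfl, h⟩
      have ha1 : a = 1 := by
        by_contra h1
        have h2 : 2 ≤ a := by omega
        have : 12 ≤ a * (2 * (n - k)) := by nlinarith only [hnk, h2]
        omega
      subst ha1
      exact h2 ⟨by norm_num, by omega⟩)
  refine ⟨r, hr, hD, ?_⟩
  rw [Nat.cast_pow, orderOf_pow_of_dvd ha.ne' (by rw [hD]; exact dvd_mul_right _ _), hD,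
    Nat.mul_div_cancel_left _ ha]

/-- the first two congruences -/
theorem exists_t {p a n m : ℕ} {e : ℤ} (ha : 0 < a) (hn : 4 ≤ n)
    (hm0 : 0 < m) (hm : m < 2 * (a * n ^ 2)) (he : e = 1 ∨ e = -1)
    (h0 : ∃ r : ℕ, r.Prime ∧ orderOf (p : ZMod r) = a * (2 * n) ∧ (r : ℤ) ∣ e * (p : ℤ) ^ m - 1) :
    ∃ t, 0 < t ∧ t < 2 * n ∧ m = a * (n * t) ∧ (e = 1 ∧ Even t ∨ e = -1 ∧ Odd t) := by
  obtain ⟨r, hr, hD, hd⟩ := h0
  have h1 := key (m := m) (e' := 1) (s := 0) (h := a * n) hr (by rw [hD]; ring) (Nat.mul_pos ha (by omega)) he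
    (Or.inl rfl) (by simpa using hd)
  rw [zero_add] at h1
  have h2 := Nat.modEq_iff_dvd.1 h1.symm
  obtain ⟨u, hu⟩ := h2
  have han : (0 : ℤ) < a * n := by positivity
  have hm0' : (0 : ℤ) < m := by exact_mod_cast hm0
  have hm' : (m : ℤ) < 2 * (a * n ^ 2) := by exact_mod_cast hm
  rcases he with rfl | rfl
  · rw [if_pos rfl] at hu
    push_cast at hu
    have hmu : (m : ℤ) = (a * n) * (2 * u) := by linear_combination hu
    have hu0 : 0 < u := by
      by_contra h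
      nlinarith only [hn, hm0, hm, hu, h]
    have hu1 : u < n := by
      by_contra h
      have : (n : ℤ) ≤ u := by omega
      nlinarith only [hm, hu, hu0, h]
    refine ⟨2 * u.toNat, by omega, by omega, ?_, Or.inl ⟨rfl, even_two_mul _⟩⟩
    have hc : ((2 * u.toNat : ℕ) : ℤ) = 2 * u := by push_cast; rw [Int.toNat_of_nonneg hu0.le]
    have : (m : ℤ) = ((a * (n * (2 * u.toNat)) : ℕ) : ℤ) := by
      rw [Nat.cast_mul, Nat.cast_mul, hc, hmu]; ring
    exact_mod_cast this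
  · rw [if_neg (by norm_num)] at hu
    push_cast at hu
    have hmu : (m : ℤ) = (a * n) * (2 * u + 1) := by linear_combination hu
    have hu0 : 0 ≤ u := by
      by_contra h
      nlinarith only [hm, hu, h]
    have hu1 : u < n := by
      by_contra h
      have : (n : ℤ) ≤ u := by omega
      nlinarith only [hm, hu, h]
    refine ⟨2 * u.toNat + 1, by omega, by omega, ?_, Or.inr ⟨rfl, odd_two_mul_add_one _⟩⟩
    have hc : ((2 * u.toNat + 1 : ℕ) : ℤ) = 2 * u + 1 := by push_cast; rw [Int.toNat_of_nonneg hu0]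
    have : (m : ℤ) = ((a * (n * (2 * u.toNat + 1)) : ℕ) : ℤ) := by
      rw [Nat.cast_mul, Nat.cast_mul, hc, hmu]; ring
    exact_mod_cast this

/-- `2 (n - 1) ∣ t - 2` -/
theorem t_two {n t : ℕ} (hn : 4 ≤ n) (h0 : 0 < t) (h1 : t < 2 * n) (h : (2 * ((n : ℤ) - (1 : ℕ))) ∣ (1 : ℕ) * t - ((2 : ℕ) + 0)) :
    t = 2 := by
  push_cast at h
  by_contra h2
  have h3 := Int.le_of_dvd (a := 2 * ((n : ℤ) - 1)) (b := |1 * (t : ℤ) - 2|) (by
    rw [abs_pos]; omega) ((dvd_abs _ _).2 h)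
  rw [le_abs] at h3
  omega

/-- `2 (n - 1) ∣ t - n` -/
theorem t_n {n t : ℕ} (hn : 4 ≤ n) (h0 : 0 < t) (h1 : t < 2 * n)
    (h : (2 * ((n : ℤ) - (1 : ℕ))) ∣ (1 : ℕ) * t - ((1 : ℕ) + ((n : ℤ) - (1 : ℕ)))) : t = n := by
  push_cast at h
  by_contra h2
  have h3 := Int.le_of_dvd (a := 2 * ((n : ℤ) - 1)) (b := |1 * (t : ℤ) - (1 + ((n : ℤ) - 1))|) (by
    rw [abs_pos]; omega) ((dvd_abs _ _).2 h)
  rw [le_abs] at h3
  omega

/-- `p ^ a = 3` resp. `2` -/
theorem prime_of_pow {p a l : ℕ} (ha : 0 < a) (hl : l.Prime) (h : p ^ a = l) : p = l ∧ a = 1 := by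
  have h1 : p ∣ l := h ▸ dvd_pow_self p ha.ne'
  rcases (Nat.dvd_prime hl).1 h1 with h2 | h2
  · rw [h2, one_pow] at h
    exact absurd h.symm hl.one_lt.ne'
  · refine ⟨h2, ?_⟩
    rw [h2] at h
    exact Nat.pow_right_injective hl.two_le (by simpa using h)

/-- **The version with perfect `K`**: rows `Ω_{2n+1}(q)`. -/
theorem om_false {p a n m : ℕ} {e : ℤ} (hp : p.Prime) (ha : 0 < a) (hn : 5 ≤ n) (h52 : ¬ (p ^ a = 2 ∧ n = 5))
    (hm0 : 0 < m) (hm : m < 2 * (a * n ^ 2)) (he : e = 1 ∨ e = -1)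
    (hc : ∀ k r : ℕ, k ≤ 2 → r.Prime → orderOf (p : ZMod r) = a * (2 * (n - k)) →
      orderOf ((p ^ a : ℕ) : ZMod r) = 2 * (n - k) → (r : ℤ) ∣ e * (p : ℤ) ^ m - (p : ℤ) ^ (2 * a * k ^ 2)) : False := by
  obtain ⟨t, ht0, ht1, htm, hte⟩ := exists_t ha (by omega) hm0 hm he (by
    obtain ⟨r, hr, hD, hD'⟩ := exists_r (n := n) (k := 0) hp ha (by omega) (by omega)
    refine ⟨r, hr, hD, ?_⟩
    simpa using hc 0 r (by norm_num) hr hD hD')
  have ht : t = 2 := by
    obtain ⟨r, hr, hD, hD'⟩ := exists_r (n := n) (k := 1) hp ha (by omega) (by omega)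
    have h1 := hc 1 r (by norm_num) hr hD hD'
    have h2 := red (y := 2) (e' := 1) ha htm hte (Or.inl rfl) (by omega) hr hD (by
      rw [one_mul, show a * 2 = 2 * a * 1 ^ 2 by ring]; exact h1)
    rw [if_pos rfl] at h2
    exact t_two (by omega) ht0 ht1 h2
  subst ht
  obtain ⟨r, hr, hD, hD'⟩ := exists_r (n := n) (k := 2) hp ha (by omega) (by
    rintro ⟨h1, h2⟩; exact h52 ⟨h1, by omega⟩)
  have h1 := hc 2 r (by norm_num) hr hD hD'
  have h2 := red (y := 8) (e' := 1) ha htm hte (Or.inl rfl) (by omega) hr hD (by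
    rw [one_mul, show a * 8 = 2 * a * 2 ^ 2 by ring]; exact h1)
  rw [if_pos rfl] at h2
  have h3 : (2 * ((n : ℤ) - 2)) ∣ 4 := by
    obtain ⟨u, hu⟩ := h2
    refine ⟨-u, ?_⟩
    push_cast at hu
    linear_combination (-1 : ℤ) * hu
  have h4 := Int.le_of_dvd (by norm_num) h3
  omega

/-- **The version with the exceptional values**: rows `PSp_2n(q)`. -/
theorem sp_false {p a n m : ℕ} {e : ℤ} (hp : p.Prime) (ha : 0 < a) (hn : 5 ≤ n) (h52 : ¬ (p ^ a = 2 ∧ n ≤ 6))
    (hm0 : 0 < m) (hm : m < 2 * (a * n ^ 2)) (he : e = 1 ∨ e = -1)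
    (hc : ∀ k r : ℕ, k ≤ 5 → n < 2 * (n - k) → ¬ (p ^ a = 2 ∧ n - k = 3) → r.Prime →
      orderOf (p : ZMod r) = a * (2 * (n - k)) → orderOf ((p ^ a : ℕ) : ZMod r) = 2 * (n - k) →
      ∃ c, Val p a k c ∧ (r : ℤ) ∣ e * (p : ℤ) ^ m - c) : False := by
  obtain ⟨t, ht0, ht1, htm, hte⟩ := exists_t ha (by omega) hm0 hm he (by
    obtain ⟨r, hr, hD, hD'⟩ := exists_r (n := n) (k := 0) hp ha (by omega) (by omega)
    refine ⟨r, hr, hD, ?_⟩
    obtain ⟨c, hv, hd⟩ := hc 0 r (by norm_num) (by omega) (by omega) hr hD hD'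
    rcases hv with rfl | ⟨-, h, -⟩ | ⟨-, h, -⟩ | ⟨-, h, -⟩
    · simpa using hd
    all_goals omega)
  have ht : t = 2 ∨ (t = n ∧ a = 1 ∧ (p = 2 ∨ p = 3)) := by
    obtain ⟨r, hr, hD, hD'⟩ := exists_r (n := n) (k := 1) hp ha (by omega) (by omega)
    obtain ⟨c, hv, hd⟩ := hc 1 r (by norm_num) (by omega) (by omega) hr hD hD'
    rcases hv with rfl | ⟨hq, -, rfl⟩ | ⟨hq, -, rfl⟩ | ⟨-, h, -⟩
    · left
      have h2 := red (y := 2) (e' := 1) ha htm hte (Or.inl rfl) (by omega) hr hD (by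
        rw [one_mul, show a * 2 = 2 * a * 1 ^ 2 by ring]; exact hd)
      rw [if_pos rfl] at h2
      exact t_two (by omega) ht0 ht1 h2
    · right
      obtain ⟨rfl, rfl⟩ := prime_of_pow ha Nat.prime_three hq
      have h2 := red (y := 1) (e' := -1) ha htm hte (Or.inr rfl) (by omega) hr hD (by
        convert hd using 2
        norm_num)
      rw [if_neg (by norm_num)] at h2
      exact ⟨t_n (by omega) ht0 ht1 h2, rfl, Or.inr rfl⟩
    · right
      obtain ⟨rfl, rfl⟩ := prime_of_pow ha Nat.prime_two hq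
      have h2 := red (y := 1) (e' := -1) ha htm hte (Or.inr rfl) (by omega) hr hD (by
        convert hd using 2
        norm_num)
      rw [if_neg (by norm_num)] at h2
      exact ⟨t_n (by omega) ht0 ht1 h2, rfl, Or.inl rfl⟩
    · omega
  -- `k = 2`
  have hq2 : p ^ a = 2 := by
    obtain ⟨r, hr, hD, hD'⟩ := exists_r (n := n) (k := 2) hp ha (by omega) (by
      rintro ⟨h1, h2⟩; exact h52 ⟨h1, by omega⟩)
    obtain ⟨c, hv, hd⟩ := hc 2 r (by norm_num) (by omega) (by rintro ⟨h1, h2⟩; exact h52 ⟨h1, by omega⟩) hr hD hD'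
    rcases hv with rfl | ⟨-, h, -⟩ | ⟨-, h, -⟩ | ⟨h, -, -⟩
    · exfalso
      have h2 := red (y := 8) (e' := 1) ha htm hte (Or.inl rfl) (by omega) hr hD (by
        rw [one_mul, show a * 8 = 2 * a * 2 ^ 2 by ring]; exact hd)
      rw [if_pos rfl] at h2
      have h3 : (2 * ((n : ℤ) - 2)) ∣ 4 := by
        obtain ⟨u, hu⟩ := h2
        rcases ht with rfl | ⟨rfl, -⟩
        · refine ⟨-u, ?_⟩
          push_cast at hu
          linear_combination (-1 : ℤ) * hu
        · refine ⟨1 - u, ?_⟩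
          push_cast at hu
          linear_combination (-1 : ℤ) * hu
      have h4 := Int.le_of_dvd (by norm_num) h3
      omega
    · omega
    · omega
    · exact h
  obtain ⟨rfl, rfl⟩ := prime_of_pow ha Nat.prime_two hq2
  have hn7 : 7 ≤ n := by
    by_contra h
    exact h52 ⟨hq2, by omega⟩
  -- `k ≥ 3`
  have hk : ∀ k, 3 ≤ k → k ≤ 5 → n < 2 * (n - k) → n - k ≠ 3 →
      (2 * ((n : ℤ) - k)) ∣ k * t - ((2 * k ^ 2 : ℕ) + 0) := by
    intro k h3 h5 h1 h2
    obtain ⟨r, hr, hD, hD'⟩ := exists_r (n := n) (k := k) hp ha (by omega) (by omega)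
    obtain ⟨c, hv, hd⟩ := hc k r h5 h1 (by omega) hr hD hD'
    rcases hv with rfl | ⟨-, h, -⟩ | ⟨-, h, -⟩ | ⟨-, h, -⟩
    · have h2 := red (y := 2 * k ^ 2) (e' := 1) ha htm hte (Or.inl rfl) (by omega) hr hD (by
        rw [one_mul, show 1 * (2 * k ^ 2) = 2 * 1 * k ^ 2 by ring]; exact hd)
      rw [if_pos rfl] at h2
      exact h2
    all_goals omega
  have h3 := hk 3 le_rfl (by norm_num) (by omega) (by omega)
  have h4 := hk 4 (by norm_num) (by norm_num)
  have h5 := hk 5 (by norm_num) le_rfl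
  rcases ht with rfl | ⟨rfl, -⟩
  · have h6 : (2 * ((n : ℤ) - 3)) ∣ 12 := by
      obtain ⟨u, hu⟩ := h3
      refine ⟨-u, ?_⟩
      push_cast at hu
      linear_combination (-1 : ℤ) * hu
    have h7 := Int.le_of_dvd (by norm_num) h6
    have h8 : n ≤ 9 := by omega
    interval_cases n
    · omega
    · omega
    · have := h4 (by norm_num) (by norm_num)
      omega
  · have h6 : (2 * ((t : ℤ) - 3)) ∣ t - 12 := by
      obtain ⟨u, hu⟩ := h3
      refine ⟨u - 1, ?_⟩
      push_cast at hu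
      linear_combination hu
    have h7 : t = 12 := by
      by_contra h
      have h8 := Int.le_of_dvd (a := 2 * ((t : ℤ) - 3)) (b := |(t : ℤ) - 12|) (by rw [abs_pos]; omega)
        ((dvd_abs _ _).2 h6)
      rw [le_abs] at h8
      omega
    subst h7
    have := h5 (by norm_num) (by norm_num)
    omega

/-- `p^(2 a n^2) - 1` does not divide the order of `Sp_2n(q)` -/
theorem not_dvd_sp {p a n N : ℕ} (hp : p.Prime) (ha : 0 < a) (hn : 2 ≤ n)
    (h : N ∣ p ^ (a * n ^ 2) * ∏ i ∈ Finset.range n, ((p ^ a) ^ (2 * (i + 1)) - 1)) :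
    ¬ p ^ (2 * (a * n ^ 2)) - 1 ∣ N := by
  rw [show 2 * (a * n ^ 2) = a * (2 * n ^ 2) by ring]
  refine Cfsg.Agent.H448.Van.not_dvd_card hp ha (by nlinarith) (N := a * n ^ 2)
    (L := (List.range n).map fun i => 2 * (i + 1)) ?_ ?_
  · rw [List.map_map]
    exact h
  · intro d hd
    rw [List.mem_map] at hd
    obtain ⟨i, hi, rfl⟩ := hd
    rw [List.mem_range] at hi
    refine ⟨by omega, by nlinarith only [hn, hi]⟩

end Cfsg.Agent.H167.OZ
end

-- part: H366/OZ/SpRow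
section
/-!
# S4842: the rows `PSp_2n(q)`, `Ω_{2n+1}(q)`, `n ≥ 5`, from their congruences (helper366)
-/

set_option autoImplicit false

open Cfsg Cfsg.Agent.Characters Cfsg.Agent.H730.OZ Cfsg.Agent.H477.OZ

namespace Cfsg.Agent.H366.OZ

universe u

/-- `p ^ (2 a n^2) = p ^ (2 a k^2)` modulo `r` -/
theorem pow_swap {p a n k r : ℕ} (hk : k < n) (hD : orderOf (p : ZMod r) = a * (2 * (n - k))) :
    (r : ℤ) ∣ (p : ℤ) ^ (2 * (a * n ^ 2)) - (p : ℤ) ^ (2 * a * k ^ 2) := by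
  rw [← ZMod.intCast_zmod_eq_zero_iff_dvd]
  push_cast
  rw [sub_eq_zero]
  have e : 2 * (a * n ^ 2) = 2 * a * k ^ 2 + (a * (2 * (n - k))) * (n + k) := by
    obtain ⟨j, rfl⟩ := Nat.exists_eq_add_of_lt hk
    have : k + j + 1 - k = j + 1 := by omega
    rw [this]
    ring
  rw [e, pow_add, pow_mul (p : ZMod r) (a * (2 * (n - k))), ← hD, pow_orderOf_eq_one, one_pow, mul_one]

/-- **The row from `SpCong`.** -/
theorem row_of_spCong {S : Type u} [Group S] [Finite S] (hs : IsSimpleGroup S) {p a n q : ℕ} (hp : p.Prime)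
    (ha : 1 ≤ a) (hq : q = p ^ a) (hn : 5 ≤ n) (hex : ¬ ((n = 5 ∨ n = 6) ∧ q = 2))
    (hv : (Nat.card S).factorization p = a * n ^ 2) (h0 : ¬ p ^ (2 * (a * n ^ 2)) - 1 ∣ Nat.card S) (hK : Kaw p S)
    (h : SpCong p n q S) : Row S := by
  refine fun χ hχ hz => absurd hz (none_of_congS hs hp hv (by positivity) hK h0 ?_ hχ)
  intro m e he hm0 hm hC
  refine Cfsg.Agent.H167.OZ.sp_false hp ha hn (fun h1 => hex ⟨by omega, hq.trans h1.1⟩) hm0 hm he ?_
  intro k r hk5 hkn hx hr hD hD'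
  have h3 : 3 ≤ n - k := by omega
  have hSC := h k r (by omega) h3 hr (by rw [hq]; exact hD')
  obtain ⟨c, hc, hd⟩ := hC r _ hSC
  rw [hv] at hc
  rcases hc with ⟨rfl, rfl⟩ | ⟨rfl, h1, h2⟩ | ⟨rfl, h1, h2⟩ | ⟨rfl, h1, h2⟩ | ⟨hk0, h1, h2, h4⟩
  · exact ⟨1, Or.inl (by simp), hd⟩
  · have h5 : p ^ a = 2 := by rw [← hq, h1]
    obtain ⟨rfl, rfl⟩ := Cfsg.Agent.H167.OZ.prime_of_pow ha Nat.prime_two h5
    rcases h2 with rfl | rfl
    · exact ⟨4, Or.inl (by norm_num), hd⟩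
    · exact ⟨-2, Or.inr (Or.inr (Or.inl ⟨by norm_num, rfl, rfl⟩)), hd⟩
  · have h5 : p ^ a = 3 := by rw [← hq, h1]
    obtain ⟨rfl, rfl⟩ := Cfsg.Agent.H167.OZ.prime_of_pow ha Nat.prime_three h5
    rcases h2 with rfl | rfl
    · exact ⟨9, Or.inl (by norm_num), hd⟩
    · exact ⟨-3, Or.inr (Or.inl ⟨by norm_num, rfl, rfl⟩), hd⟩
  · have h5 : p ^ a = 2 := by rw [← hq, h1]
    obtain ⟨rfl, rfl⟩ := Cfsg.Agent.H167.OZ.prime_of_pow ha Nat.prime_two h5
    rcases h2 with rfl | rfl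
    · exact ⟨256, Or.inl (by norm_num), hd⟩
    · exact ⟨16, Or.inr (Or.inr (Or.inr ⟨by norm_num, rfl, rfl⟩)), hd⟩
  · refine ⟨(p : ℤ) ^ (2 * a * k ^ 2), Or.inl rfl, ?_⟩
    rw [h4] at hd
    have h5 := dvd_add hd (pow_swap (p := p) (a := a) (n := n) (k := k) (by (clear * - h3; omega)) hD)
    rw [sub_add_sub_cancel] at h5
    exact h5

end Cfsg.Agent.H366.OZ
end

-- part: H366/OZ/SpFront
section
/-!
# S4842: fronts of the rows `PSp_2n(q)`, `Ω_{2n+1}(q)`, `n ≥ 5` (helper366)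

* `row_psp`, `row_oodd` : the rows from `SpCong`;
* `exists_pi` : the surjection `(CForm.spF F n).iso →* S` for `S ≃* PSp n F`, its kernel is central of order `(2, q - 1)`;
* `fact_psp`, `fact_oodd`, `not_dvd_psp`, `not_dvd_oodd`, `kaw_psp`, `kaw_oodd`.
-/

set_option autoImplicit false

open Cfsg Cfsg.Agent.Characters Cfsg.Agent.H730.OZ Cfsg.Agent.H477.OZ Cfsg.Agent.H53.HC Cfsg.Agent.H477.HC

namespace Cfsg.Agent.H366.OZ

universe u

/-! ### numbers -/

theorem fact_of_card {p a n q N d : ℕ} (hp : p.Prime) (ha : 1 ≤ a) (hq : q = p ^ a) (hd : ¬ p ∣ d) (hN : N ≠ 0)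
    (h : d * N = q ^ (n ^ 2) * ∏ i ∈ Finset.range n, (q ^ (2 * (i + 1)) - 1)) : N.factorization p = a * n ^ 2 := by
  have hd0 : d ≠ 0 := by rintro rfl; exact hd (dvd_zero p)
  have hq2 : 2 ≤ q := by
    rw [hq]
    calc 2 ≤ p := hp.two_le
      _ = p ^ 1 := (pow_one p).symm
      _ ≤ _ := Nat.pow_le_pow_right hp.pos ha
  have hpq : p ∣ q := by rw [hq]; exact dvd_pow_self p (by omega)
  have hP : ¬ p ∣ ∏ i ∈ Finset.range n, (q ^ (2 * (i + 1)) - 1) := by
    intro h1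
    obtain ⟨i, -, hi⟩ := (Prime.dvd_finset_prod_iff hp.prime _).1 h1
    have h2 : p ∣ q ^ (2 * (i + 1)) := dvd_pow hpq (by omega)
    have h3 : 1 ≤ q ^ (2 * (i + 1)) := Nat.one_le_pow _ _ (by omega)
    have h4 := Nat.dvd_sub h2 hi
    rw [Nat.sub_sub_self h3] at h4
    exact hp.one_lt.ne' (Nat.dvd_one.1 h4)
  have hP0 : ∏ i ∈ Finset.range n, (q ^ (2 * (i + 1)) - 1) ≠ 0 := by
    intro h0
    rw [h0] at hP
    exact hP (dvd_zero p)
  have h1 : (d * N).factorization p = (q ^ (n ^ 2) * ∏ i ∈ Finset.range n, (q ^ (2 * (i + 1)) - 1)).factorization p := by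
    rw [h]
  rw [Nat.factorization_mul hd0 hN, Nat.factorization_mul (by positivity) hP0, Finsupp.add_apply, Finsupp.add_apply,
    Nat.factorization_eq_zero_of_not_dvd hd, Nat.factorization_eq_zero_of_not_dvd hP, zero_add, add_zero, hq,
    ← pow_mul, hp.factorization_pow, Finsupp.single_eq_same] at h1
  exact h1

/-- the field -/
theorem exists_pow (F : Type*) [Field F] [Fintype F] (p : ℕ) [CharP F p] :
    p.Prime ∧ ∃ a, 1 ≤ a ∧ Fintype.card F = p ^ a := by
  obtain ⟨a, hp, ha⟩ := FiniteField.card F p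
  exact ⟨hp, a, a.pos, ha⟩

/-! ### `PSp` -/

section Sp

variable {S : Type u} [Group S] [Finite S] {F : Type} [Field F] [Fintype F] {n : ℕ} (e : S ≃* PSp n F)

include e

omit [Finite S] in
theorem card_psp (hn : 1 ≤ n) : Nat.gcd 2 (Fintype.card F - 1) * Nat.card S =
    Fintype.card F ^ (n ^ 2) * ∏ i ∈ Finset.range n, (Fintype.card F ^ (2 * (i + 1)) - 1) := by
  rw [Nat.card_congr e.toEquiv]
  have h1 := S0245.result (F := F) rfl n
  have h2 := S0246.result (F := F) rfl n hn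
  have h3 := Subgroup.card_mul_index (Subgroup.center ↥(Matrix.symplecticGroup (Fin n) F))
  rw [h1, h2] at h3
  exact h3

theorem fact_psp (hn : 1 ≤ n) {p a : ℕ} (hp : p.Prime) (ha : 1 ≤ a) (hq : Fintype.card F = p ^ a) :
    (Nat.card S).factorization p = a * n ^ 2 := by
  refine fact_of_card hp ha hq ?_ Nat.card_pos.ne' (card_psp e hn)
  intro h
  have h1 : p ∣ 2 := h.trans (Nat.gcd_dvd_left _ _)
  have h2 : p ∣ Fintype.card F - 1 := h.trans (Nat.gcd_dvd_right _ _)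
  have h3 : p ∣ Fintype.card F := by rw [hq]; exact dvd_pow_self p (by omega)
  have h4 := Nat.dvd_sub h3 h2
  rw [Nat.sub_sub_self Fintype.card_pos] at h4
  exact hp.one_lt.ne' (Nat.dvd_one.1 h4)

omit [Finite S] in
theorem not_dvd_psp (hn : 2 ≤ n) {p a : ℕ} (hp : p.Prime) (ha : 1 ≤ a) (hq : Fintype.card F = p ^ a) :
    ¬ p ^ (2 * (a * n ^ 2)) - 1 ∣ Nat.card S := by
  refine Cfsg.Agent.H167.OZ.not_dvd_sp hp ha hn ?_
  have h1 := card_psp e (by omega : 1 ≤ n)
  rw [hq, ← pow_mul] at h1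
  exact ⟨_, by rw [mul_comm (Nat.card S)]; exact h1.symm⟩

theorem kaw_psp (hn : 1 ≤ n) {p : ℕ} [CharP F p] : Kaw p S := by
  have hp : Fact p.Prime := ⟨(exists_pow F p).1⟩
  exact Cfsg.Agent.H279.OZ.kaw_of_hasRGD hp.out
    ((Cfsg.Agent.Nodes.WittInst.hasRGD_PSp (F := F) hn).of_equiv e.symm)

/-- **Row `PSp_2n(q)`, `n ≥ 5`, from `SpCong`.** -/
theorem row_psp (hs : IsSimpleGroup S) (hn : 5 ≤ n) (hex : ¬ ((n = 5 ∨ n = 6) ∧ Fintype.card F = 2))
    {p : ℕ} [CharP F p] (h : SpCong p n (Fintype.card F) S) : Row S := by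
  obtain ⟨hp, a, ha, hq⟩ := exists_pow F p
  exact row_of_spCong hs hp ha hq hn hex (fact_psp e (by omega) hp ha hq) (not_dvd_psp e (by omega) hp ha hq)
    (kaw_psp e (by omega)) h

omit [Finite S] in
/-- **The covering** `Sp_2n(q) → S`. -/
theorem exists_pi (hn : 1 ≤ n) : ∃ π : (CForm.spF F n).iso →* S, Function.Surjective π ∧
    π.ker ≤ Subgroup.center (CForm.spF F n).iso ∧ Nat.card π.ker = Nat.gcd 2 (Fintype.card F - 1) := by
  let f : (CForm.spF F n).iso ≃* Matrix.symplecticGroup (Fin n) F := (Cfsg.Agent.H477.HC.isoSp n F).symm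
  let π : (CForm.spF F n).iso →* S := (e.symm.toMonoidHom.comp
    (QuotientGroup.mk' (Subgroup.center (Matrix.symplecticGroup (Fin n) F)))).comp f.toMonoidHom
  have hker : ∀ x, x ∈ π.ker ↔ f x ∈ Subgroup.center (Matrix.symplecticGroup (Fin n) F) := by
    intro x
    rw [MonoidHom.mem_ker]
    show e.symm (QuotientGroup.mk' _ (f x)) = 1 ↔ _
    rw [MulEquiv.map_eq_one_iff, QuotientGroup.mk'_apply, QuotientGroup.eq_one_iff]
  refine ⟨π, ?_, ?_, ?_⟩
  · exact (e.symm.surjective.comp (QuotientGroup.mk'_surjective _)).comp f.surjective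
  · intro x hx
    rw [hker] at hx
    rw [Subgroup.mem_center_iff] at hx ⊢
    intro y
    apply f.injective
    rw [map_mul, map_mul]
    exact hx (f y)
  · rw [← S0246.result (F := F) rfl n hn]
    refine Nat.card_congr ?_
    refine (f.toEquiv.subtypeEquiv fun x => ?_)
    exact hker x

end Sp

/-! ### `Ω_{2n+1}` -/

section Om

variable {S : Type u} [Group S] [Finite S] {F : Type} [Field F] [Fintype F] {n : ℕ}
  (e : S ≃* POmega F (quadFormOdd n F))

include e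

omit [Finite S] in
theorem card_oodd (ho : Odd (Fintype.card F)) (hn : 3 ≤ n) : 2 * Nat.card S =
    Fintype.card F ^ (n ^ 2) * ∏ i ∈ Finset.range n, (Fintype.card F ^ (2 * (i + 1)) - 1) := by
  rw [Nat.card_congr e.toEquiv]
  exact S0292.result (F := F) rfl ho n hn

theorem fact_oodd (ho : Odd (Fintype.card F)) (hn : 3 ≤ n) {p a : ℕ} (hp : p.Prime) (ha : 1 ≤ a)
    (hq : Fintype.card F = p ^ a) : (Nat.card S).factorization p = a * n ^ 2 := by
  refine fact_of_card hp ha hq ?_ Nat.card_pos.ne' (card_oodd e ho hn)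
  intro h
  rw [(Nat.prime_dvd_prime_iff_eq hp Nat.prime_two).1 h] at hq
  rw [hq, Nat.odd_pow_iff (by omega)] at ho
  exact absurd ho (by decide)

omit [Finite S] in
theorem not_dvd_oodd (ho : Odd (Fintype.card F)) (hn : 3 ≤ n) {p a : ℕ} (hp : p.Prime) (ha : 1 ≤ a)
    (hq : Fintype.card F = p ^ a) : ¬ p ^ (2 * (a * n ^ 2)) - 1 ∣ Nat.card S := by
  refine Cfsg.Agent.H167.OZ.not_dvd_sp hp ha (by omega) ?_
  have h1 := card_oodd e ho hn
  rw [hq, ← pow_mul] at h1
  exact ⟨_, by rw [mul_comm (Nat.card S)]; exact h1.symm⟩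

theorem kaw_oodd (ho : Odd (Fintype.card F)) (hn : 2 ≤ n) {p : ℕ} [CharP F p] : Kaw p S := by
  have hp : Fact p.Prime := ⟨(exists_pow F p).1⟩
  have h2 : (2 : F) ≠ 0 := by
    intro h0
    have h1 : p ∣ 2 := (CharP.cast_eq_zero_iff F p 2).1 (by exact_mod_cast h0)
    obtain ⟨-, a, ha, hq⟩ := exists_pow F p
    rw [(Nat.prime_dvd_prime_iff_eq hp.out Nat.prime_two).1 h1] at hq
    rw [hq, Nat.odd_pow_iff (by omega)] at ho
    exact absurd ho (by decide)
  exact Cfsg.Agent.H279.OZ.kaw_of_hasRGD hp.out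
    ((Cfsg.Agent.Nodes.WittInst.hasRGD_PO_odd (F := F) h2 hn).of_equiv e.symm)

end Om

end Cfsg.Agent.H366.OZ
end
end

-- part: H769/OZ/SpIso
section
prune_inst 0x2110055014780000400040596110002b1210000800000800080060102000980400902804008000400080000000000002811000000024000000400000000000100000004041040000800000000008001000000000000000000000080000000000000c010002
set_option linter.all false
open scoped Cfsg.Agent.FastGrp

-- part: H769/OZ/SpEl
section
/-!
# Elliptic elements of the two Levi subgroups of `PSp₄(q)` (helper769, S4842)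

* `tS s d` : on `⟨e₀, e₁⟩` with characteristic polynomial `x² - s x + d`; `tL a s` : `a` on `e₀`, `x² - s x + 1` on
  `⟨e₁, f₁⟩`;
* `ell_S`, `ell_L` : they are elliptic.
-/

set_option autoImplicit false
set_option linter.unusedSectionVars false

namespace Cfsg.Agent.H769.OZ

open Cfsg Cfsg.Agent.ChevalleyStructure.CoxeterGeom Cfsg.Agent.Tits.Roots Cfsg.Agent.Nodes.TypeC
open Cfsg.Agent.Nodes Cfsg.Agent.Nodes.Comb Cfsg.Agent.Nodes.Reps Cfsg.Agent.Nodes.WittRoot Cfsg.Agent.Nodes.BNOf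
open Cfsg.Agent.Nodes.WittRGD Cfsg.Agent.Nodes.RGDLib Cfsg.Agent.Nodes.WittAll Cfsg.Agent.Nodes.StabComb
open Cfsg.Agent.Nodes.Bruhat Cfsg.Agent.Nodes.OppDec Cfsg.Agent.Nodes.LeviDec
open Cfsg.Agent.TitsThree Cfsg.Agent.TitsThree.Siegel Cfsg.Agent.TitsThree.WittFrame
  Cfsg.Agent.TitsThree.WittWeyl Cfsg.Agent.TitsThree.FrameCN Cfsg.Agent.TitsThree.SpIdent
open Cfsg.Agent.H985.VZ Cfsg.Agent.ClassicalGeometry

variable {F : Type*} [Field F]

/-- the symplectic space of dimension four -/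
abbrev V4 (F : Type*) := Fin 2 ⊕ Fin 2 → F

theorem ext4 {v w : V4 F} (h0 : v (Sum.inl 0) = w (Sum.inl 0)) (h1 : v (Sum.inl 1) = w (Sum.inl 1))
    (h2 : v (Sum.inr 0) = w (Sum.inr 0)) (h3 : v (Sum.inr 1) = w (Sum.inr 1)) : v = w := by
  funext i
  rcases i with i | i <;> fin_cases i
  · exact h0
  · exact h1
  · exact h2
  · exact h3

/-- vectors by coordinates `y₀ y₁ x₀ x₁` -/
def mk4 (y0 y1 x0 x1 : F) : V4 F := Sum.elim ![y0, y1] ![x0, x1]

@[simp] theorem mk4_l0 (y0 y1 x0 x1 : F) : mk4 y0 y1 x0 x1 (Sum.inl 0) = y0 := rfl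
@[simp] theorem mk4_l1 (y0 y1 x0 x1 : F) : mk4 y0 y1 x0 x1 (Sum.inl 1) = y1 := rfl
@[simp] theorem mk4_r0 (y0 y1 x0 x1 : F) : mk4 y0 y1 x0 x1 (Sum.inr 0) = x0 := rfl
@[simp] theorem mk4_r1 (y0 y1 x0 x1 : F) : mk4 y0 y1 x0 x1 (Sum.inr 1) = x1 := rfl

theorem form4 (v w : V4 F) : (_root_.Cfsg.Agent.TitsThree.SpIdent.form 2 F).h v w = v (Sum.inr 0) * w (Sum.inl 0) - v (Sum.inl 0) * w (Sum.inr 0) +
    (v (Sum.inr 1) * w (Sum.inl 1) - v (Sum.inl 1) * w (Sum.inr 1)) := by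
  rw [form_h, Cfsg.Agent.ClassicalGeometry.SympBasic.sympForm_eq_sum, Fin.sum_univ_two]

/-- the short element -/
def tS (s d : F) (hd : d ≠ 0) : V4 F ≃ₗ[F] V4 F where
  toFun v := mk4 (d⁻¹ * (s * v (Sum.inl 0) - v (Sum.inl 1))) (v (Sum.inl 0)) (-(d * v (Sum.inr 1)))
    (v (Sum.inr 0) + s * v (Sum.inr 1))
  invFun w := mk4 (w (Sum.inl 1)) (s * w (Sum.inl 1) - d * w (Sum.inl 0)) (w (Sum.inr 1) + s * (d⁻¹ * w (Sum.inr 0)))
    (-(d⁻¹ * w (Sum.inr 0)))
  map_add' v w := by apply ext4 <;> simp only [_root_.Fin.isValue, _root_.Pi.add_apply, _root_.Cfsg.Agent.H769.OZ.mk4_l0, _root_.Cfsg.Agent.H769.OZ.mk4_l1, _root_.Cfsg.Agent.H769.OZ.mk4_r0, _root_.Cfsg.Agent.H769.OZ.mk4_r1] <;> ring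
  map_smul' c v := by apply ext4 <;> simp only [_root_.Fin.isValue, _root_.Pi.smul_apply, _root_.smul_eq_mul, _root_.Cfsg.Agent.H769.OZ.mk4_l0, _root_.RingHom.id_apply, _root_.Cfsg.Agent.H769.OZ.mk4_l1, _root_.Cfsg.Agent.H769.OZ.mk4_r0, _root_.mul_neg, _root_.neg_inj, _root_.Cfsg.Agent.H769.OZ.mk4_r1] <;> ring
  left_inv v := by
    apply ext4 <;> simp only [mk4_l0, mk4_l1, mk4_r0, mk4_r1] <;> field_simp <;> ring
  right_inv v := by
    apply ext4 <;> simp only [mk4_l0, mk4_l1, mk4_r0, mk4_r1] <;> field_simp <;> ring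

/-- the long element -/
def tL (a s : F) (ha : a ≠ 0) : V4 F ≃ₗ[F] V4 F where
  toFun v := mk4 (a⁻¹ * v (Sum.inl 0)) (v (Sum.inr 1) + s * v (Sum.inl 1)) (a * v (Sum.inr 0)) (-v (Sum.inl 1))
  invFun w := mk4 (a * w (Sum.inl 0)) (-w (Sum.inr 1)) (a⁻¹ * w (Sum.inr 0)) (w (Sum.inl 1) + s * w (Sum.inr 1))
  map_add' v w := by apply ext4 <;> simp only [_root_.Fin.isValue, _root_.Pi.add_apply, _root_.neg_add_rev, _root_.Cfsg.Agent.H769.OZ.mk4_l0, _root_.Cfsg.Agent.H769.OZ.mk4_l1, _root_.Cfsg.Agent.H769.OZ.mk4_r0, _root_.Cfsg.Agent.H769.OZ.mk4_r1] <;> ring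
  map_smul' c v := by apply ext4 <;> simp only [_root_.Fin.isValue, _root_.Pi.smul_apply, _root_.smul_eq_mul, _root_.Cfsg.Agent.H769.OZ.mk4_l0, _root_.RingHom.id_apply, _root_.Cfsg.Agent.H769.OZ.mk4_l1, _root_.Cfsg.Agent.H769.OZ.mk4_r0, _root_.Cfsg.Agent.H769.OZ.mk4_r1, _root_.mul_neg] <;> ring
  left_inv v := by
    apply ext4 <;> simp only [mk4_l0, mk4_l1, mk4_r0, mk4_r1] <;> field_simp <;> ring
  right_inv v := by
    apply ext4 <;> simp only [mk4_l0, mk4_l1, mk4_r0, mk4_r1] <;> field_simp <;> ring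

theorem tS_apply (s d : F) (hd : d ≠ 0) (v : V4 F) : tS s d hd v =
    mk4 (d⁻¹ * (s * v (Sum.inl 0) - v (Sum.inl 1))) (v (Sum.inl 0)) (-(d * v (Sum.inr 1)))
    (v (Sum.inr 0) + s * v (Sum.inr 1)) := rfl

theorem tL_apply (a s : F) (ha : a ≠ 0) (v : V4 F) : tL a s ha v =
    mk4 (a⁻¹ * v (Sum.inl 0)) (v (Sum.inr 1) + s * v (Sum.inl 1)) (a * v (Sum.inr 0)) (-v (Sum.inl 1)) := rfl

theorem tS_mem (s d : F) (hd : d ≠ 0) : tS s d hd ∈ isos (_root_.Cfsg.Agent.TitsThree.SpIdent.form 2 F) := by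
  intro v w
  rw [form4, form4, tS_apply, tS_apply]
  simp only [mk4_l0, mk4_l1, mk4_r0, mk4_r1]
  field_simp
  ring

theorem tL_mem (a s : F) (ha : a ≠ 0) : tL a s ha ∈ isos (_root_.Cfsg.Agent.TitsThree.SpIdent.form 2 F) := by
  intro v w
  rw [form4, form4, tL_apply, tL_apply]
  simp only [mk4_l0, mk4_l1, mk4_r0, mk4_r1]
  field_simp
  ring

/-! ### The subspaces -/

theorem e4 (i : Fin 2) : (frame 2 F).b (i, true) = Pi.single (Sum.inr i) 1 := rfl
theorem f4 (i : Fin 2) : (frame 2 F).b (i, false) = Pi.single (Sum.inl i) 1 := rfl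

theorem mem_E1t {v : V4 F} : v ∈ E (frame 2 F) 1 true ↔ v (Sum.inl 0) = 0 ∧ v (Sum.inl 1) = 0 := by
  constructor
  · intro h
    have h0 := h_E_zero (Fr := frame 2 F) (k := 1) (s := true) (x := (0, true)) (Or.inl rfl) h
    have h1 := h_E_zero (Fr := frame 2 F) (k := 1) (s := true) (x := (1, true)) (Or.inl rfl) h
    rw [form4, e4] at h0 h1
    simp at h0 h1
    exact ⟨h0, h1⟩
  · rintro ⟨h0, h1⟩
    have e : v = v (Sum.inr 0) • (frame 2 F).b (0, true) + v (Sum.inr 1) • (frame 2 F).b (1, true) := by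
      rw [e4, e4]
      apply ext4 <;> simp [h0, h1]
    rw [e]
    exact add_mem (Submodule.smul_mem _ _ (b_mem_E (by decide) _)) (Submodule.smul_mem _ _ (b_mem_E le_rfl _))

theorem mem_E1f {v : V4 F} : v ∈ E (frame 2 F) 1 false ↔ v (Sum.inr 0) = 0 ∧ v (Sum.inr 1) = 0 := by
  constructor
  · intro h
    have h0 := h_E_zero (Fr := frame 2 F) (k := 1) (s := false) (x := (0, false)) (Or.inl rfl) h
    have h1 := h_E_zero (Fr := frame 2 F) (k := 1) (s := false) (x := (1, false)) (Or.inl rfl) h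
    rw [form4, f4] at h0 h1
    simp at h0 h1
    exact ⟨h0, h1⟩
  · rintro ⟨h0, h1⟩
    have e : v = v (Sum.inl 0) • (frame 2 F).b (0, false) + v (Sum.inl 1) • (frame 2 F).b (1, false) := by
      rw [f4, f4]
      apply ext4 <;> simp [h0, h1]
    rw [e]
    exact add_mem (Submodule.smul_mem _ _ (b_mem_E (by decide) _)) (Submodule.smul_mem _ _ (b_mem_E le_rfl _))

theorem mem_E0t {v : V4 F} : v ∈ E (frame 2 F) 0 true ↔
    v (Sum.inl 0) = 0 ∧ v (Sum.inl 1) = 0 ∧ v (Sum.inr 1) = 0 := by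
  constructor
  · intro h
    have h0 := h_E_zero (Fr := frame 2 F) (k := 0) (s := true) (x := (0, true)) (Or.inl rfl) h
    have h1 := h_E_zero (Fr := frame 2 F) (k := 0) (s := true) (x := (1, true)) (Or.inl rfl) h
    have h2 := h_E_zero (Fr := frame 2 F) (k := 0) (s := true) (x := (1, false)) (Or.inr (by decide)) h
    rw [form4, e4] at h0 h1
    rw [form4, f4] at h2
    simp at h0 h1 h2
    exact ⟨h0, h1, h2⟩
  · rintro ⟨h0, h1, h2⟩
    have e : v = v (Sum.inr 0) • (frame 2 F).b (0, true) := by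
      rw [e4]
      apply ext4 <;> simp [h0, h1, h2]
    rw [e]
    exact Submodule.smul_mem _ _ (b_mem_E le_rfl _)

theorem mem_E0f {v : V4 F} : v ∈ E (frame 2 F) 0 false ↔
    v (Sum.inr 0) = 0 ∧ v (Sum.inl 1) = 0 ∧ v (Sum.inr 1) = 0 := by
  constructor
  · intro h
    have h0 := h_E_zero (Fr := frame 2 F) (k := 0) (s := false) (x := (0, false)) (Or.inl rfl) h
    have h1 := h_E_zero (Fr := frame 2 F) (k := 0) (s := false) (x := (1, true)) (Or.inr (by decide)) h
    have h2 := h_E_zero (Fr := frame 2 F) (k := 0) (s := false) (x := (1, false)) (Or.inl rfl) h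
    rw [form4, f4] at h0 h2
    rw [form4, e4] at h1
    simp at h0 h1 h2
    exact ⟨h0, h1, h2⟩
  · rintro ⟨h0, h1, h2⟩
    have e : v = v (Sum.inl 0) • (frame 2 F).b (0, false) := by
      rw [f4]
      apply ext4 <;> simp [h0, h1, h2]
    rw [e]
    exact Submodule.smul_mem _ _ (b_mem_E le_rfl _)

theorem nondeg4 (v : V4 F) (h : ∀ w, (_root_.Cfsg.Agent.TitsThree.SpIdent.form 2 F).h v w = 0) : v = 0 := by
  have h0 := h (mk4 1 0 0 0)
  have h1 := h (mk4 0 1 0 0)
  have h2 := h (mk4 0 0 1 0)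
  have h3 := h (mk4 0 0 0 1)
  rw [form4] at h0 h1 h2 h3
  simp at h0 h1 h2 h3
  exact ext4 h2 h3 h0 h1

/-! ### Elliptic elements -/

section ell

variable [Finite F] {W : Type*} [Group W] (cs : CoxeterSystem (CoxeterMatrix.B 2) W)

theorem GG_eq (n : ℕ) (hn : 0 < n) {W : Type*} [Group W] (cs : CoxeterSystem (CoxeterMatrix.B n) W) :
    GG cs (isCartan n) (WittModel.T (KInstSp.model n F)) (WittModel.X (KInstSp.model n F)) = ⊤ := by
  rw [eq_top_iff, ← WittModel.G1_eq_top (KInstSp.model n F) hn cs]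
  exact le_sup_right

theorem aeval2 (τ : Module.End F (V4 F)) (s d : F) (w : V4 F) :
    Polynomial.aeval τ (Polynomial.X ^ 2 - Polynomial.C s * Polynomial.X + Polynomial.C d) w =
      τ (τ w) - s • τ w + d • w := by
  simp only [map_add, map_sub, map_mul, map_pow, Polynomial.aeval_X, Polynomial.aeval_C]
  rw [LinearMap.add_apply, LinearMap.sub_apply, pow_two, Module.End.mul_apply, Module.End.mul_apply,
    Module.algebraMap_end_apply, Module.algebraMap_end_apply]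

theorem aeval1 (τ : Module.End F (V4 F)) (a : F) (w : V4 F) :
    Polynomial.aeval τ (Polynomial.X - Polynomial.C a) w = τ w - a • w := by
  simp only [map_sub, Polynomial.aeval_X, Polynomial.aeval_C]
  rw [LinearMap.sub_apply, Module.algebraMap_end_apply]

/-- **The short elliptic elements.** -/
theorem ell_S {p : ℕ} [Fact p.Prime] [CharP F p] {s d : F} (hd : d ≠ 0) (hroot : ∀ x : F, x ^ 2 - s * x + d ≠ 0)
    (h1 : d ≠ 1) (h2 : d ≠ -1) :
    Ell cs (isCartan 2) (WittModel.T (KInstSp.model 2 F)) (WittModel.X (KInstSp.model 2 F)) {1}ᶜ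
      (toPSp ⟨tS s d hd, tS_mem s d hd⟩) := by
  have hA : AmbT (frame 2 F) p (KInstSp.model 2 F).I := AmbT.of_amb WittU.amb_Sp p
  -- the quadratic form `x² + s x y + d y²` is anisotropic
  have hq : ∀ x y : F, x ^ 2 + s * x * y + d * y ^ 2 = 0 → x = 0 ∧ y = 0 := by
    intro x y h
    by_cases hy : y = 0
    · subst hy
      refine ⟨?_, rfl⟩
      simpa using h
    · exfalso
      apply hroot (-(x / y))
      field_simp
      linear_combination h
  refine ell_of (KInstSp.model 2 F) cs hA (p0 := adm 1) one_ne_zero (GG_eq 2 (by norm_num) cs) nondeg4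
    (t := ⟨tS s d hd, tS_mem s d hd⟩) (k := 1) ?_ ?_ (Polynomial.X ^ 2 - Polynomial.C s * Polynomial.X + Polynomial.C d)
    ?_ ?_ ?_ ?_
  · refine mem_StE_of_finite fun v hv => ?_
    rw [mem_E1t] at hv ⊢
    rw [tS_apply]
    simp [hv.1, hv.2]
  · refine mem_StE_of_finite fun v hv => ?_
    rw [mem_E1f] at hv ⊢
    rw [tS_apply]
    simp [hv.1, hv.2]
  · intro w hw
    rw [aeval2] at hw
    have e : ∀ v : V4 F, ((tS s d hd : V4 F ≃ₗ[F] V4 F) : Module.End F (V4 F)) v = tS s d hd v := fun _ => rfl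
    rw [e, e, tS_apply, tS_apply] at hw
    have w0 := congrFun hw (Sum.inl 0)
    have w1 := congrFun hw (Sum.inl 1)
    simp only [_root_.Fin.isValue, _root_.Cfsg.Agent.H769.OZ.mk4_l0, _root_.Cfsg.Agent.H769.OZ.mk4_l1, _root_.Cfsg.Agent.H769.OZ.mk4_r1, _root_.Cfsg.Agent.H769.OZ.mk4_r0, _root_.Pi.add_apply, _root_.Pi.sub_apply, _root_.Pi.smul_apply, _root_.smul_eq_mul, _root_.Pi.zero_apply] at w0 w1
    field_simp at w0 w1
    rw [mem_E1t]
    -- `y = (y₀, y₁)`
    set y0 := w (Sum.inl 0)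
    set y1 := w (Sum.inl 1)
    have k0 : (1 - d) * (s * (s * y0 - y1) - d * (1 + d) * y0) = 0 := by linear_combination w0
    have k1 : (1 - d) * (s * y0 - (1 + d) * y1) = 0 := by linear_combination w1
    have hd1 : (1 - d) ≠ 0 := sub_ne_zero.2 (Ne.symm h1)
    have m0 := (mul_eq_zero.1 k0).resolve_left hd1
    have m1 := (mul_eq_zero.1 k1).resolve_left hd1
    have hd2 : 1 + d ≠ 0 := fun h => h2 (by linear_combination h)
    -- `d y₀² - s y₀ y₁ + y₁² = 0`
    have key : (1 + d) * (y1 ^ 2 + s * y1 * (-y0) + d * (-y0) ^ 2) = 0 := by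
      linear_combination y0 * (-m0) + 0 * m1 + (s * y0 - y1) * m1
    have := hq _ _ ((mul_eq_zero.1 key).resolve_left hd2)
    exact ⟨neg_eq_zero.1 this.2, this.1⟩
  · intro w hw
    rw [mem_E1t] at hw
    rw [aeval2]
    have e : ∀ v : V4 F, ((tS s d hd : V4 F ≃ₗ[F] V4 F) : Module.End F (V4 F)) v = tS s d hd v := fun _ => rfl
    rw [e, e, tS_apply, tS_apply]
    apply ext4 <;> simp only [hw.1, hw.2, _root_.Fin.isValue, _root_.MulZeroClass.mul_zero, _root_.sub_self, _root_.Cfsg.Agent.H769.OZ.mk4_l0, _root_.Cfsg.Agent.H769.OZ.mk4_l1, _root_.Cfsg.Agent.H769.OZ.mk4_r1, _root_.Cfsg.Agent.H769.OZ.mk4_r0, _root_.Pi.add_apply, _root_.Pi.sub_apply, _root_.Pi.smul_apply, _root_.smul_eq_mul, _root_.add_zero, _root_.Pi.zero_apply, _root_.mul_neg, _root_.sub_neg_eq_add, _root_.add_sub_cancel_right, _root_.neg_add_cancel] <;> ring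
  · intro D hD hDt
    by_cases h0 : D = ⊥
    · exact Or.inl h0
    · right
      refine le_antisymm hD ?_
      obtain ⟨w, hw, hw0⟩ := Submodule.exists_mem_ne_zero_of_ne_bot h0
      have h3 := mem_E1t.1 (hD hw)
      have h4 := hDt w hw
      set x0 := w (Sum.inr 0) with hx0
      set x1 := w (Sum.inr 1) with hx1
      have hdet : x0 ^ 2 + s * x0 * x1 + d * x1 ^ 2 ≠ 0 := by
        intro h
        have h5 := hq _ _ h
        exact hw0 (ext4 h3.1 h3.2 h5.1 h5.2)
      intro v hv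
      rw [mem_E1t] at hv
      have e : v = ((x0 ^ 2 + s * x0 * x1 + d * x1 ^ 2)⁻¹ * (v (Sum.inr 0) * (x0 + s * x1) + d * v (Sum.inr 1) * x1)) • w +
          ((x0 ^ 2 + s * x0 * x1 + d * x1 ^ 2)⁻¹ * (x0 * v (Sum.inr 1) - x1 * v (Sum.inr 0))) • tS s d hd w := by
        rw [tS_apply]
        apply ext4
        · simp only [hv.1, h3.1, h3.2, _root_.Fin.isValue, _root_.MulZeroClass.mul_zero, _root_.sub_self, _root_.Pi.add_apply, _root_.Pi.smul_apply, _root_.smul_eq_mul, _root_.Cfsg.Agent.H769.OZ.mk4_l0, _root_.add_zero]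
        · simp [hv.2, h3.1, h3.2]
        · simp only [Pi.add_apply, Pi.smul_apply, mk4_r0, smul_eq_mul, ← hx0, ← hx1]
          have hQ := inv_mul_cancel₀ hdet
          linear_combination (-v (Sum.inr 0)) * hQ
        · simp only [Pi.add_apply, Pi.smul_apply, mk4_r1, smul_eq_mul, ← hx0, ← hx1]
          have hQ := inv_mul_cancel₀ hdet
          linear_combination (-v (Sum.inr 1)) * hQ
      rw [e]
      exact add_mem (Submodule.smul_mem _ _ hw) (Submodule.smul_mem _ _ h4)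
  · intro D hD hiso _
    refine le_antisymm ?_ hD
    intro v hv
    have h3 := hiso v hv _ (hD (b_mem_E (Fr := frame 2 F) (k := 1) (i := 0) (by decide) true))
    have h4 := hiso v hv _ (hD (b_mem_E (Fr := frame 2 F) (k := 1) (i := 1) le_rfl true))
    rw [form4, e4] at h3 h4
    simp at h3 h4
    exact mem_E1t.2 ⟨h3, h4⟩

/-- **The long elliptic elements.** -/
theorem ell_L {p : ℕ} [Fact p.Prime] [CharP F p] {a s : F} (ha : a ≠ 0) (hroot : ∀ x : F, x ^ 2 - s * x + 1 ≠ 0)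
    (h1 : a ^ 2 ≠ 1) :
    Ell cs (isCartan 2) (WittModel.T (KInstSp.model 2 F)) (WittModel.X (KInstSp.model 2 F)) {0}ᶜ
      (toPSp ⟨tL a s ha, tL_mem a s ha⟩) := by
  have hA : AmbT (frame 2 F) p (KInstSp.model 2 F).I := AmbT.of_amb WittU.amb_Sp p
  have hq : ∀ x y : F, x ^ 2 + s * x * y + y ^ 2 = 0 → x = 0 ∧ y = 0 := by
    intro x y h
    by_cases hy : y = 0
    · subst hy
      refine ⟨?_, rfl⟩
      simpa using h
    · exfalso
      apply hroot (-(x / y))
      field_simp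
      linear_combination h
  refine ell_of (KInstSp.model 2 F) cs hA (p0 := adm 1) one_ne_zero (GG_eq 2 (by norm_num) cs) nondeg4
    (t := ⟨tL a s ha, tL_mem a s ha⟩) (k := 0) ?_ ?_ (Polynomial.X - Polynomial.C a)
    ?_ ?_ ?_ ?_
  · refine mem_StE_of_finite fun v hv => ?_
    rw [mem_E0t] at hv ⊢
    rw [tL_apply]
    simp [hv.1, hv.2.1, hv.2.2]
  · refine mem_StE_of_finite fun v hv => ?_
    rw [mem_E0f] at hv ⊢
    rw [tL_apply]
    simp [hv.1, hv.2.1, hv.2.2]
  · intro w hw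
    rw [aeval1] at hw
    have e : ∀ v : V4 F, ((tL a s ha : V4 F ≃ₗ[F] V4 F) : Module.End F (V4 F)) v = tL a s ha v := fun _ => rfl
    rw [e, tL_apply] at hw
    have w0 := congrFun hw (Sum.inl 0)
    have w1 := congrFun hw (Sum.inl 1)
    have w2 := congrFun hw (Sum.inr 1)
    simp only [_root_.Fin.isValue, _root_.Pi.sub_apply, _root_.Cfsg.Agent.H769.OZ.mk4_l0, _root_.Pi.smul_apply, _root_.smul_eq_mul, _root_.Pi.zero_apply, _root_.Cfsg.Agent.H769.OZ.mk4_l1, _root_.Cfsg.Agent.H769.OZ.mk4_r1] at w0 w1 w2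
    rw [mem_E0t]
    have k0 : (1 - a ^ 2) * w (Sum.inl 0) = 0 := by
      field_simp at w0
      linear_combination w0
    have k1 : (a ^ 2 - s * a + 1) * w (Sum.inr 1) = 0 := by
      linear_combination w1 + (s - a) * w2
    have m0 := (mul_eq_zero.1 k0).resolve_left (sub_ne_zero.2 (Ne.symm h1))
    have m1 := (mul_eq_zero.1 k1).resolve_left (hroot a)
    refine ⟨m0, ?_, m1⟩
    rw [m1] at w2
    linear_combination -w2
  · intro w hw
    rw [mem_E0t] at hw
    rw [aeval1]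
    have e : ∀ v : V4 F, ((tL a s ha : V4 F ≃ₗ[F] V4 F) : Module.End F (V4 F)) v = tL a s ha v := fun _ => rfl
    rw [e, tL_apply]
    apply ext4 <;> simp [hw.1, hw.2.1, hw.2.2]
  · intro D hD _
    by_cases h0 : D = ⊥
    · exact Or.inl h0
    · right
      refine le_antisymm hD ?_
      obtain ⟨w, hw, hw0⟩ := Submodule.exists_mem_ne_zero_of_ne_bot h0
      have h3 := mem_E0t.1 (hD hw)
      have hx : w (Sum.inr 0) ≠ 0 := fun h => hw0 (ext4 h3.1 h3.2.1 h h3.2.2)
      intro v hv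
      rw [mem_E0t] at hv
      have e : v = (v (Sum.inr 0) * (w (Sum.inr 0))⁻¹) • w := by
        apply ext4 <;> simp [hv.1, hv.2.1, hv.2.2, h3.1, h3.2.1, h3.2.2, mul_assoc, inv_mul_cancel₀ hx]
      rw [e]
      exact Submodule.smul_mem _ _ hw
  · intro D hD hiso hDt
    refine le_antisymm ?_ hD
    intro v hv
    have hb := hD (b_mem_E (Fr := frame 2 F) (k := 0) (i := 0) le_rfl true)
    have h3 := hiso v hv _ hb
    rw [form4, e4] at h3
    simp at h3
    have h4 := hiso v hv _ (hDt v hv)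
    rw [form4, tL_apply] at h4
    simp only [h3, _root_.Fin.isValue, _root_.MulZeroClass.mul_zero, _root_.Cfsg.Agent.H769.OZ.mk4_l0, _root_.Cfsg.Agent.H769.OZ.mk4_r0, _root_.MulZeroClass.zero_mul, _root_.sub_self, _root_.Cfsg.Agent.H769.OZ.mk4_l1, _root_.Cfsg.Agent.H769.OZ.mk4_r1, _root_.mul_neg, _root_.sub_neg_eq_add, _root_.zero_add] at h4
    have h5 := hq (v (Sum.inr 1)) (v (Sum.inl 1)) (by linear_combination h4)
    exact mem_E0t.2 ⟨h3, h5.2, h5.1⟩

end ell

end Cfsg.Agent.H769.OZ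
end

-- part: H769/OZ/SpCls
section
/-!
# Two classes of elliptic elements in the Levi subgroups of `PSp₄(q)` (helper769, S4842)

* `trace_sq_of_isConj` : conjugate elements of `PSp` have lifts with the same trace up to sign;
* `exists_S` : `q ≥ 4`: two non-conjugate elliptic elements of the Levi subgroup of the short root;
* `exists_L` : `q = 4` or `q ≥ 7`: the same for the long root.
-/

set_option autoImplicit false
set_option linter.unusedSectionVars false

namespace Cfsg.Agent.H769.OZ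

open Cfsg Cfsg.Agent.ChevalleyStructure.CoxeterGeom Cfsg.Agent.Tits.Roots Cfsg.Agent.Nodes.TypeC
open Cfsg.Agent.Nodes Cfsg.Agent.Nodes.Comb Cfsg.Agent.Nodes.Reps Cfsg.Agent.Nodes.WittRoot Cfsg.Agent.Nodes.BNOf
open Cfsg.Agent.TitsThree Cfsg.Agent.TitsThree.Siegel Cfsg.Agent.TitsThree.WittFrame
  Cfsg.Agent.TitsThree.WittWeyl Cfsg.Agent.TitsThree.FrameCN Cfsg.Agent.TitsThree.SpIdent
open Cfsg.Agent.H985.VZ Cfsg.Agent.ClassicalGeometry

variable {F : Type*} [Field F]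

/-- the trace of an isometry -/
noncomputable def tr {m : ℕ} (g : isos (_root_.Cfsg.Agent.TitsThree.SpIdent.form m F)) : F :=
  LinearMap.trace F (Fin m ⊕ Fin m → F) ((g.1 : (Fin m ⊕ Fin m → F) ≃ₗ[F] (Fin m ⊕ Fin m → F)) : _ →ₗ[F] _)

theorem trace_sq_of_isConj {m : ℕ} {g g' : isos (_root_.Cfsg.Agent.TitsThree.SpIdent.form m F)} (h : IsConj (toPSp g) (toPSp g')) :
    tr g ^ 2 = tr g' ^ 2 := by
  obtain ⟨c, hc⟩ := isConj_iff.1 h
  obtain ⟨k, rfl⟩ := toPSp_surjective c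
  have h1 : toPSp (k * g * k⁻¹ * g'⁻¹) = 1 := by
    rw [map_mul, map_mul, map_mul, map_inv, map_inv, hc, mul_inv_cancel]
  obtain ⟨a, ha, hv⟩ := exists_smul_of_toPSp_eq_one h1
  set kk : (Fin m ⊕ Fin m → F) ≃ₗ[F] (Fin m ⊕ Fin m → F) := k.1 with hkk
  set gg : (Fin m ⊕ Fin m → F) ≃ₗ[F] (Fin m ⊕ Fin m → F) := g.1 with hgg
  set gg' : (Fin m ⊕ Fin m → F) ≃ₗ[F] (Fin m ⊕ Fin m → F) := g'.1 with hgg'
  have h2 : ∀ v, kk (gg (kk.symm v)) = a • gg' v := by
    intro v
    have h3 := hv (gg' v)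
    have e : (k * g * k⁻¹ * g'⁻¹ : isos (_root_.Cfsg.Agent.TitsThree.SpIdent.form m F)).1 (gg' v) = kk (gg (kk.symm v)) := by
      change kk (gg (kk⁻¹ (gg'⁻¹ (gg' v)))) = _
      rw [inv_apply_self]
      rfl
    rw [← e]
    exact h3
  have h3 : ((kk : (Fin m ⊕ Fin m → F) →ₗ[F] (Fin m ⊕ Fin m → F)) ∘ₗ
      (gg : (Fin m ⊕ Fin m → F) →ₗ[F] (Fin m ⊕ Fin m → F))) ∘ₗ
      (kk.symm : (Fin m ⊕ Fin m → F) →ₗ[F] (Fin m ⊕ Fin m → F)) =
      a • (gg' : (Fin m ⊕ Fin m → F) →ₗ[F] (Fin m ⊕ Fin m → F)) := LinearMap.ext fun v => h2 v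
  have h4 := congrArg (LinearMap.trace F (Fin m ⊕ Fin m → F)) h3
  rw [map_smul, LinearMap.trace_comp_comm', ← LinearMap.comp_assoc] at h4
  have h5 : (kk.symm : (Fin m ⊕ Fin m → F) →ₗ[F] (Fin m ⊕ Fin m → F)) ∘ₗ (kk : _ →ₗ[F] _) = LinearMap.id :=
    LinearMap.ext fun v => kk.symm_apply_apply v
  rw [h5, LinearMap.id_comp] at h4
  have h6 : tr g = a • tr g' := h4
  rw [h6, smul_eq_mul, mul_pow, ha, one_mul]

theorem trace4 (f : V4 F →ₗ[F] V4 F) : LinearMap.trace F (V4 F) f =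
    f (Pi.single (Sum.inl 0) 1) (Sum.inl 0) + f (Pi.single (Sum.inl 1) 1) (Sum.inl 1) +
      (f (Pi.single (Sum.inr 0) 1) (Sum.inr 0) + f (Pi.single (Sum.inr 1) 1) (Sum.inr 1)) := by
  rw [LinearMap.trace_eq_matrix_trace F (Pi.basisFun F (Fin 2 ⊕ Fin 2)), Matrix.trace, Fintype.sum_sum_type,
    Fin.sum_univ_two, Fin.sum_univ_two]
  simp [Matrix.diag, LinearMap.toMatrix_apply]

theorem tr_S (s d : F) (hd : d ≠ 0) : tr ⟨tS s d hd, tS_mem s d hd⟩ = (1 + d⁻¹) * s := by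
  rw [tr, trace4]
  change (tS s d hd) _ _ + (tS s d hd) _ _ + ((tS s d hd) _ _ + (tS s d hd) _ _) = _
  simp only [tS_apply, mk4_l0, mk4_l1, mk4_r0, mk4_r1]
  simp only [_root_.Fin.isValue, _root_.Pi.single_eq_same, _root_.mul_one, _root_.ne_eq, _root_.Sum.inl.injEq, _root_.one_ne_zero, _root_.not_false_eq_true, _root_.Pi.single_eq_of_ne, _root_.sub_zero, _root_.zero_ne_one, _root_.add_zero, _root_.Sum.inr.injEq, _root_.MulZeroClass.mul_zero, _root_.neg_zero, _root_.zero_add]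
  ring

theorem tr_L (a s : F) (ha : a ≠ 0) : tr ⟨tL a s ha, tL_mem a s ha⟩ = a + a⁻¹ + s := by
  rw [tr, trace4]
  change (tL a s ha) _ _ + (tL a s ha) _ _ + ((tL a s ha) _ _ + (tL a s ha) _ _) = _
  simp only [tL_apply, mk4_l0, mk4_l1, mk4_r0, mk4_r1]
  simp only [_root_.Fin.isValue, _root_.Pi.single_eq_same, _root_.mul_one, _root_.ne_eq, _root_.reduceCtorEq, _root_.not_false_eq_true, _root_.Pi.single_eq_of_ne, _root_.zero_add, _root_.neg_zero, _root_.add_zero]
  ring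

/-! ### Counting quadratic polynomials without roots -/

section count

variable [Fintype F] [DecidableEq F]

/-- the traces of the polynomials `x² - s x + d` without roots -/
def NR (d : F) : Finset F := Finset.univ.filter fun s => ∀ x : F, x ^ 2 - s * x + d ≠ 0

theorem mem_NR {d s : F} : s ∈ NR d ↔ ∀ x : F, x ^ 2 - s * x + d ≠ 0 := by simp only [NR, _root_.ne_eq, _root_.Finset.mem_filter, _root_.Finset.mem_univ, _root_.true_and]

theorem card_NR {d : F} (hd : d ≠ 0) :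
    Fintype.card F + 1 ≤ 2 * (NR d).card + (Finset.univ.filter fun x : F => x ^ 2 = d).card := by
  classical
  set A : Finset F := Finset.univ.erase 0 with hA
  set B : Finset F := Finset.univ.filter fun x : F => x ^ 2 = d with hB
  set φ : F → F := fun x => x + d / x with hφ
  have hsub : B ⊆ A := by
    intro x hx
    rw [hB, Finset.mem_filter] at hx
    rw [hA, Finset.mem_erase]
    refine ⟨fun h => hd ?_, Finset.mem_univ _⟩
    rw [← hx.2, h]
    ring
  -- the complement of `NR d` is the image of `φ`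
  have himg : (NR d)ᶜ = A.image φ := by
    ext s
    rw [Finset.mem_compl, mem_NR, Finset.mem_image]
    push Not
    constructor
    · rintro ⟨x, hx⟩
      have hx0 : x ≠ 0 := by
        rintro rfl
        apply hd
        linear_combination hx
      refine ⟨x, by rw [hA, Finset.mem_erase]; exact ⟨hx0, Finset.mem_univ _⟩, ?_⟩
      rw [hφ]
      field_simp
      linear_combination hx
    · rintro ⟨x, hx, rfl⟩
      rw [hA, Finset.mem_erase] at hx
      refine ⟨x, ?_⟩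
      rw [hφ]
      have := hx.1
      field_simp
      ring
  have h1 : A.card = ∑ y ∈ A.image φ, (A.filter fun x => φ x = y).card :=
    Finset.card_eq_sum_card_fiberwise fun x hx => Finset.mem_image_of_mem φ hx
  have h2 : B.card = ∑ y ∈ A.image φ, (B.filter fun x => φ x = y).card :=
    Finset.card_eq_sum_card_fiberwise fun x hx => Finset.mem_image_of_mem φ (hsub hx)
  have h3 : 2 * (A.image φ).card ≤ A.card + B.card := by
    rw [h1, h2, ← Finset.sum_add_distrib, mul_comm, ← smul_eq_mul]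
    refine Finset.card_nsmul_le_sum _ _ _ fun y hy => ?_
    obtain ⟨x, hx, rfl⟩ := Finset.mem_image.1 hy
    have hx0 : x ≠ 0 := by
      rw [hA, Finset.mem_erase] at hx
      exact hx.1
    by_cases hxd : x ^ 2 = d
    · have k1 : 0 < (A.filter fun z => φ z = φ x).card := Finset.card_pos.2 ⟨x, by simp [hx]⟩
      have k2 : 0 < (B.filter fun z => φ z = φ x).card := Finset.card_pos.2 ⟨x, by simp [hB, hxd]⟩
      omega
    · have hne : x ≠ d / x := by
        intro h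
        apply hxd
        rw [eq_div_iff hx0] at h
        linear_combination h
      have k1 : 1 < (A.filter fun z => φ z = φ x).card := by
        refine Finset.one_lt_card.2 ⟨x, by simp [hx], d / x, ?_, hne⟩
        rw [Finset.mem_filter, hA, Finset.mem_erase]
        refine ⟨⟨div_ne_zero hd hx0, Finset.mem_univ _⟩, ?_⟩
        rw [hφ]
        field_simp
        ring
      omega
  have h4 : A.card + 1 = Fintype.card F := by
    rw [hA, Finset.card_erase_of_mem (Finset.mem_univ _), Finset.card_univ]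
    have := Fintype.card_pos (α := F)
    omega
  have h5 : (NR d).card + (A.image φ).card = Fintype.card F := by
    rw [← himg, Finset.card_compl]
    have : (NR d).card ≤ Fintype.card F := Finset.card_le_univ _
    omega
  omega

/-- two elements with different squares -/
theorem exists_sq_ne {S : Finset F} (hS : 3 ≤ S.card ∨ ((2 : F) = 0 ∧ 2 ≤ S.card)) (c m : F) (hm : m ≠ 0) :
    ∃ s ∈ S, ∃ s' ∈ S, (c + m * s) ^ 2 ≠ (c + m * s') ^ 2 := by
  by_contra hcon
  push Not at hcon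
  have key : ∀ s ∈ S, ∀ s' ∈ S, s = s' ∨ c + m * s = -(c + m * s') := by
    intro s hs s' hs'
    rcases sq_eq_sq_iff_eq_or_eq_neg.1 (hcon s hs s' hs') with h | h
    · left
      exact mul_left_cancel₀ hm (add_left_cancel h)
    · exact Or.inr h
  rcases hS with hS | ⟨h2, hS⟩
  · obtain ⟨x, hx, y, hy, z, hz, hxy, hxz, hyz⟩ := Finset.two_lt_card.1 (show 2 < S.card by omega)
    have k1 := (key x hx y hy).resolve_left hxy
    have k2 := (key x hx z hz).resolve_left hxz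
    apply hyz
    refine mul_left_cancel₀ hm ?_
    linear_combination k1 - k2
  · obtain ⟨x, hx, y, hy, hxy⟩ := Finset.one_lt_card.1 (show 1 < S.card by omega)
    have k1 := (key x hx y hy).resolve_left hxy
    apply hxy
    refine mul_left_cancel₀ hm ?_
    linear_combination k1 + (- c - m * y) * h2

theorem card_sq_le_two (d : F) : (Finset.univ.filter fun x : F => x ^ 2 = d).card ≤ 2 := by
  by_cases h : ∃ x : F, x ^ 2 = d
  · obtain ⟨x, rfl⟩ := h
    have : (Finset.univ.filter fun y : F => y ^ 2 = x ^ 2) ⊆ {x, -x} := by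
      intro y hy
      rw [Finset.mem_filter] at hy
      rcases sq_eq_sq_iff_eq_or_eq_neg.1 hy.2 with h | h <;> simp [h]
    exact (Finset.card_le_card this).trans Finset.card_le_two
  · push Not at h
    rw [Finset.filter_false_of_mem fun x _ => h x]
    simp

theorem card_sq_le_one (h2 : (2 : F) = 0) (d : F) : (Finset.univ.filter fun x : F => x ^ 2 = d).card ≤ 1 := by
  rw [Finset.card_le_one]
  intro x hx y hy
  rw [Finset.mem_filter] at hx hy
  have h : (x - y) ^ 2 = 0 := by linear_combination hx.2 - hy.2 + (y ^ 2 - x * y) * h2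
  exact sub_eq_zero.1 (pow_eq_zero_iff (two_ne_zero) |>.1 h)

theorem exists_ne_three (hq : 4 ≤ Fintype.card F) (a b c : F) : ∃ x : F, x ≠ a ∧ x ≠ b ∧ x ≠ c := by
  by_contra h
  push Not at h
  have h1 : (Finset.univ : Finset F) ⊆ {a, b, c} := by
    intro x _
    rw [Finset.mem_insert, Finset.mem_insert, Finset.mem_singleton]
    by_cases h2 : x = a
    · exact Or.inl h2
    by_cases h3 : x = b
    · exact Or.inr (Or.inl h3)
    exact Or.inr (Or.inr (h x h2 h3))
  have h2 := Finset.card_le_card h1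
  rw [Finset.card_univ] at h2
  have h3 := Finset.card_le_three (a := a) (b := b) (c := c)
  omega

end count

theorem ringChar_ne (h2 : (2 : F) ≠ 0) : ringChar F ≠ 2 := by
  intro h
  apply h2
  have h3 := ringChar.Nat.cast_ringChar (R := F)
  rw [h] at h3
  exact_mod_cast h3

/-! ### The elements -/

section main

variable [Finite F] {W : Type*} [Group W] (cs : CoxeterSystem (CoxeterMatrix.B 2) W)

/-- **Two classes of short elliptic elements.** -/
theorem exists_S {p : ℕ} [Fact p.Prime] [CharP F p] (hq : 4 ≤ Nat.card F) : ∃ t t' : PSp 2 F, ¬ IsConj t t' ∧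
    Ell cs (isCartan 2) (WittModel.T (KInstSp.model 2 F)) (WittModel.X (KInstSp.model 2 F)) {1}ᶜ t ∧
    Ell cs (isCartan 2) (WittModel.T (KInstSp.model 2 F)) (WittModel.X (KInstSp.model 2 F)) {1}ᶜ t' := by
  classical
  have : Fintype F := Fintype.ofFinite F
  rw [Nat.card_eq_fintype_card] at hq
  obtain ⟨d, hd0, hd1, hd2, hS⟩ : ∃ d : F, d ≠ 0 ∧ d ≠ 1 ∧ d ≠ -1 ∧
      (3 ≤ (NR d).card ∨ ((2 : F) = 0 ∧ 2 ≤ (NR d).card)) := by
    by_cases h2 : (2 : F) = 0
    · obtain ⟨d, h0, h1, h3⟩ := exists_ne_three hq (0 : F) 1 (-1)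
      refine ⟨d, h0, h1, h3, Or.inr ⟨h2, ?_⟩⟩
      have := card_NR h0
      have := card_sq_le_one h2 d
      omega
    · -- a nonsquare `≠ -1`
      have hns : ∃ d : F, d ≠ -1 ∧ ∀ x : F, x ^ 2 ≠ d := by
        obtain ⟨g, hg⟩ := FiniteField.exists_nonsquare (F := F) (ringChar_ne h2)
        by_cases h3 : g = -1
        · obtain ⟨b, hb0, hb1, hb2⟩ := exists_ne_three hq (0 : F) 1 (-1)
          refine ⟨-b ^ 2, ?_, ?_⟩
          · intro h
            rcases mul_self_eq_one_iff.1 (show b * b = 1 by linear_combination -h) with h | h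
            · exact hb1 h
            · exact hb2 h
          · intro x hx
            apply hg
            rw [h3]
            refine ⟨x / b, ?_⟩
            field_simp
            linear_combination -hx
        · exact ⟨g, h3, fun x hx => hg ⟨x, by rw [← hx]; ring⟩⟩
      obtain ⟨d, hd, hsq⟩ := hns
      have hd0 : d ≠ 0 := fun h => hsq 0 (by rw [h]; ring)
      refine ⟨d, hd0, fun h => hsq 1 (by rw [h]; ring), hd, Or.inl ?_⟩
      have h3 := card_NR hd0
      rw [Finset.filter_false_of_mem fun x _ => hsq x, Finset.card_empty] at h3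
      have h4 := FiniteField.odd_card_of_char_ne_two (F := F) (ringChar_ne h2)
      omega
  have hm : (1 + d⁻¹) ≠ 0 := by
    intro h
    apply hd2
    field_simp at h
    linear_combination h
  obtain ⟨s, hs, s', hs', hne⟩ := exists_sq_ne hS 0 (1 + d⁻¹) hm
  rw [zero_add, zero_add] at hne
  refine ⟨_, _, fun h => hne ?_, ell_S cs (p := p) hd0 (mem_NR.1 hs) hd1 hd2,
    ell_S cs (p := p) hd0 (mem_NR.1 hs') hd1 hd2⟩
  have := trace_sq_of_isConj h
  rwa [tr_S, tr_S] at this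

/-- **Two classes of long elliptic elements.** -/
theorem exists_L {p : ℕ} [Fact p.Prime] [CharP F p] (hq : Nat.card F = 4 ∨ 7 ≤ Nat.card F) :
    ∃ t t' : PSp 2 F, ¬ IsConj t t' ∧
    Ell cs (isCartan 2) (WittModel.T (KInstSp.model 2 F)) (WittModel.X (KInstSp.model 2 F)) {0}ᶜ t ∧
    Ell cs (isCartan 2) (WittModel.T (KInstSp.model 2 F)) (WittModel.X (KInstSp.model 2 F)) {0}ᶜ t' := by
  classical
  have : Fintype F := Fintype.ofFinite F
  rw [Nat.card_eq_fintype_card] at hq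
  obtain ⟨a, ha0, ha1, ha2⟩ := exists_ne_three (by omega) (0 : F) 1 (-1)
  have hsq : a ^ 2 ≠ 1 := fun h => by
    rcases mul_self_eq_one_iff.1 (show a * a = 1 by linear_combination h) with h | h
    · exact ha1 h
    · exact ha2 h
  have hS : 3 ≤ (NR (1 : F)).card ∨ ((2 : F) = 0 ∧ 2 ≤ (NR (1 : F)).card) := by
    have h3 := card_NR (one_ne_zero (α := F))
    by_cases h2 : (2 : F) = 0
    · have := card_sq_le_one h2 1
      exact Or.inr ⟨h2, by omega⟩
    · have := card_sq_le_two (1 : F)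
      have h4 := FiniteField.odd_card_of_char_ne_two (F := F) (ringChar_ne h2)
      left
      omega
  obtain ⟨s, hs, s', hs', hne⟩ := exists_sq_ne hS (a + a⁻¹) 1 one_ne_zero
  rw [one_mul, one_mul] at hne
  refine ⟨_, _, fun h => hne ?_, ell_L cs (p := p) ha0 (mem_NR.1 hs) hsq,
    ell_L cs (p := p) ha0 (mem_NR.1 hs') hsq⟩
  have := trace_sq_of_isConj h
  rwa [tr_L, tr_L] at this

end main

end Cfsg.Agent.H769.OZ
end

-- part: H769/OZ/SpSt
section
/-!
# `PSp₄(q)`: elements of order divisible by the characteristic, the torus (helper769, S4842)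

* `not_dvd_st` : `q ^ 4` does not divide the degree of a character vanishing on exactly one class;
* `T_comm` : the torus is abelian; `card_X` : the order of the root groups;
* `n_mem_Li`.
-/

set_option autoImplicit false
set_option linter.unusedSectionVars false

namespace Cfsg.Agent.H769.OZ

open Cfsg Cfsg.Agent.ChevalleyStructure.CoxeterGeom Cfsg.Agent.Tits.Roots Cfsg.Agent.Nodes.TypeC
open Cfsg.Agent.Nodes Cfsg.Agent.Nodes.Comb Cfsg.Agent.Nodes.Reps Cfsg.Agent.Nodes.WittRoot Cfsg.Agent.Nodes.BNOf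
open Cfsg.Agent.Nodes.WittRGD Cfsg.Agent.Nodes.WittAll
open Cfsg.Agent.TitsThree Cfsg.Agent.TitsThree.Siegel Cfsg.Agent.TitsThree.WittFrame
  Cfsg.Agent.TitsThree.WittWeyl Cfsg.Agent.TitsThree.FrameCN Cfsg.Agent.TitsThree.SpIdent
open Cfsg.Agent.H985.VZ Cfsg.Agent.ClassicalGeometry Cfsg.Agent.H604.OZ

variable {F : Type*} [Field F]

/-- `a` on `e₀`, a transvection on `⟨e₁, f₁⟩` -/
def tU (a c : F) (ha : a ≠ 0) : V4 F ≃ₗ[F] V4 F where
  toFun v := mk4 (a⁻¹ * v (Sum.inl 0)) (v (Sum.inl 1)) (a * v (Sum.inr 0)) (v (Sum.inr 1) + c * v (Sum.inl 1))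
  invFun w := mk4 (a * w (Sum.inl 0)) (w (Sum.inl 1)) (a⁻¹ * w (Sum.inr 0)) (w (Sum.inr 1) - c * w (Sum.inl 1))
  map_add' v w := by apply ext4 <;> simp only [_root_.Fin.isValue, _root_.Pi.add_apply, _root_.Cfsg.Agent.H769.OZ.mk4_l0, _root_.Cfsg.Agent.H769.OZ.mk4_l1, _root_.Cfsg.Agent.H769.OZ.mk4_r0, _root_.Cfsg.Agent.H769.OZ.mk4_r1] <;> ring
  map_smul' c v := by apply ext4 <;> simp only [_root_.Fin.isValue, _root_.Pi.smul_apply, _root_.smul_eq_mul, _root_.Cfsg.Agent.H769.OZ.mk4_l0, _root_.RingHom.id_apply, _root_.Cfsg.Agent.H769.OZ.mk4_l1, _root_.Cfsg.Agent.H769.OZ.mk4_r0, _root_.Cfsg.Agent.H769.OZ.mk4_r1] <;> ring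
  left_inv v := by
    apply ext4 <;> simp only [mk4_l0, mk4_l1, mk4_r0, mk4_r1] <;> field_simp <;> ring
  right_inv v := by
    apply ext4 <;> simp only [mk4_l0, mk4_l1, mk4_r0, mk4_r1] <;> field_simp <;> ring

theorem tU_apply (a c : F) (ha : a ≠ 0) (v : V4 F) : tU a c ha v =
    mk4 (a⁻¹ * v (Sum.inl 0)) (v (Sum.inl 1)) (a * v (Sum.inr 0)) (v (Sum.inr 1) + c * v (Sum.inl 1)) := rfl

theorem tU_mem (a c : F) (ha : a ≠ 0) : tU a c ha ∈ isos (_root_.Cfsg.Agent.TitsThree.SpIdent.form 2 F) := by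
  intro v w
  rw [form4, form4, tU_apply, tU_apply]
  simp only [mk4_l0, mk4_l1, mk4_r0, mk4_r1]
  field_simp
  ring

/-- in `PSp₄` -/
noncomputable def gU (a c : F) (ha : a ≠ 0) : PSp 2 F := toPSp ⟨tU a c ha, tU_mem a c ha⟩

theorem tU_mul (a c a' c' : F) (ha : a ≠ 0) (ha' : a' ≠ 0) :
    tU a c ha * tU a' c' ha' = tU (a * a') (c + c') (mul_ne_zero ha ha') := by
  ext1 v
  change tU a c ha (tU a' c' ha' v) = _
  rw [tU_apply, tU_apply, tU_apply]
  apply ext4 <;> simp only [mk4_l0, mk4_l1, mk4_r0, mk4_r1] <;> (try rw [mul_inv]) <;> ring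

theorem gU_pow (a c : F) (ha : a ≠ 0) (m : ℕ) : gU a c ha ^ m = gU (a ^ m) (m * c) (pow_ne_zero m ha) := by
  have key : ∀ m : ℕ, tU a c ha ^ m = tU (a ^ m) (m * c) (pow_ne_zero m ha) := by
    intro m
    induction m with
    | zero =>
      ext1 v
      rw [tU_apply]
      change v = _
      apply ext4 <;> simp only [_root_.Fin.isValue, _root_.pow_zero, _root_.inv_one, _root_.one_mul, _root_.Nat.cast_zero, _root_.MulZeroClass.zero_mul, _root_.add_zero, _root_.Cfsg.Agent.H769.OZ.mk4_l0, _root_.Cfsg.Agent.H769.OZ.mk4_l1, _root_.Cfsg.Agent.H769.OZ.mk4_r0, _root_.Cfsg.Agent.H769.OZ.mk4_r1]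
    | succ m ih =>
      rw [pow_succ, ih, tU_mul]
      congr 1
      · rw [pow_succ]
      · rw [Nat.cast_succ]
        ring
  unfold gU
  rw [← map_pow]
  congr 1
  exact Subtype.ext (key m)

theorem gU_eq_one_iff (a c : F) (ha : a ≠ 0) : gU a c ha = 1 ↔ a = 1 ∧ c = 0 := by
  constructor
  · intro h
    obtain ⟨x, -, hx⟩ := exists_smul_of_toPSp_eq_one h
    have h1 := congrFun (hx (mk4 0 0 0 1)) (Sum.inr 1)
    have h2 := congrFun (hx (mk4 0 0 1 0)) (Sum.inr 0)
    have h3 := congrFun (hx (mk4 0 1 0 0)) (Sum.inr 1)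
    change (tU a c ha) _ _ = _ at h1
    change (tU a c ha) _ _ = _ at h2
    change (tU a c ha) _ _ = _ at h3
    rw [tU_apply] at h1 h2 h3
    simp at h1 h2 h3
    exact ⟨by rw [h2, ← h1], h3⟩
  · rintro ⟨rfl, rfl⟩
    have e : (⟨tU (1 : F) 0 ha, tU_mem 1 0 ha⟩ : isos (_root_.Cfsg.Agent.TitsThree.SpIdent.form 2 F)) = 1 := by
      apply Subtype.ext
      ext1 v
      change tU (1 : F) 0 ha v = v
      rw [tU_apply]
      apply ext4 <;> simp
    unfold gU
    rw [e, map_one]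

theorem orderOf_gU_one {p : ℕ} [hp : Fact p.Prime] [CharP F p] : orderOf (gU (1 : F) 1 one_ne_zero) = p := by
  refine orderOf_eq_prime ?_ ?_
  · rw [gU_pow, gU_eq_one_iff]
    exact ⟨one_pow _, by rw [CharP.cast_eq_zero, zero_mul]⟩
  · rw [Ne, gU_eq_one_iff]
    exact fun h => one_ne_zero h.2

theorem dvd_orderOf_gU {p : ℕ} [hp : Fact p.Prime] [CharP F p] {a : F} (ha : a ≠ 0) : p ∣ orderOf (gU a 1 ha) := by
  have h := pow_orderOf_eq_one (gU a 1 ha)
  rw [gU_pow, gU_eq_one_iff] at h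
  have h2 := h.2
  rw [mul_one] at h2
  exact (CharP.cast_eq_zero_iff F p _).1 h2

theorem orderOf_gU_ne {p : ℕ} [hp : Fact p.Prime] [CharP F p] {a : F} (ha : a ≠ 0) (ha1 : a ≠ 1) :
    orderOf (gU a 1 ha) ≠ p := by
  intro h
  have h1 := pow_orderOf_eq_one (gU a 1 ha)
  rw [gU_pow, gU_eq_one_iff, h] at h1
  apply ha1
  have h2 : (a - 1) ^ p = 0 := by
    rw [sub_pow_char, one_pow, h1.1, sub_self]
  exact sub_eq_zero.1 (pow_eq_zero_iff (Nat.Prime.ne_zero hp.out) |>.1 h2)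

/-- the order of `PSp₄(q)` -/
theorem card_psp4 [Fintype F] {q : ℕ} (hF : Fintype.card F = q) :
    Nat.gcd 2 (q - 1) * Nat.card (PSp 2 F) = q ^ 4 * ((q ^ 2 - 1) * (q ^ 4 - 1)) := by
  rw [H277.ClsPsp.card_psp hF (by norm_num), Finset.prod_range_succ, Finset.prod_range_one]
  norm_num only []

theorem pow_card {p a : ℕ} [hp : Fact p.Prime] [Fintype F] (hF : Fintype.card F = p ^ a) (ha : 0 < a) :
    p ^ (4 * a) ∣ Nat.card (PSp 2 F) ∧ ¬ p ^ (4 * a + 1) ∣ Nat.card (PSp 2 F) := by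
  have h1 := card_psp4 hF
  have hq : 1 < p ^ a := Nat.one_lt_pow ha.ne' hp.out.one_lt
  have hpq : p ∣ p ^ a := dvd_pow_self _ ha.ne'
  have hco : ∀ m : ℕ, 0 < m → Nat.Coprime p ((p ^ a) ^ m - 1) := by
    intro m hm
    rw [Nat.Prime.coprime_iff_not_dvd hp.out]
    intro h
    have h2 : p ∣ (p ^ a) ^ m := dvd_pow hpq hm.ne'
    have h3 : 1 ≤ (p ^ a) ^ m := Nat.one_le_iff_ne_zero.2 (pow_ne_zero _ (by omega))
    have h4 := (Nat.dvd_sub h2 h)
    rw [Nat.sub_sub_self h3] at h4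
    exact hp.out.one_lt.ne' (Nat.dvd_one.1 h4)
  have hc1 := hco 2 (by norm_num)
  have hc2 := hco 4 (by norm_num)
  have hc : Nat.Coprime p (((p ^ a) ^ 2 - 1) * ((p ^ a) ^ 4 - 1)) := Nat.Coprime.mul_right hc1 hc2
  have hg : Nat.Coprime p (Nat.gcd 2 (p ^ a - 1)) := by
    have := hco 1 one_pos
    rw [pow_one] at this
    exact Nat.Coprime.coprime_dvd_right (Nat.gcd_dvd_right _ _) this
  have e4 : (p ^ a) ^ 4 = p ^ (4 * a) := by rw [← pow_mul, mul_comm a 4]
  have h1 := h1.trans (congrArg (· * (((p ^ a) ^ 2 - 1) * ((p ^ a) ^ 4 - 1))) e4)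
  constructor
  · refine (Nat.Coprime.pow_left (4 * a) hg).dvd_of_dvd_mul_left ?_
    rw [h1]
    exact dvd_mul_right _ _
  · intro h
    have h2 : p ^ (4 * a + 1) ∣ p ^ (4 * a) * (((p ^ a) ^ 2 - 1) * ((p ^ a) ^ 4 - 1)) := by
      rw [← h1]
      exact Dvd.dvd.mul_left h _
    rw [pow_succ] at h2
    have h3 := Nat.dvd_of_mul_dvd_mul_left (pow_pos hp.out.pos _) h2
    have h4 := Nat.Coprime.eq_one_of_dvd hc h3
    exact hp.out.one_lt.ne' h4

/-- **the degree is not divisible by `q ^ 4`** -/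
theorem not_dvd_st {F : Type} [Field F] [Fintype F] (hq : 4 ≤ Fintype.card F) {χ : IrrCharacter (PSp 2 F)} {x : PSp 2 F}
    (h : H732.VZ.One χ x) : ¬ Fintype.card F ^ 4 ∣ charDegree (χ : PSp 2 F → ℂ) := by
  classical
  obtain ⟨p, hp⟩ := CharP.exists F
  have hpp : Fact p.Prime := ⟨CharP.char_is_prime F p⟩
  obtain ⟨⟨a, ha⟩, -, hF⟩ := FiniteField.card F p
  simp only [PNat.mk_coe] at hF
  obtain ⟨h1, h2⟩ := pow_card (F := F) hF ha
  obtain ⟨b, hb0, hb1, -⟩ := exists_ne_three hq (0 : F) 1 1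
  have h3 := not_dvd_deg' h hpp.out h1 h2 (g := gU (1 : F) 1 one_ne_zero) (g' := gU b 1 hb0)
    (by rw [orderOf_gU_one (p := p)]) (dvd_orderOf_gU hb0)
    (by rw [orderOf_gU_one (p := p)]; exact (orderOf_gU_ne hb0 hb1).symm)
  rwa [hF, ← pow_mul, mul_comm a 4]

/-! ### The torus and the root groups -/

theorem T_comm (m : ℕ) : ∀ s ∈ WittModel.T (KInstSp.model m F), ∀ t ∈ WittModel.T (KInstSp.model m F),
    s * t = t * s := by
  rintro _ ⟨s, hs, rfl⟩ _ ⟨t, ht, rfl⟩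
  rw [← map_mul, ← map_mul]
  congr 1
  exact Subtype.ext (H332.PQ.Psp.tor_comm (Subgroup.mem_subgroupOf.1 hs) (Subgroup.mem_subgroupOf.1 ht))

theorem n_mem_Li {m : ℕ} {p : ℕ} (hA : AmbT (frame m F) p (KInstSp.model m F).I) (i : Fin m) :
    (KInstSp.model m F).φ ⟨_root_.Cfsg.Agent.Nodes.WittRGD.nn (frame m F) (adm 1) i, WittAll.nn_mem hA (adm 1) i⟩ ∈
      Li (WittModel.X (KInstSp.model m F)) i := WittModel.nw_mem_sup (KInstSp.model m F) WittU.amb_Sp (adm 1) i

end Cfsg.Agent.H769.OZ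
end

-- part: H769/OZ/SpIso
section
/-!
# `PSp₄(q)`, `q ≥ 4`: the odd prime divisors of `q² + 1` (helper769, S4842)

* `exists_two` : two classes of elements of order divisible by `r`;
* `not_dvd_cox` : `q² + 1 ∤ 8 χ(1)` for a character vanishing on exactly one class.
-/

set_option autoImplicit false

namespace Cfsg.Agent.H769.OZ

open Cfsg Cfsg.Agent.Characters Cfsg.Agent.H604.OZ Cfsg.Agent.H477.OZ Cfsg.Agent.H477.HC Module

theorem order_four {q r : ℕ} (hr : r.Prime) (hr2 : r ≠ 2) (hd : r ∣ q ^ 2 + 1) : orderOf ((q : ℕ) : ZMod r) = 4 := by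
  have := Fact.mk hr
  have h1 : ((q : ℕ) : ZMod r) ^ 2 = -1 := by
    have h2 : ((q ^ 2 + 1 : ℕ) : ZMod r) = 0 := (ZMod.natCast_eq_zero_iff _ _).2 hd
    push_cast at h2
    exact eq_neg_of_add_eq_zero_left h2
  have hne : (-1 : ZMod r) ≠ 1 := by
    have : Fact (2 < r) := ⟨lt_of_le_of_ne hr.two_le (Ne.symm hr2)⟩
    exact ZMod.neg_one_ne_one
  have h3 : orderOf ((q : ℕ) : ZMod r) = 2 ^ (1 + 1) := by
    apply orderOf_eq_prime_pow
    · rw [pow_one, h1]
      exact hne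
    · rw [show 2 ^ (1 + 1) = 2 * 2 by norm_num, pow_mul, h1]
      norm_num
  rw [h3]
  norm_num

theorem dvd_orderOf_map {G S : Type*} [Group G] [Group S] {π : G →* S} {r : ℕ} (hr : r.Prime)
    (hk : ¬ r ∣ Nat.card π.ker) {g : G} (hg : r ∣ orderOf g) : r ∣ orderOf (π g) := by
  have h1 : g ^ orderOf (π g) ∈ π.ker := by
    rw [MonoidHom.mem_ker, map_pow, pow_orderOf_eq_one]
  have h2 : (g ^ orderOf (π g)) ^ Nat.card π.ker = 1 := by
    have := congrArg Subtype.val (pow_card_eq_one' (x := (⟨_, h1⟩ : π.ker)))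
    exact this
  rw [← pow_mul] at h2
  rcases hr.dvd_mul.1 (hg.trans (orderOf_dvd_of_pow_eq_one h2)) with h3 | h3
  · exact h3
  · exact absurd h3 hk

/-- **two classes** -/
theorem exists_two {F : Type} [Field F] [Fintype F] (hq : 4 ≤ Fintype.card F) {r : ℕ} (hr : r.Prime) (hr2 : r ≠ 2)
    (hd : r ∣ Fintype.card F ^ 2 + 1) : ∃ g g' : PSp 2 F, r ∣ orderOf g ∧ r ∣ orderOf g' ∧ ¬ IsConj g g' := by
  have hrf := Fact.mk hr
  obtain ⟨π, hπ, hker, hkc⟩ := H366.OZ.exists_pi (MulEquiv.refl (PSp 2 F)) (by norm_num)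
  set q := Fintype.card F with hqdef
  have hqN : Nat.card F = q := Nat.card_eq_fintype_card
  have hfin : Finite (CForm.spF F 2).iso := by
    have : Finite ((Fin 2 ⊕ Fin 2 → F) ≃ₗ[F] (Fin 2 ⊕ Fin 2 → F)) :=
      Finite.of_injective (fun e => (e : (Fin 2 ⊕ Fin 2 → F) → (Fin 2 ⊕ Fin 2 → F)))
        (fun a b hab => LinearEquiv.ext fun v => congrFun hab v)
    exact Subtype.finite
  have hord := order_four hr hr2 hd
  have hrq : ¬ r ∣ q := by
    intro h1
    have h2 : r ∣ q ^ 2 := dvd_pow h1 two_ne_zero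
    exact hr.one_lt.ne' (Nat.dvd_one.1 ((Nat.dvd_add_right h2).1 hd))
  have hkle : Nat.card π.ker ≤ 2 := by
    rw [hkc]
    exact Nat.le_of_dvd two_pos (Nat.gcd_dvd_left _ _)
  have hkr : ¬ r ∣ Nat.card π.ker := by
    intro h1
    have h2 := Nat.le_of_dvd Nat.card_pos h1
    have := hr.two_le
    omega
  have hnum : Nat.card π.ker * (2 * 2 + 1) < q ^ 2 + 1 := by nlinarith only [hq, hkle]
  have hfr : finrank F (Fin 2 ⊕ Fin 2 → F) = 4 := by
    rw [Module.finrank_fintype_fun_eq_card, Fintype.card_sum, Fintype.card_fin]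
  have hordN : orderOf ((Nat.card F : ℕ) : ZMod r) = 2 * 2 := by rw [hqN]; exact hord
  have hdG : r ∣ Nat.card (CForm.spF F 2).iso := by
    rw [card_spF, hqN]
    refine Dvd.dvd.mul_left ?_ _
    have h1 : r ∣ q ^ (2 * (1 + 1)) - 1 := by
      have h2 : ((q ^ (2 * (1 + 1)) : ℕ) : ZMod r) = ((1 : ℕ) : ZMod r) := by
        have h5 := pow_orderOf_eq_one ((q : ℕ) : ZMod r)
        rw [hord] at h5
        push_cast
        exact h5
      have h3 := (ZMod.natCast_eq_natCast_iff _ _ _).1 h2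
      exact (Nat.modEq_iff_dvd' (Nat.one_le_pow _ _ (by omega))).1 h3.symm
    exact h1.trans (Finset.dvd_prod_of_mem _ (Finset.mem_range.2 (by norm_num : 1 < 2)))
  let R : Sylow r (CForm.spF F 2).iso := default
  obtain ⟨y, hyR, h, hRT, hC, hcyc⟩ := exists_big (F := CForm.spF F 2) (r := r) (by rw [hqN]; exact hrq)
    (by rw [hfr, hordN]; norm_num) R hdG
  have hσ : ∀ a, (CForm.spF F 2).σ a = a := fun a => by simp
  have hQ0 : ∀ v, (CForm.spF F 2).Q v = 0 := fun v => by simp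
  obtain ⟨t, ht, hrt, hnc⟩ := h.two_classes hσ (j := 2) (by norm_num) hordN (fun a _ _ u _ => by rw [hQ0, hQ0])
    hker hkr (by rw [hqN]; exact hnum) (k₀ := 1) (one_mem _)
  refine ⟨π y, π t, dvd_orderOf_map hr hkr (by rw [h.orderOf_eq]), dvd_orderOf_map hr hkr hrt, fun hc => hnc ?_⟩
  rw [mul_one, mul_one]
  exact conj_of_isConj hπ hc

/-- **the degree is not divisible by the Coxeter number part** -/
theorem not_dvd_cox {F : Type} [Field F] [Fintype F] (hq : 4 ≤ Fintype.card F) {χ : IrrCharacter (PSp 2 F)}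
    {x : PSp 2 F} (h : H732.VZ.One χ x) : ¬ Fintype.card F ^ 2 + 1 ∣ 8 * charDegree (χ : PSp 2 F → ℂ) := by
  intro hdv
  have hcard := card_psp4 (F := F) rfl
  set q := Fintype.card F with hqdef
  -- an odd prime divisor
  obtain ⟨r, hr, hr2, hd⟩ : ∃ r, r.Prime ∧ r ≠ 2 ∧ r ∣ q ^ 2 + 1 := by
    by_contra hcon
    push Not at hcon
    have h1 : ∀ r, r.Prime → r ∣ q ^ 2 + 1 → r = 2 := by
      intro r hr hd
      by_contra h2
      exact hcon r hr h2 hd
    have h2 := Nat.eq_prime_pow_of_unique_prime_dvd (n := q ^ 2 + 1) (p := 2) (by positivity) (fun {r} hr hd => h1 r hr hd)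
    have h4 : ¬ 4 ∣ q ^ 2 + 1 := by
      intro h4
      have h5 : (q ^ 2 + 1) % 4 = 0 := Nat.mod_eq_zero_of_dvd h4
      have h6 : q % 4 = 0 ∨ q % 4 = 1 ∨ q % 4 = 2 ∨ q % 4 = 3 := by omega
      rcases h6 with h6 | h6 | h6 | h6 <;> simp only [Nat.add_mod, Nat.pow_mod, h6, _root_.ne_eq, _root_.OfNat.ofNat_ne_zero, _root_.not_false_eq_true, _root_.zero_pow, _root_.Nat.zero_mod, _root_.Nat.one_mod, _root_.zero_add, _root_.one_ne_zero, _root_.one_pow, _root_.Nat.reduceAdd, _root_.Nat.reduceMod, _root_.Nat.reducePow, _root_.Nat.mod_self] at h5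
    have h5 : (q ^ 2 + 1).primeFactorsList.length ≤ 1 := by
      by_contra h6
      apply h4
      rw [h2]
      exact pow_dvd_pow 2 (by omega : 2 ≤ _)
    have h6 : q ^ 2 + 1 ≤ 2 ^ 1 := by
      rw [h2]
      exact Nat.pow_le_pow_right two_pos h5
    nlinarith only [hq, h6]
  have hrq : Nat.Coprime r q := by
    rw [Nat.Prime.coprime_iff_not_dvd hr]
    intro h1
    exact hr.one_lt.ne' (Nat.dvd_one.1 ((Nat.dvd_add_right (dvd_pow h1 two_ne_zero)).1 hd))
  have hr2' : Nat.Coprime r 2 := (Nat.coprime_primes hr Nat.prime_two).2 hr2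
  have hq1 : 1 ≤ q ^ 2 := Nat.one_le_pow _ _ (by omega)
  have hrq1 : Nat.Coprime r (q ^ 2 - 1) := by
    rw [Nat.Prime.coprime_iff_not_dvd hr]
    intro h1
    have h2 : r ∣ (q ^ 2 + 1) - (q ^ 2 - 1) := Nat.dvd_sub hd h1
    have h3 : (q ^ 2 + 1) - (q ^ 2 - 1) = 2 := by omega
    rw [h3] at h2
    exact hr2 ((Nat.prime_dvd_prime_iff_eq hr Nat.prime_two).1 h2)
  have hg : Nat.Coprime r (Nat.gcd 2 (q - 1)) := Nat.Coprime.coprime_dvd_right (Nat.gcd_dvd_left _ _) hr2'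
  have h4 : q ^ 4 - 1 = (q ^ 2 - 1) * (q ^ 2 + 1) := by
    have : q ^ 4 = (q ^ 2) ^ 2 := by ring
    rw [this, mul_comm, ← Nat.sq_sub_sq, one_pow]
  set n := (q ^ 2 + 1).factorization r with hn
  have hn1 : r ^ n ∣ q ^ 2 + 1 := Nat.ordProj_dvd _ _
  have hn2 : ¬ r ^ (n + 1) ∣ q ^ 2 + 1 := Nat.pow_succ_factorization_not_dvd (by positivity) hr
  have hp : ∀ m, r ^ m ∣ Nat.card (PSp 2 F) ↔ r ^ m ∣ q ^ 2 + 1 := by
    intro m
    constructor
    · intro h1
      have h2 : r ^ m ∣ q ^ 4 * ((q ^ 2 - 1) * (q ^ 4 - 1)) := by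
        rw [← hcard]
        exact Dvd.dvd.mul_left h1 _
      have h3 := (Nat.Coprime.pow m 4 hrq).dvd_of_dvd_mul_left h2
      have h5 := (Nat.Coprime.pow_left m hrq1).dvd_of_dvd_mul_left h3
      rw [h4] at h5
      exact (Nat.Coprime.pow_left m hrq1).dvd_of_dvd_mul_left h5
    · intro h1
      refine (Nat.Coprime.pow_left m hg).dvd_of_dvd_mul_left ?_
      rw [hcard, h4]
      exact (h1.mul_left _).mul_left _ |>.mul_left _
  obtain ⟨g, g', hg1, hg2, hg3⟩ := exists_two hq hr hr2 hd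
  refine not_dvd_deg h hr ((hp n).2 hn1) (fun h1 => hn2 ((hp (n + 1)).1 h1)) hg1 hg2 hg3 ?_
  have h8 : Nat.Coprime (r ^ n) 8 := by
    have := Nat.Coprime.pow n 3 hr2'
    norm_num at this
    exact this
  exact h8.dvd_of_dvd_mul_left (hn1.trans hdv)

end Cfsg.Agent.H769.OZ
end

private theorem dce_65864ed1c7ea : _root_.True := by
  try have : _root_.True := by simp only [_root_.Cfsg.Agent.H769.OZ.tL.congr_simp]
  try have : _root_.True := by simp only [_root_.Cfsg.Agent.H769.OZ.tr.eq_1]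
  try have : _root_.True := by simp only [_root_.Cfsg.Agent.H769.OZ.NR.eq_1]
  try have : _root_.True := by simp only [_root_.Cfsg.Agent.H769.OZ.tS.congr_simp]
  exact _root_.True.intro
end
end
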