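import Cfsg.Agent.H395.PQ.OOdd
import Cfsg.Agent.H742.PanU_m3
import Cfsg.Agent.H644.OZ.OmTD_m3
import Cfsg.Agent.H849.OZ.Bad_m3
import Cfsg.Agent.H44.SEofTI
import Cfsg.Agent.H448.Van.Rows
import Cfsg.Agent.H452.Singer
import Cfsg.Agent.H724.UThree
import Cfsg.Agent.H664.R1.U3Four
import Cfsg.Agent.H394.SqPsu3
import Cfsg.Agent.H279.OZ.Kaw
import Cfsg.Agent.Nodes.WittInst
import Cfsg.Agent.H876.OZU.Main_m3
import Cfsg.Agent.S0280
import Cfsg.Agent.H730.OZ.Asm
import Cfsg.Agent.SporadicStructure.PsuMatch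
import Cfsg.Agent.S0277
import Cfsg.Agent.S0283
import Cfsg.Agent.S2335
import Cfsg.Agent.H730.OZ.Known_m3
import Cfsg.Agent.H678.PV.RowCoOneB_m3
import Cfsg.Agent.CharDeep.PowerDegrees
import Cfsg.Agent.S0253
import Cfsg.Agent.S0254
import Mathlib
import Cfsg.Agent.H866.OZ.KawTwo
import Cfsg.Agent.H866.OZ.Elts2
import Cfsg.Agent.S1092
import Cfsg.Agent.H448.Van.RkFin_m3
import Cfsg.Agent.S1065
import Cfsg.Agent.H695.OneZero.DetMain_mg_m3
import Cfsg.Agent.H35.ExcIdxTw_m3
import Cfsg.Agent.H557.CentChev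
import Mathlib.Algebra.BigOperators.Intervals
import Mathlib.Algebra.Field.ZMod
import Mathlib.Data.Complex.Basic
import Mathlib.Tactic
import Cfsg.Agent.H985.VZ.GTwo_m3
import Cfsg.Agent.H320.OZ.F4In
import Cfsg.Agent.S1055
import Cfsg.Agent.GTwoFour.MdlInvChk
import Cfsg.Agent.H129.RealT_m3
import Cfsg.Agent.H129.DataG2h
import Cfsg.Agent.H378.RegE7
import Cfsg.Agent.S1059
import Cfsg.Agent.H121.OZ.JTwoCls_m3
import Cfsg.Agent.Nodes.RGDChev
import Cfsg.Agent.StdG24.Iso6
import Cfsg.Agent.H904.McLCent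
import Cfsg.Agent.H257.OZ.SuzFacts
import Cfsg.Agent.S2132
import Cfsg.Agent.H153.ZerosMcL
import Cfsg.Agent.H715.Mon.Norm_m3
import Cfsg.Agent.H436.MonLoc
import Cfsg.Agent.H568.SC.Mon
import Cfsg.Agent.H58.Mon.Seventy
import Cfsg.Agent.H626.LD.TwentyNine
import Cfsg.Agent.FastGrp
import Cfsg.Agent.Prune
set_option linter.all false

section
prune_inst 0x7fbce9f8eba8b9dedfff7e3ffedddffc11808fffe6dff943ffe061af0bdf030009c56b8d09e010fe0e42e23410b87803fb7eeeffe26bdc7ffffd5ff41ffbee0fa5e7b50011d588240f340ff603f0778e6f3ffffffffffffffffffff7ffffffbefffdf3feffff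

-- part: H769/OZ/OmB
section
set_option linter.all false
open scoped Cfsg.Agent.FastGrp

/-!
# `PΩ_{2m+1}(q)`, `q` odd: the ingredients of the rows (helper769, S4842)

* `rgd_om` : the root group datum; `hA_om`;
* `qq_om` : all root groups have order `q`; `GG_om`; `T_comm_om` : the torus is abelian.
-/

set_option autoImplicit false
set_option linter.unusedSectionVars false

namespace Cfsg.Agent.H769.OZ

open CoxeterSystem Cfsg Cfsg.Agent.ChevalleyStructure.CoxeterGeom Cfsg.Agent.Tits.Roots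
open Cfsg.Agent.Tits.Core Cfsg.Agent.Tits.RootComb Cfsg.Agent.Nodes.TypeC
open Cfsg.Agent.Nodes Cfsg.Agent.Nodes.Comb Cfsg.Agent.Nodes.Reps Cfsg.Agent.Nodes.WittRoot Cfsg.Agent.Nodes.BNOf
open Cfsg.Agent.Nodes.WittRGD Cfsg.Agent.Nodes.RGDLib Cfsg.Agent.Nodes.WittAll
open Cfsg.Agent.TitsThree Cfsg.Agent.TitsThree.Siegel Cfsg.Agent.TitsThree.WittFrame
  Cfsg.Agent.TitsThree.WittWeyl Cfsg.Agent.TitsThree.FrameCN
open Cfsg.Agent.Nodes.Bruhat Cfsg.Agent.H985.VZ
open QuadraticMap Cfsg.Agent.LieClassical Cfsg.Agent.LieClassical.OrthCore Cfsg.Agent.LieClassical.OrthForms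
open Cfsg.Agent.TitsThree.KSideO Cfsg.Agent.TitsThree.WBridge Cfsg.Agent.Nodes.WittU Cfsg.Agent.Nodes.WittInst

variable {F : Type*} [Field F] {m : ℕ}

variable (hG : LieClassical.OrthTrans.Good (oddForm m F)) (hp : ∃ p : (toFrame (wodd m F)).Adm, p.c ≠ 0)

/-- **all root groups have order `q`** -/
theorem qq_om (i : Fin m) : qq (WittModel.X (model (wodd m F) hG hp)) i = Nat.card F := by
  unfold qq
  by_cases hi : (i : ℕ) + 1 < m
  · exact H742.card_X_of_lt _ hi
  · rw [H742.card_X_last _ hi, H353.PanO.card_adm, H353.PanO.card_V0_odd]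

variable {W : Type*} [Group W] (cs : CoxeterSystem (CoxeterMatrix.B m) W)

theorem GG_om (hm : 0 < m) :
    GG cs (isCartan m) (WittModel.T (model (wodd m F) hG hp)) (WittModel.X (model (wodd m F) hG hp)) = ⊤ := by
  rw [eq_top_iff, ← WittModel.G1_eq_top (model (wodd m F) hG hp) hm cs]
  exact le_sup_right

/-- the torus is abelian -/
theorem T_comm_om {F : Type} [Field F] [Finite F] (h2 : (2 : F) ≠ 0) {m : ℕ}
    (hG : LieClassical.OrthTrans.Good (oddForm m F)) (hp : ∃ p : (toFrame (wodd m F)).Adm, p.c ≠ 0) :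
    ∀ s ∈ WittModel.T (model (wodd m F) hG hp), ∀ t ∈ WittModel.T (model (wodd m F) hG hp), s * t = t * s := by
  rintro _ ⟨s, hs, rfl⟩ _ ⟨t, ht, rfl⟩
  rw [← map_mul, ← map_mul]
  congr 1
  exact Subtype.ext (H395.PQ.OOdd.tor_comm h2 m _ (Subgroup.mem_subgroupOf.1 hs) _ (Subgroup.mem_subgroupOf.1 ht))

/-- the root group datum -/
theorem rgd_om [Finite F] (h2 : (2 : F) ≠ 0) {p : ℕ} [Fact p.Prime] [CharP F p] {p0 : (toFrame (wodd m F)).Adm}
    (hp0 : p0.c ≠ 0) : RGD cs (isCartan m) p (WittModel.T (model (wodd m F) hG hp))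
      (WittModel.nw (model (wodd m F) hG hp) (amb_O_of_two _ h2) p0) (WittModel.X (model (wodd m F) hG hp)) :=
  rgdC_model (model (wodd m F) hG hp) (AmbT.of_amb (amb_O_of_two _ h2) p) hp0 cs

end Cfsg.Agent.H769.OZ
end

-- part: H876/OZU/Psu
section
prune_inst 0x4004010000022100000000000000020004000000000008000c0a10a0002012002000200400080000b400800000001000000000080400000000a000000000505010000040000410008800000000080000000000000000000000000000000000000200000000
set_option linter.all false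
open scoped Cfsg.Agent.FastGrp

-- part: H279/OZ/Abs
section
/-!
# S4842 for groups with TI Sylow `p`-subgroups (helper279)

* `sum_sylow_eq_zero` : TI Sylow `p`-subgroups, `|G|_p² ` `p`-elements, the sum of `χ` over them is `- |G|_p χ(1)`:
  the sum of `χ` over a Sylow `p`-subgroup is zero.
* `zero_of_sum` : then `χ` vanishes on every element `s` normalising `P` with `C_P(s) = 1`.
-/

set_option autoImplicit false

namespace Cfsg.Agent.H279.OZ

open Cfsg Cfsg.Agent.Characters Cfsg.Agent.H730.OZ Finset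

universe u

variable {G : Type u} [Group G]

section TI

open scoped Classical in
theorem mem_sylow_iff [Fintype G] {p : ℕ} [hp : Fact p.Prime] (h : H210.Loc.TI p G) {u : G} (hu : u ≠ 1) :
    (univ.filter fun P : Sylow p G => u ∈ (P : Subgroup G)).card = if u ∈ pSet p G then 1 else 0 := by
  split_ifs with h1
  · obtain ⟨k, hk⟩ := h1
    have h2 : IsPGroup p (Subgroup.zpowers u) := IsPGroup.of_card (n := k) (by rw [Nat.card_zpowers, hk])
    obtain ⟨P, hP⟩ := h2.exists_le_sylow
    rw [card_eq_one]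
    refine ⟨P, ?_⟩
    ext Q
    rw [mem_filter, mem_singleton]
    constructor
    · rintro ⟨-, hQ⟩
      by_contra hne
      apply hu
      have h3 : u ∈ (Q : Subgroup G) ⊓ (P : Subgroup G) := ⟨hQ, hP (Subgroup.mem_zpowers u)⟩
      rwa [h Q P hne, Subgroup.mem_bot] at h3
    · rintro rfl
      exact ⟨mem_univ _, hP (Subgroup.mem_zpowers u)⟩
  · rw [card_eq_zero, filter_eq_empty_iff]
    intro P _ hP
    apply h1
    obtain ⟨k, hk⟩ := (IsPGroup.iff_orderOf.1 P.isPGroup') ⟨u, hP⟩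
    exact ⟨k, by rw [← hk, Subgroup.orderOf_mk]⟩

open scoped Classical in
/-- the sum over the `p`-elements -/
theorem sum_pSet [Fintype G] {p : ℕ} [hp : Fact p.Prime] (h : H210.Loc.TI p G) (P : Sylow p G) {f : G → ℂ}
    (hf : ∀ g x : G, f (g * x * g⁻¹) = f x) :
    ∑ u ∈ univ.filter (· ∈ pSet p G), f u =
      f 1 + (Fintype.card (Sylow p G) : ℂ) * ((∑ u ∈ univ.filter (· ∈ (P : Subgroup G)), f u) - f 1) := by
  have h1 : (1 : G) ∈ univ.filter (· ∈ pSet p G) := by
    rw [mem_filter]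
    exact ⟨mem_univ _, 0, by simp⟩
  rw [← add_sum_erase _ _ h1]
  congr 1
  have hQ : ∀ Q : Sylow p G, (∑ u ∈ (univ.filter (· ∈ (Q : Subgroup G))).erase 1, f u) =
      (∑ u ∈ univ.filter (· ∈ (P : Subgroup G)), f u) - f 1 := by
    intro Q
    have h2 : (1 : G) ∈ univ.filter (· ∈ (Q : Subgroup G)) := by
      rw [mem_filter]
      exact ⟨mem_univ _, one_mem _⟩
    rw [eq_sub_iff_add_eq', add_sum_erase _ _ h2]
    obtain ⟨g, hg⟩ := MulAction.exists_smul_eq G P Q
    have h3 : univ.filter (· ∈ (Q : Subgroup G)) = (univ.filter (· ∈ (P : Subgroup G))).image (fun x => g * x * g⁻¹) := by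
      ext y
      rw [mem_image, mem_filter]
      constructor
      · rintro ⟨-, hy⟩
        rw [← hg, Sylow.coe_subgroup_smul, Subgroup.mem_pointwise_smul_iff_inv_smul_mem] at hy
        refine ⟨g⁻¹ * y * g, ?_, by group⟩
        rw [mem_filter]
        refine ⟨mem_univ _, ?_⟩
        simpa [MulAut.smul_def] using hy
      · rintro ⟨x, hx, rfl⟩
        rw [mem_filter] at hx
        refine ⟨mem_univ _, ?_⟩
        rw [← hg, Sylow.coe_subgroup_smul, Subgroup.mem_pointwise_smul_iff_inv_smul_mem]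
        have : (MulAut.conj g)⁻¹ • (g * x * g⁻¹) = x := by
          rw [← map_inv, MulAut.smul_def, MulAut.conj_apply]
          group
        rw [this]
        exact hx.2
    rw [h3, sum_image fun a _ b _ hab => by simpa only [_root_.mul_left_inj, _root_.mul_right_inj] using hab]
    exact sum_congr rfl fun x _ => hf g x
  have h4 : ∑ Q : Sylow p G, (∑ u ∈ (univ.filter (· ∈ (Q : Subgroup G))).erase 1, f u) =
      ∑ u ∈ (univ.filter (· ∈ pSet p G)).erase 1, f u := by
    have e1 : ∀ Q : Sylow p G, (∑ u ∈ (univ.filter (· ∈ (Q : Subgroup G))).erase 1, f u) =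
        ∑ u ∈ univ.erase (1 : G), if u ∈ (Q : Subgroup G) then f u else 0 := by
      intro Q
      rw [← sum_filter]
      refine sum_congr ?_ fun _ _ => rfl
      ext u
      simp only [mem_erase, mem_filter, mem_univ, true_and, and_true]
    rw [sum_congr rfl fun Q _ => e1 Q, sum_comm]
    have e2 : ∀ u ∈ univ.erase (1 : G), (∑ Q : Sylow p G, if u ∈ (Q : Subgroup G) then f u else 0) =
        if u ∈ pSet p G then f u else 0 := by
      intro u hu
      rw [← sum_filter, sum_const, mem_sylow_iff h (mem_erase.1 hu).1]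
      split_ifs <;> simp
    rw [sum_congr rfl e2, ← sum_filter]
    refine sum_congr ?_ fun _ _ => rfl
    ext u
    simp only [mem_erase, mem_filter, mem_univ, true_and, and_true]
  rw [← h4, sum_congr rfl fun Q _ => hQ Q, sum_const, card_univ, nsmul_eq_mul]

/-- **The sum over a Sylow subgroup is zero** -/
theorem sum_sylow_eq_zero [Finite G] {p : ℕ} [hp : Fact p.Prime] (h : H210.Loc.TI p G) (P : Sylow p G) [Fintype (P : Subgroup G)]
    (hpG : p ∣ Nat.card G) (hcard : (pSet p G).ncard = p ^ (2 * (Nat.card G).factorization p)) {f : G → ℂ}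
    (hf : ∀ g x : G, f (g * x * g⁻¹) = f x)
    (hs : ∑ᶠ u ∈ pSet p G, f u = - (p : ℂ) ^ (Nat.card G).factorization p * f 1) :
    ∑ u : (P : Subgroup G), f u = 0 := by
  classical
  have := Fintype.ofFinite G
  set v := (Nat.card G).factorization p with hv
  have hPc : Nat.card (P : Subgroup G) = p ^ v := Sylow.card_eq_multiplicity P
  have hp1 : 1 < p := hp.out.one_lt
  have hv1 : v ≠ 0 := by
    rw [hv, ← Nat.pos_iff_ne_zero]
    exact hp.out.factorization_pos_of_dvd Nat.card_pos.ne' hpG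
  have hpv : 1 < p ^ v := Nat.one_lt_pow hv1 hp1
  have e1 : ∀ f : G → ℂ, (∑ u ∈ univ.filter (· ∈ (P : Subgroup G)), f u) = ∑ u : (P : Subgroup G), f u := by
    intro f
    exact Finset.sum_subtype _ (fun x => by simp) f
  -- the number of Sylow subgroups
  have hn : (Fintype.card (Sylow p G) : ℂ) = (p : ℂ) ^ v + 1 := by
    have h1 := sum_pSet h P (f := fun _ => (1 : ℂ)) (fun _ _ => rfl)
    rw [e1, sum_const, sum_const, card_univ, nsmul_eq_mul, nsmul_eq_mul, mul_one, mul_one,
      ← Nat.card_eq_fintype_card (α := (P : Subgroup G)), hPc] at h1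
    have h2 : ((univ.filter (· ∈ pSet p G)).card : ℂ) = ((p ^ (2 * v) : ℕ) : ℂ) := by
      congr 1
      rw [← hcard, Set.ncard_eq_toFinset_card']
      congr 1
      ext x
      simp
    rw [h2] at h1
    push_cast at h1
    have h3 : (p : ℂ) ^ v - 1 ≠ 0 := by
      rw [sub_ne_zero]
      exact_mod_cast hpv.ne'
    apply mul_right_cancel₀ h3
    have h4 : (p : ℂ) ^ (2 * v) = (p : ℂ) ^ v * (p : ℂ) ^ v := by rw [two_mul, pow_add]
    rw [h4] at h1
    linear_combination -h1
  rw [finsum_pSet, sum_pSet h P hf, e1, hn] at hs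
  have h5 : ((p : ℂ) ^ v + 1) * ∑ u : (P : Subgroup G), f u = 0 := by linear_combination hs
  rcases mul_eq_zero.1 h5 with h6 | h6
  · exfalso
    have : ((p ^ v + 1 : ℕ) : ℂ) = 0 := by push_cast; exact h6
    exact absurd (Nat.cast_eq_zero.1 this) (by omega)
  · exact h6

end TI

section Zero

variable [Finite G]

/-- **Vanishing**: `s` normalises `P`, `C_P(s) = 1` and the sum of `χ` over `P` is zero. -/
theorem zero_of_sum {χ : G → ℂ} (hχ : IsCharacter G χ) (P : Subgroup G) [Fintype P] (h0 : ∑ u : P, χ u = 0) {s : G}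
    (hs : ∀ u ∈ P, s⁻¹ * u * s ∈ P) (hc : ∀ u ∈ P, u * s = s * u → u = 1) : χ s = 0 := by
  classical
  obtain ⟨n, ρ, rfl⟩ := hχ
  set! A : Module.End ℂ (Fin n → ℂ) := ∑ u : P, ρ (u : G) with hA
  have hP0 : ((Fintype.card P : ℕ) : ℂ) ≠ 0 := by exact_mod_cast Fintype.card_ne_zero
  have hAA : A * A = (Fintype.card P : ℂ) • A := by
    rw [hA, Finset.sum_mul]
    have : ∀ u : P, ρ (u : G) * ∑ v : P, ρ (v : G) = ∑ v : P, ρ (v : G) := by
      intro u
      rw [Finset.mul_sum, ← Equiv.sum_comp (Equiv.mulLeft u) (fun v : P => ρ (v : G))]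
      refine Finset.sum_congr rfl fun v _ => ?_
      rw [Equiv.coe_mulLeft, Subgroup.coe_mul, map_mul]
    rw [Finset.sum_congr rfl fun u _ => this u, Finset.sum_const, Finset.card_univ, Nat.cast_smul_eq_nsmul]
  have htr : LinearMap.trace ℂ _ A = 0 := by
    rw [hA, map_sum]
    exact h0
  have hA0 : A = 0 := by
    set! e : Module.End ℂ (Fin n → ℂ) := (Fintype.card P : ℂ)⁻¹ • A with he
    have hidem : IsIdempotentElem e := by
      unfold IsIdempotentElem
      rw [he, smul_mul_smul_comm, hAA, smul_smul, mul_assoc, inv_mul_cancel₀ hP0, mul_one]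
    have h1 : LinearMap.trace ℂ _ e = 0 := by
      rw [he, map_smul, htr, smul_zero]
    have h2 : e = 0 := by
      have h3 := (LinearMap.isProj_range_iff_isIdempotentElem e).2 hidem
      have h4 := h3.trace
      rw [h1] at h4
      have h5 : Module.finrank ℂ (LinearMap.range e) = 0 := by exact_mod_cast h4.symm
      rw [Submodule.finrank_eq_zero] at h5
      exact LinearMap.range_eq_bot.1 h5
    rw [he, smul_eq_zero] at h2
    exact h2.resolve_left (inv_ne_zero hP0)
  -- the conjugates of `s`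
  let c : P → P := fun v => ⟨s⁻¹ * v * s * (v : G)⁻¹, P.mul_mem (hs v v.2) (P.inv_mem v.2)⟩
  have hcinj : Function.Injective c := by
    intro v w hvw
    have h1 : s⁻¹ * v * s * (v : G)⁻¹ = s⁻¹ * w * s * (w : G)⁻¹ := congrArg Subtype.val hvw
    have h2 : ((w : G)⁻¹ * v) * s = s * ((w : G)⁻¹ * v) := by
      have h3 : (v : G) * s * (v : G)⁻¹ = w * s * (w : G)⁻¹ := by
        have := congrArg (s * ·) h1
        simpa only [mul_assoc, _root_.mul_inv_cancel_left] using this
      calc ((w : G)⁻¹ * v) * s = (w : G)⁻¹ * (v * s * (v : G)⁻¹) * v := by group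
        _ = (w : G)⁻¹ * (w * s * (w : G)⁻¹) * v := by rw [h3]
        _ = s * ((w : G)⁻¹ * v) := by group
    have h4 := hc _ (P.mul_mem (P.inv_mem w.2) v.2) h2
    apply Subtype.ext
    exact (inv_mul_eq_one.1 h4).symm
  have hcb : Function.Bijective c := Finite.injective_iff_bijective.1 hcinj
  have h1 : ∑ u : P, ρ.character (s * u) = 0 := by
    have h2 : ∑ u : P, ρ.character (s * u) = LinearMap.trace ℂ _ (ρ s * A) := by
      rw [hA, Finset.mul_sum, map_sum]
      refine Finset.sum_congr rfl fun u _ => ?_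
      rw [← map_mul]
      rfl
    rw [h2, hA0, mul_zero, map_zero]
  rw [← Equiv.sum_comp (Equiv.ofBijective c hcb)] at h1
  have h2 : ∀ v : P, ρ.character (s * ((Equiv.ofBijective c hcb v : P) : G)) = ρ.character s := by
    intro v
    have h3 : s * ((Equiv.ofBijective c hcb v : P) : G) = v * s * (v : G)⁻¹ := by
      show s * (s⁻¹ * v * s * (v : G)⁻¹) = _
      group
    rw [h3]
    exact Representation.char_conj ρ s v
  rw [Finset.sum_congr rfl fun v _ => h2 v, Finset.sum_const, Finset.card_univ, nsmul_eq_mul] at h1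
  exact (mul_eq_zero.1 h1).resolve_left hP0

end Zero

end Cfsg.Agent.H279.OZ
end

-- part: H279/OZ/RankOne
section
/-!
# S4842: groups of rank one (helper279)

`cong_of_rank_one` : `|G|_p = p^v`, TI Sylow `p`-subgroups, an isolated prime `r` with `ord_r(p) = 2 v` and an element
`s` normalising a Sylow `p`-subgroup `P` with `C_P(s) = 1`, not conjugate to its inverse: then `e p^m ≡ 1` modulo
`p^(2v) - 1` for the characters with exactly one class of zeros.
-/

set_option autoImplicit false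

namespace Cfsg.Agent.H279.OZ

open Cfsg Cfsg.Agent.Characters Cfsg.Agent.H730.OZ Finset
open Cfsg.Agent.H732.VZ (Iso)

universe u

variable {G : Type u} [Group G] [Finite G]

/-- the values of `(m, e)` left by the prime of order `2 v` -/
theorem cases_of_ord {p r v m : ℕ} {e : ℤ} (hr : r.Prime) (hr2 : r ≠ 2) (hv : v ≠ 0)
    (hord : orderOf (p : ZMod r) = 2 * v) (he : e = 1 ∨ e = -1) (hm : m ≤ 2 * v)
    (hd : (r : ℤ) ∣ e * (p : ℤ) ^ m - 1) : (e = 1 ∧ m = 0) ∨ (e = 1 ∧ m = 2 * v) ∨ (e = -1 ∧ m = v) := by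
  have : Fact r.Prime := ⟨hr⟩
  have hz : (e : ZMod r) * (p : ZMod r) ^ m = 1 := by
    have h1 := (ZMod.intCast_zmod_eq_zero_iff_dvd (e * (p : ℤ) ^ m - 1) r).2 (by exact_mod_cast hd)
    push_cast at h1
    exact sub_eq_zero.1 h1
  have h11 : (1 : ZMod r) ≠ -1 := by
    intro h
    have h2 : ((2 : ℕ) : ZMod r) = 0 := by
      have : (1 : ZMod r) + 1 = 0 := by
        nth_rewrite 1 [h]
        exact neg_add_cancel 1
      rw [← this]
      push_cast
      norm_num
    rw [ZMod.natCast_eq_zero_iff] at h2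
    exact hr2 ((Nat.prime_dvd_prime_iff_eq hr Nat.prime_two).1 h2)
  rcases he with rfl | rfl
  · have h1 : (p : ZMod r) ^ m = 1 := by simpa only [_root_.Int.cast_one, _root_.one_mul] using hz
    have h2 := orderOf_dvd_of_pow_eq_one h1
    rw [hord] at h2
    obtain ⟨k, hk⟩ := h2
    have hk1 : k ≤ 1 := by
      by_contra h
      have : 2 * v * 2 ≤ 2 * v * k := Nat.mul_le_mul_left _ (by omega)
      omega
    interval_cases k
    · exact Or.inl ⟨rfl, by omega⟩
    · exact Or.inr (Or.inl ⟨rfl, by omega⟩)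
  · have h1 : (p : ZMod r) ^ m = -1 := by
      have h3 : -((p : ZMod r) ^ m) = 1 := by simpa using hz
      rw [← h3, neg_neg]
    have h2 : (p : ZMod r) ^ (2 * m) = 1 := by
      rw [mul_comm, pow_mul, h1]
      ring
    have h3 := orderOf_dvd_of_pow_eq_one h2
    rw [hord] at h3
    have h4 : v ∣ m := Nat.dvd_of_mul_dvd_mul_left (by norm_num) h3
    obtain ⟨k, rfl⟩ := h4
    have hk2 : k ≤ 2 := by
      by_contra h
      have : v * 3 ≤ v * k := Nat.mul_le_mul_left _ (by omega)
      omega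
    have h5 : (p : ZMod r) ^ (2 * v) = 1 := by rw [← hord]; exact pow_orderOf_eq_one _
    interval_cases k
    · exfalso
      rw [mul_zero, pow_zero] at h1
      exact h11 h1
    · exact Or.inr (Or.inr ⟨rfl, by ring⟩)
    · exfalso
      rw [mul_comm v 2, h5] at h1
      exact h11 h1

/-- **The case `e = -1`, `m = v`**: the character vanishes on `s` and on `s⁻¹`. -/
theorem false_of_cusp {p : ℕ} [hp : Fact p.Prime] (hTI : H210.Loc.TI p G) (P : Sylow p G) (hpG : p ∣ Nat.card G)
    (hK : Kaw p G) {s : G} (hs1 : ∀ u ∈ (P : Subgroup G), s⁻¹ * u * s ∈ (P : Subgroup G))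
    (hs2 : ∀ u ∈ (P : Subgroup G), u * s = s * u → u = 1) (hs3 : ¬ IsConj s s⁻¹) {χ : G → ℂ}
    (hχ : IsIrrCharacter G χ) (h0 : OneZero χ)
    (hsum : ∑ᶠ u ∈ pSet p G, χ u = ((-1 : ℤ) : ℂ) * (p : ℂ) ^ (Nat.card G).factorization p * χ 1) : False := by
  classical
  have := Fintype.ofFinite G
  have := Fintype.ofFinite (P : Subgroup G)
  have hch := Core.isIrr_isCharacter hχ
  have h1 := sum_sylow_eq_zero hTI P hpG hK.card (f := χ) (fun g x => Core.isIrr_isClassFunction hχ x g) (by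
    rw [hsum]; push_cast; ring)
  have h2 := zero_of_sum hch (P : Subgroup G) h1 hs1 hs2
  have h3 : χ s⁻¹ = 0 := by
    have h4 : (⟨χ, hχ⟩ : IrrCharacter G).1 s⁻¹ = (starRingEnd ℂ) (χ s) := by
      exact Core.isCharacter_apply_inv hch s
    rw [h2, map_zero] at h4
    exact h4
  obtain ⟨x, -, hx⟩ := h0
  exact hs3 ((hx s h2).symm.trans (hx s⁻¹ h3))

/-- **Groups of rank one.** -/
theorem cong_of_rank_one {p r v : ℕ} (hp : p.Prime) (hv : (Nat.card G).factorization p = v) (hv0 : v ≠ 0)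
    (hK : Kaw p G) (hTI : H210.Loc.TI p G) (hr2 : r ≠ 2) (hord : orderOf (p : ZMod r) = 2 * v) (hIso : Iso G p r)
    (P : Subgroup G) (hP : Nat.card P = p ^ v) {s : G} (hs1 : ∀ u ∈ P, s⁻¹ * u * s ∈ P)
    (hs2 : ∀ u ∈ P, u * s = s * u → u = 1) (hs3 : ¬ IsConj s s⁻¹) : Cong p (p ^ (2 * v) - 1) 0 G := by
  have : Fact p.Prime := ⟨hp⟩
  have hpG : p ∣ Nat.card G := by
    by_contra h
    rw [Nat.factorization_eq_zero_of_not_dvd h] at hv
    exact hv0 hv.symm
  intro χ hχ h0 m e he hsum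
  have hm := (hK.top hp hχ he hsum).1
  rw [hv] at hm
  have hd := H448.Van.cong_of_iso hp hIso χ hχ h0 m e he hsum
  rw [pow_zero] at hd
  rw [pow_zero]
  have h1 : 1 ≤ p ^ (2 * v) := Nat.one_le_pow _ _ hp.pos
  rcases cases_of_ord hIso.prime hr2 hv0 hord he hm hd with ⟨rfl, rfl⟩ | ⟨rfl, rfl⟩ | ⟨rfl, rfl⟩
  · simp only [_root_.pow_zero, _root_.mul_one, _root_.sub_self, _root_.dvd_zero]
  · rw [one_mul]
    push_cast [h1]
    exact dvd_rfl
  · exfalso
    obtain ⟨Q, hQ⟩ : ∃ Q : Sylow p G, (Q : Subgroup G) = P := by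
      have h2 : IsPGroup p P := IsPGroup.of_card hP
      obtain ⟨Q, hQ⟩ := h2.exists_le_sylow
      refine ⟨Q, (Subgroup.eq_of_le_of_card_ge hQ ?_).symm⟩
      rw [hP, Q.card_eq_multiplicity, hv]
    subst hQ
    exact false_of_cusp hTI Q hpG hK hs1 hs2 hs3 hχ h0 (by rw [hsum, hv])

/-- **Closing**: with `p^(2v) - 1 ∤ |G|`. -/
theorem none_of_rank_one {p r v : ℕ} (hs : IsSimpleGroup G) (hp : p.Prime) (hv : (Nat.card G).factorization p = v)
    (hv0 : v ≠ 0) (hv4 : 4 < p ^ (2 * v)) (hK : Kaw p G) (h0 : ¬ p ^ (2 * v) - 1 ∣ Nat.card G)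
    (hTI : H210.Loc.TI p G) (hr2 : r ≠ 2) (hord : orderOf (p : ZMod r) = 2 * v) (hIso : Iso G p r)
    (P : Subgroup G) (hP : Nat.card P = p ^ v) {s : G} (hs1 : ∀ u ∈ P, s⁻¹ * u * s ∈ P)
    (hs2 : ∀ u ∈ P, u * s = s * u → u = 1) (hs3 : ¬ IsConj s s⁻¹) {χ : G → ℂ} (hχ : IsIrrCharacter G χ) :
    ¬ OneZero χ := by
  refine none_of_cong hs hp hv hv0 hK h0 (fun m e he hm0 hm h => ?_) hχ
  have h1 := h _ _ (cong_of_rank_one hp hv hv0 hK hTI hr2 hord hIso P hP hs1 hs2 hs3)
  rw [pow_zero] at h1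
  have hp2 := hp.two_le
  have h2 : (p : ℤ) ^ m * 2 ≤ (p : ℤ) ^ (2 * v) := by
    have h3 : p ^ m * 2 ≤ p ^ (2 * v) := by
      calc p ^ m * 2 ≤ p ^ m * p := Nat.mul_le_mul_left _ hp2
        _ = p ^ (m + 1) := (pow_succ p m).symm
        _ ≤ _ := Nat.pow_le_pow_right hp.pos (by omega)
    exact_mod_cast h3
  have h3 : (2 : ℤ) ≤ (p : ℤ) ^ m := by
    have : 2 ^ 1 ≤ p ^ m := (Nat.pow_le_pow_right (by norm_num) hm0).trans (Nat.pow_le_pow_left hp2 m)
    exact_mod_cast this
  have h4 : ((p ^ (2 * v) - 1 : ℕ) : ℤ) = (p : ℤ) ^ (2 * v) - 1 := by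
    have : 1 ≤ p ^ (2 * v) := Nat.one_le_pow _ _ hp.pos
    push_cast [this]
    rfl
  rw [h4] at h1
  rcases he with rfl | rfl
  · have h5 := Int.le_of_dvd (by linarith only [h3]) h1
    linarith only [hv4, h2, h5]
  · have h6 : (p : ℤ) ^ (2 * v) - 1 ∣ (p : ℤ) ^ m + 1 := by
      rw [← dvd_neg]
      have h7 : -((p : ℤ) ^ m + 1) = -1 * (p : ℤ) ^ m - 1 := by ring
      rw [h7]
      exact h1
    have h5 := Int.le_of_dvd (by linarith only [h3]) h6
    have h7 : (4 : ℤ) < (p : ℤ) ^ (2 * v) := by exact_mod_cast hv4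
    linarith only [hv4, h2, h5]

end Cfsg.Agent.H279.OZ
end

-- part: H279/OZ/U3Iso
section
/-!
# S4842: the isolated primes of `PSU(3,q)` (helper279)

`iso_psu3` : a prime `r ≥ 5` dividing `q² - q + 1` is isolated.
-/

set_option autoImplicit false
set_option linter.unusedSectionVars false

open Subgroup

namespace Cfsg.Agent.H279.OZ

open Cfsg Cfsg.Geo Matrix Cfsg.Agent.H907 Cfsg.Agent.H918 Cfsg.Agent.H452.Singer
open Cfsg.Agent.H732.VZ (Iso central_sylow)
open scoped MatrixGroups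

variable {F : Type*} [Field F] [Fintype F] {q : ℕ}

theorem cent_psu3 (hF : Fintype.card F = q ^ 2) {r : ℕ} [hr : Fact r.Prime] (hr5 : 5 ≤ r)
    (hd : r ∣ q ^ 2 - q + 1) {y : Cfsg.PSU 3 F q} (hy : orderOf y = r) :
    (∀ a b : Cfsg.PSU 3 F q, Commute y a → Commute y b → Commute a b) ∧
      ∀ a : Cfsg.PSU 3 F q, Commute y a → a ^ (q ^ 2 - q + 1) = 1 := by
  classical
  have ho := ord_three hF hr5 hd
  set! Z := Subgroup.center (Cfsg.SU 3 F q) with hZ
  let π : Cfsg.SU 3 F q →* Cfsg.PSU 3 F q := QuotientGroup.mk' Z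
  have hπ : Function.Surjective π := QuotientGroup.mk'_surjective _
  have hker : ∀ g, π g = 1 ↔ g ∈ Z := fun g => QuotientGroup.eq_one_iff g
  have hZc : Nat.card Z = Nat.gcd 3 (q + 1) := Cfsg.Agent.S0279.result hF 3 le_rfl
  have hZ3 : ∀ z ∈ Z, z ^ 3 = 1 := by
    intro z hz
    have h2 : (⟨z, hz⟩ : Z) ^ 3 = 1 := by
      apply orderOf_dvd_iff_pow_eq_one.1
      refine (_root_.orderOf_dvd_natCard _).trans ?_
      rw [hZc]
      exact Nat.gcd_dvd_left 3 (q + 1)
    exact congrArg Subtype.val h2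
  have hr3 : Nat.Coprime 3 r := by
    rw [Nat.coprime_primes Nat.prime_three hr.out]
    omega
  -- the lift
  obtain ⟨A, hAy, hAr⟩ : ∃ A : Cfsg.SU 3 F q, π A = y ∧ A ^ r = 1 := by
    obtain ⟨A₀, hA₀⟩ := hπ y
    obtain ⟨t, -, ht⟩ := Nat.exists_mul_mod_eq_one_of_coprime hr3 hr.out.one_lt
    refine ⟨A₀ ^ (3 * t), ?_, ?_⟩
    · rw [map_pow, hA₀]
      have hyr : y ^ r = 1 := by rw [← hy, pow_orderOf_eq_one]
      rw [← Nat.div_add_mod (3 * t) r, ht, pow_add, pow_mul, hyr, one_pow, one_mul, pow_one]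
    · have h1 : A₀ ^ r ∈ Z := by
        rw [← hker, map_pow, hA₀, ← hy, pow_orderOf_eq_one]
      have h2 := hZ3 _ h1
      calc (A₀ ^ (3 * t)) ^ r = ((A₀ ^ r) ^ 3) ^ t := by
            rw [← pow_mul, ← pow_mul, ← pow_mul]; congr 1; ring
        _ = 1 := by rw [h2, one_pow]
  have hA1 : A ≠ 1 := by
    rintro rfl
    rw [map_one] at hAy
    rw [← hAy, orderOf_one] at hy
    exact hr.out.one_lt.ne hy
  have hsing : ∀ z ∈ Z, z ^ r = 1 → z = 1 := by
    intro z hz hzr
    have h1 := orderOf_dvd_of_pow_eq_one (hZ3 z hz)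
    have h2 := orderOf_dvd_of_pow_eq_one hzr
    have h3 : orderOf z ∣ 1 := by
      rw [← hr3]
      exact Nat.dvd_gcd h1 h2
    exact orderOf_eq_one_iff.1 (Nat.dvd_one.1 h3)
  -- lifting the centraliser
  have hlift : ∀ B : Cfsg.SU 3 F q, Commute y (π B) → B * A = A * B := by
    intro B hB
    have h1 : B * A * B⁻¹ * A⁻¹ ∈ Z := by
      rw [← hker, map_mul, map_mul, map_mul, map_inv, map_inv, hAy, ← hB.eq, mul_inv_cancel_right, mul_inv_cancel]
    obtain ⟨z, hz⟩ : ∃ z, z = B * A * B⁻¹ * A⁻¹ := ⟨_, rfl⟩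
    rw [← hz] at h1
    have h2 : B * A * B⁻¹ = z * A := by rw [hz, inv_mul_cancel_right]
    have h3 : (B * A * B⁻¹) ^ r = 1 := by
      have : (B * A * B⁻¹) ^ r = B * A ^ r * B⁻¹ := by
        rw [← MulAut.conj_apply, ← map_pow, MulAut.conj_apply]
      rw [this, hAr, mul_one, mul_inv_cancel]
    have h4 : Commute z A := (Subgroup.mem_center_iff.1 h1 A).symm
    rw [h2, h4.mul_pow, hAr, mul_one] at h3
    have h6 := hsing z h1 h3
    rw [h6, one_mul] at h2
    exact mul_inv_eq_iff_eq_mul.1 h2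
  -- the images in `GL`
  set! x : GL (Fin 3) F := suHom 3 F q A with hx
  have hxS : x ∈ SUg 3 F q := suHom_mem A
  have hxr : x ^ r = 1 := by rw [hx, ← map_pow, hAr, map_one]
  have hx1 : x ≠ 1 := fun h => hA1 (suHom_injective (by rw [map_one]; exact h))
  have hX : (x : Matrix (Fin 3) (Fin 3) F) ^ r = 1 := by
    rw [← Units.val_pow_eq_pow_val, hxr, Units.val_one]
  have hX1 : (x : Matrix (Fin 3) (Fin 3) F) ≠ 1 := fun h => hx1 (Units.ext h)
  have hK := adjoin_field ho hX hX1
  have hadj := adjoin_adj (r := r) hF hxS.1 hxr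
  have hXK : (x : Matrix (Fin 3) (Fin 3) F) ∈ Algebra.adjoin F {(x : Matrix (Fin 3) (Fin 3) F)} :=
    Algebra.subset_adjoin (Set.mem_singleton _)
  have hmem : ∀ B : Cfsg.SU 3 F q, Commute y (π B) → suHom 3 F q B ∈ KU hK := by
    intro B hB
    have hgc : suHom 3 F q B * x = x * suHom 3 F q B := by
      rw [hx, ← map_mul, ← map_mul, hlift B hB]
    show ((suHom 3 F q B : GL (Fin 3) F) : Matrix (Fin 3) (Fin 3) F) ∈ Algebra.adjoin F {(x : Matrix (Fin 3) (Fin 3) F)}
    refine Cfsg.Agent.H907.SU3.mem_of_comm hK hXK (not_scalar ho hX hX1) ?_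
    have := congrArg (fun z : GL (Fin 3) F => (z : Matrix (Fin 3) (Fin 3) F)) hgc
    simpa only [_root_.Units.val_mul] using this
  have hcyc := isCyclic_KU hK
  constructor
  · intro a b ha hb
    obtain ⟨A', rfl⟩ := hπ a
    obtain ⟨B', rfl⟩ := hπ b
    have h1 : suHom 3 F q A' * suHom 3 F q B' = suHom 3 F q B' * suHom 3 F q A' := by
      have := (IsCyclic.commGroup (α := KU hK)).mul_comm ⟨_, hmem A' ha⟩ ⟨_, hmem B' hb⟩
      exact congrArg Subtype.val this
    have h2 : A' * B' = B' * A' := suHom_injective (by rw [map_mul, map_mul, h1])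
    show π A' * π B' = π B' * π A'
    rw [← map_mul, h2, map_mul]
  · intro a ha
    obtain ⟨A', rfl⟩ := hπ a
    have h1 := pow_eq_one_of_mem_SU hF hK hadj (hmem A' ha) (suHom_mem A')
    have h2 : A' ^ (q ^ 2 - q + 1) = 1 := suHom_injective (by rw [map_pow, h1, map_one])
    rw [← map_pow, h2, map_one]

/-- **The isolated primes of `PSU(3,q)`** -/
theorem iso_psu3 (hF : Fintype.card F = q ^ 2) {r : ℕ} (hr : r.Prime) (hr5 : 5 ≤ r)
    (hd : r ∣ q ^ 2 - q + 1) {p : ℕ} (hp : p.Prime) (hpq : p ∣ q) (hdG : r ∣ Nat.card (Cfsg.PSU 3 F q)) :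
    Iso (Cfsg.PSU 3 F q) p r := by
  have : Fact r.Prime := ⟨hr⟩
  have hfin : Finite (Cfsg.PSU 3 F q) := Quotient.finite _
  have hq2 : q ≤ q ^ 2 := Nat.le_self_pow (by norm_num) q
  have hcop : ∀ {l : ℕ}, l.Prime → l ∣ q → ¬ l ∣ q ^ 2 - q + 1 := by
    intro l hl hlq hld
    have h1 : l ∣ q ^ 2 - q := Nat.dvd_sub (hlq.trans (dvd_pow_self q (by norm_num))) hlq
    exact hl.one_lt.ne' (Nat.dvd_one.1 ((Nat.dvd_add_right h1).1 hld))
  have hrp : r ≠ p := by
    rintro rfl
    exact hcop hr hpq hd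
  obtain ⟨z, hz⟩ := exists_prime_orderOf_dvd_card' (G := Cfsg.PSU 3 F q) r hdG
  have hpz : IsPGroup r (zpowers z) := IsPGroup.of_card (n := 1) (by rw [Nat.card_zpowers, hz, pow_one])
  obtain ⟨R, hR⟩ := hpz.exists_le_sylow
  have hzR : z ∈ (R : Subgroup (Cfsg.PSU 3 F q)) := hR (mem_zpowers z)
  have hcyc := Cfsg.Agent.H724.UThree.cyc_sylow hF hr5 hd R
  obtain ⟨hab, hexp⟩ := cent_psu3 hF hr5 hd hz
  have hRz : ∀ t ∈ (R : Subgroup (Cfsg.PSU 3 F q)), Commute z t := by
    intro t ht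
    have := (IsCyclic.commGroup (α := (R : Subgroup (Cfsg.PSU 3 F q)))).mul_comm ⟨z, hzR⟩ ⟨t, ht⟩
    exact congrArg Subtype.val this
  obtain ⟨h1, h2⟩ := central_sylow R hcyc hz hzR (fun y hy t ht => hab t y (hRz t ht) hy)
  refine ⟨hr, hrp, z, hz, h1, fun y hy _ => h2 y hy, ?_, Or.inr ⟨r - 1, ?_, ?_⟩⟩
  · rintro v hv ⟨k, hk⟩
    have h3 : orderOf v ∣ q ^ 2 - q + 1 := orderOf_dvd_of_pow_eq_one (hexp v hv)
    rw [hk] at h3
    rcases Nat.eq_zero_or_pos k with rfl | hk0
    · rw [pow_zero] at hk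
      exact orderOf_eq_one_iff.1 hk
    · exact absurd ((dvd_pow_self p hk0.ne').trans h3) (hcop hp hpq)
  · intro h3
    have := Nat.le_of_dvd (by omega) h3
    omega
  · intro h3
    obtain ⟨g, hg⟩ := isConj_iff.1 h3
    have h4 : z ^ (r - 1) = z⁻¹ := by
      have h5 : z ^ (r - 1) * z = 1 := by
        rw [← pow_succ, Nat.sub_add_cancel hr.one_lt.le, ← hz, pow_orderOf_eq_one]
      exact eq_inv_of_mul_eq_one_left h5
    rw [h4] at hg
    have hgN : g ∈ normalizer ((zpowers z : Subgroup (Cfsg.PSU 3 F q)) : Set (Cfsg.PSU 3 F q)) := by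
      refine mem_normalizer_fintype fun a ha => ?_
      obtain ⟨k, rfl⟩ := mem_zpowers_iff.1 ha
      rw [← conj_zpow, hg]
      exact zpow_mem (inv_mem (mem_zpowers z)) k
    have h5 := (singer hF hr5 hd hz).2 g hgN
    have h6 : g * z⁻¹ * g⁻¹ = z := by
      have : g * z⁻¹ * g⁻¹ = (g * z * g⁻¹)⁻¹ := by group
      rw [this, hg, inv_inv]
    have h7 : g ^ 3 * z * (g ^ 3)⁻¹ = z⁻¹ := by
      have : g ^ 3 * z * (g ^ 3)⁻¹ = g * (g * (g * z * g⁻¹) * g⁻¹) * g⁻¹ := by
        rw [pow_three]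
        simp only [_root_.mul_inv_rev, mul_assoc]
      rw [this, hg, h6, hg]
    rw [h5, mul_inv_cancel_right] at h7
    have h8 : z ^ 2 = 1 := by rw [sq]; nth_rewrite 2 [h7]; exact mul_inv_cancel z
    have h9 := Nat.le_of_dvd (by norm_num) (orderOf_dvd_of_pow_eq_one h8)
    omega

end Cfsg.Agent.H279.OZ
end

-- part: H279/OZ/U3Reg
section
/-!
# S4842: a regular element of the split torus of `PSU(3,q)` (helper279)

`exists_reg` : an element of the torus of `S σ` without fixed points on the unipotent radical and not conjugate to its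
inverse.
-/

set_option autoImplicit false
set_option linter.unusedSectionVars false
set_option linter.unusedSimpArgs false

namespace Cfsg.Agent.H279.OZ

open Matrix Cfsg Cfsg.Agent.LieRecognition.PSUThreeSylow Cfsg.Agent.LieClassical.HermBasic
open Cfsg.Agent.H664.R1 Cfsg.Agent.H664.R1.U3

variable {F : Type*} [Field F] [Fintype F] {q : ℕ} {σ : F →+* F} [hσ : Fact (∀ x, σ (σ x) = x)]

theorem exists_gen (hF : Fintype.card F = q ^ 2) : ∃ t : F, t ≠ 0 ∧ ∀ k : ℕ, t ^ k = 1 → (q + 1) * (q - 1) ∣ k := by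
  obtain ⟨g, hg⟩ := IsCyclic.exists_generator (α := Fˣ)
  have ho : orderOf g = (q + 1) * (q - 1) := by
    rw [orderOf_eq_card_of_forall_mem_zpowers hg, card_units_eq hF]
  refine ⟨g, g.ne_zero, fun k hk => ?_⟩
  rw [← ho]
  apply orderOf_dvd_of_pow_eq_one
  apply Units.ext
  rw [Units.val_pow_eq_pow_val, hk, Units.val_one]

theorem exists_reg (hF : Fintype.card F = q ^ 2) (hq : 3 ≤ q) (hs : ∀ x, σ x = x ^ q) :
    ∃ s : S σ, (∀ u ∈ (spS σ).U, s⁻¹ * u * s ∈ (spS σ).U) ∧ (∀ u ∈ (spS σ).U, u * s = s * u → u = 1) ∧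
      ¬ IsConj s s⁻¹ := by
  obtain ⟨t, ht, hord⟩ := exists_gen (F := F) hF
  have h0 : σ t ≠ 0 := (map_ne_zero σ).2 ht
  have hrel := dgS_rel (σ := σ) ht
  have hmem : pr σ (dg t (σ t / t) ht hrel) ∈ S σ := ⟨_, dgS_mem t ht hrel, rfl⟩
  have hT : (⟨_, hmem⟩ : S σ) ∈ (spS σ).T := ⟨_, dg_mem _ _ _ _, rfl⟩
  have hN : 4 ≤ q + 1 := by omega
  have hN1 : 2 ≤ q - 1 := by omega
  have hN8 : 8 ≤ (q + 1) * (q - 1) := by nlinarith only [hq, hN1]
  refine ⟨⟨_, hmem⟩, fun u hu => (spS σ).nU' ((spS σ).TB hT) hu, ?_, ?_⟩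
  · rintro ⟨u, huS⟩ hu hcomm
    have hu' : u ∈ (Un σ).map (pr σ) := hu
    obtain ⟨u, hu2, rfl⟩ := hu'
    obtain ⟨a, b, h, rfl⟩ := exists_un hu2
    have h1 : pr σ (un a b h) * pr σ (dg t (σ t / t) ht hrel) = pr σ (dg t (σ t / t) ht hrel) * pr σ (un a b h) :=
      congrArg Subtype.val hcomm
    have h2 : pr σ (dg t (σ t / t) ht hrel * un a b h * (dg t (σ t / t) ht hrel)⁻¹) = pr σ (un a b h) := by
      rw [map_mul, map_mul, map_inv, ← h1, mul_inv_cancel_right]
    rw [dg_conj_un t (σ t / t) ht hrel a b h (conj_rel hrel h)] at h2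
    have h3 : un a b h = un (t * σ (σ t / t) * a) (t * σ t * b) (conj_rel hrel h) := by
      have h4 := (QuotientGroup.eq).1 h2
      have h5 := Un_disj ((Un σ).mul_mem ((Un σ).inv_mem (un_mem _ _ _)) (un_mem _ _ _)) h4
      exact (inv_mul_eq_one.1 h5).symm
    have h4 := congrArg (mat σ) h3
    rw [mat_un, mat_un] at h4
    have ha : a = t * σ (σ t / t) * a := by simpa only [_root_.map_div₀, _root_.Fin.isValue, _root_.Matrix.of_apply, _root_.Matrix.cons_val', _root_.Matrix.cons_val_one, _root_.Matrix.cons_val_zero, _root_.Matrix.cons_val_fin_one, _root_.map_mul] using congrFun (congrFun h4 0) 1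
    have hb : b = t * σ t * b := by simpa only [_root_.Fin.isValue, _root_.Matrix.of_apply, _root_.Matrix.cons_val', _root_.Matrix.cons_val, _root_.Matrix.cons_val_fin_one, _root_.Matrix.cons_val_zero, _root_.map_div₀, _root_.map_mul] using congrFun (congrFun h4 0) 2
    have ha0 : a = 0 := by
      by_contra hne
      have h5 : t * σ (σ t / t) = 1 := by
        have := mul_right_cancel₀ hne (show (1 : F) * a = t * σ (σ t / t) * a by rw [one_mul]; exact ha)
        exact this.symm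
      rw [map_div₀, hσ.out] at h5
      have h6 : t * t = σ t := by
        field_simp at h5
        linear_combination h5
      rw [hs] at h6
      have h7 : t ^ (q - 2) = 1 := by
        have h8 : t ^ (q - 2) * (t * t) = 1 * (t * t) := by
          rw [one_mul]
          conv_rhs => rw [h6]
          rw [← sq, ← pow_add]
          congr 1
          omega
        exact mul_right_cancel₀ (mul_ne_zero ht ht) h8
      have h8 := Nat.le_of_dvd (by omega) (hord _ h7)
      have h9 : q + 1 ≤ (q + 1) * (q - 1) := Nat.le_mul_of_pos_right _ (by omega)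
      omega
    have hb0 : b = 0 := by
      by_contra hne
      have h5 : t * σ t = 1 := by
        have := mul_right_cancel₀ hne (show (1 : F) * b = t * σ t * b by rw [one_mul]; exact hb)
        exact this.symm
      rw [hs, ← pow_succ'] at h5
      have h8 := Nat.le_of_dvd (by omega) (hord _ h5)
      nlinarith only [hN1, h8]
    subst ha0
    subst hb0
    apply Subtype.ext
    show pr σ (un 0 0 h) = 1
    have : un 0 0 h = (1 : GUJ σ) := by
      apply mat_inj
      rw [mat_un, mat_one]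
      ext i j
      (revert i j; simp only [_root_.Fin.forall_fin_succ, _root_.map_zero, _root_.neg_zero, _root_.Matrix.of_apply, _root_.Matrix.cons_val', _root_.Matrix.cons_val_fin_one, Fin.isValue, _root_.Matrix.cons_val_zero, _root_.Matrix.cons_val_succ, _root_.IsEmpty.forall_iff, _root_.and_true, _root_.Matrix.one_apply_eq, Nat.reduceAdd, _root_.Fin.succ_zero_eq_one, _root_.ne_eq, _root_.zero_ne_one, _root_.not_false_eq_true, _root_.Matrix.one_apply_ne, _root_.Fin.succ_one_eq_two, Fin.reduceEq, _root_.and_self, _root_.Fin.succ_ne_zero, _root_.true_and])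
    rw [this, map_one]
  · intro hconj
    obtain ⟨⟨g, hgS⟩, hg⟩ := isConj_iff.1 hconj
    have h1 : g * pr σ (dg t (σ t / t) ht hrel) * g⁻¹ = (pr σ (dg t (σ t / t) ht hrel))⁻¹ := congrArg Subtype.val hg
    obtain ⟨g, rfl⟩ := QuotientGroup.mk'_surjective (Sc σ) g
    set! d := dg t (σ t / t) ht hrel with hd; rewrite [← hd] at h1 hmem
    have h2 : pr σ g = pr σ (d * g * d) := by
      rw [map_mul, map_mul]
      have h3 : pr σ g * pr σ d = (pr σ d)⁻¹ * pr σ g := mul_inv_eq_iff_eq_mul.1 h1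
      rw [mul_assoc, h3, mul_inv_cancel_left]
    have h3 : g⁻¹ * (d * g * d) ∈ Sc σ := (QuotientGroup.eq).1 h2
    obtain ⟨c, hc⟩ : ∃ c, c = g⁻¹ * (d * g * d) := ⟨_, rfl⟩
    rw [← hc] at h3
    have h4 : g * c = d * g * d := by rw [hc, mul_inv_cancel_left]
    obtain ⟨h3T, h31, h32⟩ := h3
    obtain ⟨κ, κ', hκ, hκ', rfl⟩ := exists_dg h3T
    rw [mat_dg] at h31 h32
    have e1 : κ = κ' := by simpa using h31
    have e2 : κ' = (σ κ)⁻¹ := by simpa using h32
    have h5 := congrArg (mat σ) h4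
    rw [mat_mul, mat_mul, mat_mul, hd, mat_dg, mat_dg, ← e2, ← e1] at h5
    set! G := mat σ g with hG; rewrite [← hG] at h5
    have hκ3 : κ ^ 3 = 1 := by
      have h6 := congrArg Matrix.det h5
      rw [Matrix.det_mul, Matrix.det_mul, Matrix.det_mul] at h6
      have hdet : G.det ≠ 0 := by
        have := det_norm (mat_spec g)
        exact left_ne_zero_of_mul_eq_one this
      have e3 : (!![t, 0, 0; 0, σ t / t, 0; 0, 0, (σ t)⁻¹] : Matrix (Fin 3) (Fin 3) F).det = 1 := by
        rw [Matrix.det_fin_three]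
        simp only [_root_.Fin.isValue, _root_.Matrix.of_apply, _root_.Matrix.cons_val', _root_.Matrix.cons_val_zero, _root_.Matrix.cons_val_fin_one, _root_.Matrix.cons_val_one, _root_.Matrix.cons_val, _root_.MulZeroClass.mul_zero, _root_.sub_zero, _root_.MulZeroClass.zero_mul, _root_.add_zero]
        field_simp
      have e4 : (!![κ, 0, 0; 0, κ, 0; 0, 0, κ] : Matrix (Fin 3) (Fin 3) F).det = κ ^ 3 := by
        rw [Matrix.det_fin_three]
        simp
        ring
      rw [e3, e4, one_mul, mul_one] at h6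
      exact mul_left_cancel₀ hdet (by rw [h6, mul_one])
    -- a nonzero entry in the first column
    have hcol : ∃ i, G i 0 ≠ 0 := by
      by_contra hcon
      push Not at hcon
      have hdet : G.det ≠ 0 := by
        have := det_norm (mat_spec g)
        exact left_ne_zero_of_mul_eq_one this
      exact hdet (Matrix.det_eq_zero_of_column_eq_zero 0 hcon)
    obtain ⟨i, hi⟩ := hcol
    have d1 : (!![t, 0, 0; 0, σ t / t, 0; 0, 0, (σ t)⁻¹] : Matrix (Fin 3) (Fin 3) F) =
        Matrix.diagonal ![t, σ t / t, (σ t)⁻¹] := by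
      ext i j
      (revert i j; simp only [_root_.Fin.forall_fin_succ, _root_.Matrix.of_apply, _root_.Matrix.cons_val', _root_.Matrix.cons_val_fin_one, _root_.Nat.succ_eq_add_one, Nat.reduceAdd, Fin.isValue, _root_.Matrix.cons_val_zero, _root_.Matrix.cons_val_succ, _root_.Fin.succ_zero_eq_one, _root_.Fin.succ_one_eq_two, _root_.IsEmpty.forall_iff, _root_.and_true, _root_.Matrix.diagonal_apply_eq, _root_.ne_eq, _root_.zero_ne_one, _root_.not_false_eq_true, _root_.Matrix.diagonal_apply_ne, Fin.reduceEq, _root_.and_self, _root_.Fin.succ_ne_zero, _root_.Matrix.cons_val_one, _root_.true_and, _root_.Matrix.cons_val])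
    have d2 : (!![κ, 0, 0; 0, κ, 0; 0, 0, κ] : Matrix (Fin 3) (Fin 3) F) = Matrix.diagonal fun _ => κ := by
      ext i j
      (revert i j; simp only [_root_.Fin.forall_fin_succ, _root_.Matrix.of_apply, _root_.Matrix.cons_val', _root_.Matrix.cons_val_fin_one, Fin.isValue, _root_.Matrix.cons_val_zero, _root_.Matrix.cons_val_succ, _root_.Fin.succ_zero_eq_one, _root_.Fin.succ_one_eq_two, _root_.IsEmpty.forall_iff, _root_.and_true, _root_.Matrix.diagonal_apply_eq, _root_.ne_eq, _root_.zero_ne_one, _root_.not_false_eq_true, _root_.Matrix.diagonal_apply_ne, Fin.reduceEq, _root_.and_self, _root_.Fin.succ_ne_zero, _root_.true_and])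
    rw [d1, d2] at h5
    have h7 := congrFun (congrFun h5 i) 0
    rw [Matrix.mul_diagonal, Matrix.mul_diagonal, Matrix.diagonal_mul] at h7
    have hkey : ∃ m : F, t * m = κ ∧ (m = t ∨ m = σ t / t ∨ m = (σ t)⁻¹) := by
      refine ⟨![t, σ t / t, (σ t)⁻¹] i, ?_, ?_⟩
      · apply mul_right_cancel₀ hi
        have e0 : (![t, σ t / t, (σ t)⁻¹] : Fin 3 → F) 0 = t := rfl
        rw [e0] at h7
        linear_combination -h7
      · have : i = 0 ∨ i = 1 ∨ i = 2 := by omega
        rcases this with rfl | rfl | rfl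
        · exact Or.inl rfl
        · exact Or.inr (Or.inl rfl)
        · exact Or.inr (Or.inr rfl)
    obtain ⟨m, hm, hm'⟩ := hkey
    rcases hm' with rfl | rfl | rfl
    · have h8 : m ^ 6 = 1 := by
        rw [← hκ3, ← hm]; ring
      have h9 := Nat.le_of_dvd (by norm_num) (hord _ h8)
      omega
    · have h8 : σ (t ^ 3) = 1 := by
        rw [map_pow]
        have : t * (σ t / t) = σ t := by field_simp
        rw [← this, hm, hκ3]
      have h9 : t ^ 3 = 1 := by
        apply σ.injective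
        rw [h8, map_one]
      have h10 := Nat.le_of_dvd (by norm_num) (hord _ h9)
      omega
    · have h8 : t ^ 3 = σ t ^ 3 := by
        have : t = κ * σ t := by rw [← hm]; field_simp
        conv_lhs => rw [this]
        rw [mul_pow, hκ3, one_mul]
      rw [hs, ← pow_mul] at h8
      have h9 : t ^ (3 * (q - 1)) = 1 := by
        have h10 : t ^ (3 * (q - 1)) * t ^ 3 = 1 * t ^ 3 := by
          rw [one_mul]
          conv_rhs => rw [h8]
          rw [← pow_add]
          congr 1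
          omega
        exact mul_right_cancel₀ (pow_ne_zero 3 ht) h10
      have h10 : q + 1 ∣ 3 := Nat.dvd_of_mul_dvd_mul_right (by omega) (hord _ h9)
      have := Nat.le_of_dvd (by norm_num) h10
      omega

end Cfsg.Agent.H279.OZ
end

-- part: H279/OZ/U3
section
/-!
# S4842: the row `PSU(3,q)`, `q ≥ 3` (helper279)

`none_psu3` : no irreducible character of `PSU(3,q)` vanishes on exactly one class.
-/

set_option autoImplicit false

namespace Cfsg.Agent.H279.OZ

open Cfsg Cfsg.Agent.Characters Cfsg.Agent.H730.OZ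
open Cfsg.Agent.H732.VZ (Iso)

universe u v

section num

theorem sq_num {q : ℕ} (hq : 1 ≤ q) : (q ^ 2 - q + 1) * (q + 1) = q ^ 3 + 1 := by
  have h1 : q ≤ q ^ 2 := Nat.le_self_pow (by norm_num) q
  zify [h1]
  ring

theorem not_dvd_num {q N : ℕ} (hq : 3 ≤ q) (hN : Nat.gcd 3 (q + 1) * N = q ^ 3 * ((q ^ 2 - 1) * (q ^ 3 + 1))) :
    ¬ q ^ 6 - 1 ∣ N := by
  intro h
  have h1 : q ^ 6 - 1 ∣ q ^ 3 * ((q ^ 2 - 1) * (q ^ 3 + 1)) := by
    rw [← hN]
    exact h.mul_left _
  obtain ⟨x, rfl⟩ : ∃ x, q = x + 1 := ⟨q - 1, by omega⟩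
  have e1 : (x + 1) ^ 6 - 1 = (x * ((x + 1) ^ 3 + 1)) * ((x + 1) ^ 2 + (x + 1) + 1) := by
    have : (x + 1) ^ 6 = (x * ((x + 1) ^ 3 + 1)) * ((x + 1) ^ 2 + (x + 1) + 1) + 1 := by ring
    omega
  have e2 : (x + 1) ^ 2 - 1 = x * (x + 2) := by
    have : (x + 1) ^ 2 = x * (x + 2) + 1 := by ring
    omega
  rw [e1, e2] at h1
  have h2 : (x + 1) ^ 2 + (x + 1) + 1 ∣ (x + 1) ^ 3 * (x + 2) := by
    have hx : 0 < x := by omega
    refine Nat.dvd_of_mul_dvd_mul_left (k := x * ((x + 1) ^ 3 + 1)) (by (clear * - hx; positivity)) ?_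
    convert h1 using 1
    ring
  have h3 : Nat.Coprime ((x + 1) ^ 2 + (x + 1) + 1) (x + 1) := by
    have : (x + 1) ^ 2 + (x + 1) + 1 = 1 + (x + 1) * (x + 2) := by ring
    rw [this, Nat.coprime_add_mul_left_left]
    exact Nat.coprime_one_left _
  have h4 : (x + 1) ^ 2 + (x + 1) + 1 ∣ x + 2 := (h3.pow_right 3).dvd_of_dvd_mul_left h2
  have h5 := Nat.le_of_dvd (by omega) h4
  linarith only [e2, h5]

end num

section

variable {F : Type u} [Field F] [Fintype F] {q : ℕ}

theorem fact_psu3 (hF : Fintype.card F = q ^ 2) {p a : ℕ} (hp : p.Prime) (ha : 0 < a) (hq : q = p ^ a) :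
    (Nat.card (PSU 3 F q)).factorization p = 3 * a := by
  have hc := H394.SqPsu3.card_psu3 hF
  have hfin : Finite (PSU 3 F q) := Quotient.finite _
  have hN0 : Nat.card (PSU 3 F q) ≠ 0 := Nat.card_pos.ne'
  have hpq : p ∣ q := by rw [hq]; exact dvd_pow_self p ha.ne'
  have hq1 : 1 < q := by
    rw [hq]
    exact Nat.one_lt_pow ha.ne' hp.one_lt
  have h1 : ¬ p ∣ q + 1 := fun h => hp.one_lt.ne' (Nat.dvd_one.1 ((Nat.dvd_add_right hpq).1 h))
  have h2 : ¬ p ∣ q ^ 3 + 1 := fun h =>
    hp.one_lt.ne' (Nat.dvd_one.1 ((Nat.dvd_add_right (hpq.trans (dvd_pow_self q (by norm_num)))).1 h))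
  have h3 : ¬ p ∣ q ^ 2 - 1 := by
    intro h
    have h4 : 1 ≤ q ^ 2 := Nat.one_le_pow _ _ (by omega)
    have h5 : p ∣ q ^ 2 - (q ^ 2 - 1) := Nat.dvd_sub (hpq.trans (dvd_pow_self q (by norm_num))) h
    rw [Nat.sub_sub_self h4] at h5
    exact hp.one_lt.ne' (Nat.dvd_one.1 h5)
  have h4 : ¬ p ∣ Nat.gcd 3 (q + 1) := fun h => h1 (h.trans (Nat.gcd_dvd_right _ _))
  have hg0 : Nat.gcd 3 (q + 1) ≠ 0 := by
    have : 0 < Nat.gcd 3 (q + 1) := Nat.gcd_pos_of_pos_left _ (by norm_num)
    omega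
  have h5 : (Nat.gcd 3 (q + 1) * Nat.card (PSU 3 F q)).factorization p =
      (q ^ 3 * ((q ^ 2 - 1) * (q ^ 3 + 1))).factorization p := by rw [hc]
  have hq2 : q ^ 2 - 1 ≠ 0 := by
    have : 2 ^ 2 ≤ q ^ 2 := Nat.pow_le_pow_left hq1 2
    omega
  rw [Nat.factorization_mul hg0 hN0, Nat.factorization_mul (by positivity) (mul_ne_zero hq2 (by omega)),
    Nat.factorization_mul hq2 (by omega)] at h5
  simp only [Finsupp.coe_add, Pi.add_apply] at h5
  rw [Nat.factorization_eq_zero_of_not_dvd h4, Nat.factorization_eq_zero_of_not_dvd h3,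
    Nat.factorization_eq_zero_of_not_dvd h2, Nat.factorization_pow, hq, Nat.factorization_pow] at h5
  simp only [Finsupp.coe_smul, Pi.smul_apply, smul_eq_mul] at h5
  rw [hp.factorization_self, mul_one, zero_add, add_zero, add_zero] at h5
  rw [hq]
  exact h5

/-- **`PSU(3,q)`** -/
theorem none_psu3 (hF : Fintype.card F = q ^ 2) (hq3 : 3 ≤ q) {p : ℕ} (hp : p.Prime) (hpq : p ∣ q)
    (hK : Kaw p (PSU 3 F q)) {χ : PSU 3 F q → ℂ} (hχ : IsIrrCharacter (PSU 3 F q) χ) : ¬ OneZero χ := by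
  have hfin : Finite (PSU 3 F q) := Quotient.finite _
  have hs : IsSimpleGroup (PSU 3 F q) := Cfsg.Agent.S0283.result hF 3 le_rfl (fun h => by omega)
  obtain ⟨p', a, hp', hchar, hqa, ha⟩ := LieClassical.HermBasic.exists_prime_pow hF
  obtain rfl : p = p' := (Nat.prime_dvd_prime_iff_eq hp hp').1 (hp.dvd_of_dvd_pow (hqa ▸ hpq))
  have ha0 : 0 < a := by omega
  have hpF : Fact p.Prime := ⟨hp⟩
  have hv := fact_psu3 hF hp ha0 hqa
  have hc := H394.SqPsu3.card_psu3 hF
  -- the prime of order six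
  obtain ⟨r, hr, hrp, hord, hordq, hrl⟩ := H448.Van.exists_prim (p := p) (a := a) (d := 6) hp ha0 (by omega) (by
    rintro ⟨rfl, h⟩
    have : a = 1 := by omega
    rw [this, pow_one] at hqa
    omega)
  have hrF : Fact r.Prime := ⟨hr⟩
  have hr5 : 5 ≤ r := by omega
  rw [← hqa] at hordq
  have hqq : q ≤ q ^ 2 := Nat.le_self_pow (by norm_num) q
  have hz : ((q : ZMod r) ^ 2 - q + 1) = 0 := by
    have h6 : (q : ZMod r) ^ 6 = 1 := by rw [← hordq]; exact pow_orderOf_eq_one _
    have h3 : (q : ZMod r) ^ 3 ≠ 1 := fun h => by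
      have := Nat.le_of_dvd (by norm_num) (orderOf_dvd_of_pow_eq_one h)
      omega
    have h2 : (q : ZMod r) ^ 2 ≠ 1 := fun h => by
      have := Nat.le_of_dvd (by norm_num) (orderOf_dvd_of_pow_eq_one h)
      omega
    have h7 : ((q : ZMod r) ^ 3 - 1) * (((q : ZMod r) + 1) * ((q : ZMod r) ^ 2 - q + 1)) = 0 := by
      linear_combination h6
    rcases mul_eq_zero.1 h7 with h8 | h8
    · exact absurd (sub_eq_zero.1 h8) h3
    rcases mul_eq_zero.1 h8 with h8 | h8
    · exfalso
      apply h2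
      have : (q : ZMod r) = -1 := by linear_combination h8
      rw [this]; ring
    · exact h8
  have hd : r ∣ q ^ 2 - q + 1 := by
    rw [← ZMod.natCast_eq_zero_iff]
    push_cast [Nat.cast_sub hqq]
    exact hz
  have hdG : r ∣ Nat.card (PSU 3 F q) := by
    have h1 : r ∣ Nat.gcd 3 (q + 1) * Nat.card (PSU 3 F q) := by
      rw [hc, ← sq_num (by omega)]
      exact ((hd.mul_right _).mul_left _).mul_left _
    rcases hr.dvd_mul.1 h1 with h2 | h2
    · have := Nat.le_of_dvd (by norm_num) (h2.trans (Nat.gcd_dvd_left _ _))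
      omega
    · exact h2
  have hIso := iso_psu3 hF hr hr5 hd hp hpq hdG
  -- the model
  obtain ⟨σ, hσ, hsσ, ⟨f⟩⟩ := H664.R1.U3.exists_iso hF
  obtain ⟨s, h1, h2, h3⟩ := exists_reg (σ := σ) hF hq3 hsσ
  set! U := (H664.R1.U3.spS σ).U with hU; rewrite [← hU] at h2 h1
  refine none_of_rank_one hs hp hv (by omega) ?_ hK ?_ (H210.Loc.ti_psu3 hF) (r := r) (by omega) (by rw [hord]; ring) hIso
    (U.comap f.toMonoidHom) ?_ (s := f.symm s) ?_ ?_ ?_ hχ
  · calc 4 < 2 ^ 6 := by norm_num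
      _ ≤ p ^ 6 := Nat.pow_le_pow_left hp.two_le 6
      _ ≤ _ := Nat.pow_le_pow_right hp.pos (by omega)
  · have h4 : p ^ (2 * (3 * a)) = q ^ 6 := by
      rw [hqa, ← pow_mul]
      congr 1
      ring
    rw [h4]
    exact not_dvd_num hq3 hc
  · have h4 : Nat.card (U.comap f.toMonoidHom) = Nat.card U :=
      Nat.card_congr (f.toEquiv.subtypeEquiv fun _ => Iff.rfl)
    rw [h4, hU, H664.R1.U3.card_US hF hsσ, hqa, ← pow_mul]
    congr 1
    ring
  · intro u hu
    have h4 := h1 (f u) hu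
    show f ((f.symm s)⁻¹ * u * f.symm s) ∈ U
    rw [map_mul, map_mul, map_inv, f.apply_symm_apply]
    exact h4
  · intro u hu hc
    have h4 : f u * s = s * f u := by
      have := congrArg f hc
      rwa [map_mul, map_mul, f.apply_symm_apply] at this
    have h5 := h2 (f u) hu h4
    exact f.injective (by rw [h5, map_one])
  · intro h4
    apply h3
    obtain ⟨g, hg⟩ := isConj_iff.1 h4
    refine isConj_iff.2 ⟨f g, ?_⟩
    have := congrArg f hg
    rwa [map_mul, map_mul, map_inv, map_inv, f.apply_symm_apply] at this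

end

/-- transport -/
theorem none_congr {G : Type u} {H : Type v} [Group G] [Group H] (e : G ≃* H)
    (h : ∀ χ : H → ℂ, IsIrrCharacter H χ → ¬ OneZero χ) {χ : G → ℂ} (hχ : IsIrrCharacter G χ) : ¬ OneZero χ := by
  rintro ⟨x, hx, hx'⟩
  refine h (fun y => χ (e.symm y)) ?_ ⟨e x, by simpa using hx, fun y hy => ?_⟩
  · exact Core.isIrr_comp e.symm.toMonoidHom e.symm.surjective hχ
  · obtain ⟨g, hg⟩ := isConj_iff.1 (hx' (e.symm y) hy)
    refine isConj_iff.2 ⟨e g, ?_⟩
    rw [← map_mul, ← map_inv, ← map_mul, hg, e.apply_symm_apply]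

/-- **The row `PSU(3,q)`** -/
theorem row_psu3_of {S : Type u} [Group S] [Finite S] {F : Type v} [Field F] [Fintype F] {q : ℕ}
    (hF : Fintype.card F = q ^ 2) (hq3 : 3 ≤ q) (e : S ≃* PSU 3 F q) {p : ℕ} (hp : p.Prime) (hpq : p ∣ q)
    (hK : Kaw p (PSU 3 F q)) : Row S := fun χ hχ h0 =>
  absurd h0 (none_congr e (fun _ h => none_psu3 hF hq3 hp hpq hK h) hχ)

end Cfsg.Agent.H279.OZ
end

-- part: H279/OZ/U3Row
section
/-!
# S4842, row `PSU_3(q)`, `q ≥ 3` (helper279)
-/

set_option autoImplicit false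

open Cfsg Cfsg.Agent.H730.OZ

namespace Cfsg.Agent.H279.OZ

universe u v

/-- **The row `PSU_3(q)`** -/
theorem row_psu3 {S : Type u} [Group S] [Finite S] {F : Type v} [Field F] [Fintype F] {q : ℕ}
    (hF : Fintype.card F = q ^ 2) (hq3 : 3 ≤ q) (e : S ≃* PSU 3 F q) : Row S := by
  obtain ⟨p, hpF⟩ := CharP.exists F
  have := hpF
  have hp : p.Prime := CharP.char_prime_of_ne_zero F (CharP.char_ne_zero_of_finite F p)
  have : Fact p.Prime := ⟨hp⟩
  have hpq : p ∣ q := by
    have h1 : p ∣ Fintype.card F := by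
      obtain ⟨n, -, hn⟩ := FiniteField.card F p
      rw [hn]
      exact dvd_pow_self _ n.pos.ne'
    rw [hF] at h1
    exact hp.dvd_of_dvd_pow h1
  have : Finite (PSU 3 F q) := Finite.of_equiv S e.toEquiv
  exact row_psu3_of hF hq3 e hp hpq (kaw_of_hasRGD hp (Cfsg.Agent.Nodes.WittInst.hasRGD_PSU hF le_rfl))

end Cfsg.Agent.H279.OZ
end

-- part: counting with bit masks
section
/-!
All vectors at once : a number `S` stands for a function `c ↦ a`, the bit `N * a + c` of `S` is set.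
-/

set_option autoImplicit false

namespace Cfsg.Agent.H933.OZ.Cyc

open Cfsg

private noncomputable def slF {α : Type} (x : ℕ) (k : ℕ → α) : α := Nat.rec (k 0) (fun n _ => k (Nat.succ n)) x

private theorem slF_eq {α : Type} (x : ℕ) (k : ℕ → α) : slF x k = k x := by cases x <;> rfl

private noncomputable def slL {α : Type} (l : List ℕ) : (List ℕ → α) → α :=
  List.rec (fun k => k []) (fun a _ ih k => slF a fun a' => ih fun l' => k (a' :: l')) l

private theorem slL_eq {α : Type} : ∀ (l : List ℕ) (k : List ℕ → α), slL l k = k l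
  | [], _ => rfl
  | a :: l, k => (slF_eq a fun a' => slL l fun l' => k (a' :: l')).trans (slL_eq l _)

private noncomputable def slO (n : ℕ) (g : ℕ → ℕ) : ℕ := Nat.rec 0 (fun i r => Nat.lor (g i) r) n

private theorem slO_bit {g : ℕ → ℕ} {i k : ℕ} (h : (g i).testBit k = true) : ∀ n, i < n → (slO n g).testBit k = true
  | n + 1, hn => by
    show (g n ||| slO n g).testBit k = true
    rw [Nat.testBit_or]
    rcases Nat.lt_succ_iff_lt_or_eq.1 hn with h1 | rfl
    · rw [slO_bit h n h1, Bool.or_true]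
    · rw [h, Bool.true_or]

private theorem sl_shift {x i : ℕ} (h : x.testBit i = true) (k : ℕ) : (Nat.shiftLeft x k).testBit (k + i) = true := by
  show (x <<< k).testBit (k + i) = true
  rw [Nat.testBit_shiftLeft, Nat.add_sub_cancel_left, h, decide_eq_true (Nat.le_add_right k i), Bool.and_self]

private theorem sl_all {N c : ℕ} (h : c < N) : (Nat.sub (Nat.pow 2 N) 1).testBit c = true :=
  (Nat.testBit_two_pow_sub_one N c).trans (decide_eq_true h)

private def slP (N S a : ℕ) : ℕ := Nat.land (Nat.shiftRight S (Nat.mul N a)) (Nat.sub (Nat.pow 2 N) 1)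

private def slR (N s c S a : ℕ) : Prop := a < s ∧ S.testBit (N * a + c) = true

private theorem slP_bit {N s c S a : ℕ} (hc : c < N) (h : slR N s c S a) : (slP N S a).testBit c = true := by
  show (S >>> (N * a) &&& _).testBit c = true
  rw [Nat.testBit_and, Nat.testBit_shiftRight, h.2, sl_all hc, Bool.and_self]

private def slC (N a : ℕ) : ℕ := Nat.shiftLeft (Nat.sub (Nat.pow 2 N) 1) (Nat.mul N a)

private noncomputable def sl2 (N s : ℕ) (f : ℕ → ℕ → ℕ) (A B : ℕ) : ℕ :=
  slF A fun A => slF B fun B => slO s fun a => slF (slP N A a) fun x => Bool.rec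
    (slO s fun b => Nat.shiftLeft (Nat.land x (slP N B b)) (Nat.mul N (f a b))) 0 (Nat.beq x 0)

private theorem sl2_spec {N s c A B a b : ℕ} (f : ℕ → ℕ → ℕ) (hc : c < N) (ha : slR N s c A a) (hb : slR N s c B b)
    (hf : f a b < s) : slR N s c (sl2 N s f A B) (f a b) := by
  refine ⟨hf, ?_⟩
  rw [sl2, slF_eq, slF_eq]
  refine slO_bit ?_ s ha.1
  have h1 := slP_bit hc ha
  rw [slF_eq]
  cases h : Nat.beq (slP N A a) 0
  · refine slO_bit (g := fun b => Nat.shiftLeft (Nat.land _ (slP N B b)) (Nat.mul N (f a b))) (sl_shift ?_ _) s hb.1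
    show (slP N A a &&& _).testBit c = true
    rw [Nat.testBit_and, h1, slP_bit hc hb, Bool.and_self]
  · rw [Nat.eq_of_beq_eq_true h, Nat.zero_testBit] at h1
    exact nomatch h1

private noncomputable def slD (N s : ℕ) (O : Ops ℕ) : List ℕ → List ℕ → ℕ
  | a :: l, b :: m => sl2 N s O.add (sl2 N s O.mul a b) (slD N s O l m)
  | _, _ => slC N O.zero

private noncomputable def slX (N s : ℕ) (O : Ops ℕ) (T : List (List ℕ)) (V : List ℕ) : ℕ → List ℕ → List ℕ
  | 0, _ => []
  | k + 1, W => slD N s O V (W.map (sl2 N s (fun _ => O.cj) (slC N O.zero))) ::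
      slL (T.map fun r => slD N s O (r.map (slC N)) W) (slX N s O T V k)

private def slV (O : Ops ℕ) (T : List (List ℕ)) (v : List ℕ) : ℕ → List ℕ → List ℕ
  | 0, _ => []
  | k + 1, w => dotL O v (w.map O.cj) :: slV O T v k (T.map fun r => dotL O r w)

private noncomputable def slM (N : ℕ) : List ℕ → List ℕ → ℕ
  | [], _ => Nat.sub (Nat.pow 2 N) 1
  | _ :: _, [] => 0
  | X :: l, y :: t => Nat.land (slP N X y) (slM N l t)

private noncomputable def slN (s : ℕ) (els M : List ℕ) (k : ℕ) : ℕ → ℕ → ℕ :=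
  Nat.rec (fun c _ => List.rec 0 (fun m _ r => Nat.add (Nat.land 1 (Nat.shiftRight m c)) r) M)
    (fun _ ih c u => List.rec 0 (fun a _ r => Nat.add (ih (Nat.add (Nat.mul u a) c) (Nat.mul u s)) r) els) k

private noncomputable def slI (N s : ℕ) : ℕ → List ℕ
  | 0 => []
  | k + 1 => slO s (fun a => Nat.shiftLeft (slC (s ^ k) a) (Nat.mul N a)) ::
      (slI N s k).map fun S => slO s fun a => Nat.shiftLeft S (s ^ k * a)

private def slJ (s : ℕ) : List ℕ → ℕ
  | [] => 0
  | a :: p => s ^ p.length * a + slJ s p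

section

variable {N s c : ℕ} {O : Ops ℕ}

private theorem slC_spec (hc : c < N) {a : ℕ} (ha : a < s) : slR N s c (slC N a) a := ⟨ha, sl_shift (sl_all hc) _⟩

private theorem slD_spec (hc : c < N) (h0 : O.zero < s)
    (hO : ∀ a < s, ∀ b < s, O.add a b < s ∧ O.mul a b < s ∧ O.cj a < s) {A a : List ℕ}
    (ha : List.Forall₂ (slR N s c) A a) : ∀ {B b : List ℕ}, List.Forall₂ (slR N s c) B b →
      slR N s c (slD N s O A B) (dotL O a b) := by
  induction ha with
  | nil => exact fun _ => slC_spec hc h0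
  | cons h _ ih =>
    intro B b hb
    cases hb with
    | nil => exact slC_spec hc h0
    | cons h' hb =>
      have h1 := sl2_spec O.mul hc h h' (hO _ h.1 _ h'.1).2.1
      exact sl2_spec O.add hc h1 (ih hb) (hO _ h1.1 _ (ih hb).1).1

private theorem slX_spec (hc : c < N) (h0 : O.zero < s)
    (hO : ∀ a < s, ∀ b < s, O.add a b < s ∧ O.mul a b < s ∧ O.cj a < s) {T : List (List ℕ)}
    (hT : ∀ r ∈ T, ∀ a ∈ r, a < s) {V v : List ℕ} (hv : List.Forall₂ (slR N s c) V v) :
    ∀ (k : ℕ) {W w : List ℕ}, List.Forall₂ (slR N s c) W w →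
      List.Forall₂ (slR N s c) (slX N s O T V k W) (slV O T v k w)
  | 0, _, _, _ => .nil
  | k + 1, W, w, h => by
    rw [slX, slV, slL_eq]
    refine .cons (slD_spec hc h0 hO hv ?_) (slX_spec hc h0 hO hT hv k ?_)
    · exact List.rel_map (fun _ _ h => sl2_spec (fun _ => O.cj) hc (slC_spec hc h0) h (hO _ h.1 _ h.1).2.2) h
    · rw [List.forall₂_map_left_iff, List.forall₂_map_right_iff, List.forall₂_same]
      refine fun r hr => slD_spec hc h0 hO ?_ h
      rw [List.forall₂_map_left_iff, List.forall₂_same]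
      exact fun a ha => slC_spec hc (hT r hr a ha)

private theorem slM_spec (hc : c < N) {X x : List ℕ} (h : List.Forall₂ (slR N s c) X x) :
    ∀ t : List ℕ, x.isPrefixOf t = true → (slM N X t).testBit c = true := by
  induction h with
  | nil => exact fun _ _ => sl_all hc
  | cons h _ ih =>
    rintro (_ | ⟨y, t⟩) ht
    · exact nomatch ht
    · obtain ⟨h1, h2⟩ := Bool.and_eq_true_iff.1 ht
      show (slP N _ y &&& _).testBit c = true
      rw [Nat.testBit_and, ← beq_iff_eq.1 h1, slP_bit hc h, ih t h2, Bool.and_self]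

private theorem sl_go {F : Type} [Field F] {q : ℕ} {enc : F → ℕ} (H : Law O q enc)
    (hE : ∀ a b, O.eq a b = true → a = b) (T : List (List ℕ)) (v : List ℕ) : ∀ (k : ℕ) (w : List ℕ) (tg : List (List ℕ)),
      go O T v k w tg ≤ tg.countP fun t => (slV O T v k w).isPrefixOf t
  | 0, _, _ => (List.countP_eq_length.2 fun _ _ => rfl).ge
  | k + 1, w, tg => by
    rw [go, H.seq]
    split
    · exact Nat.zero_le _
    · rename_i t tg' h
      rw [seqL_spec H, ← h]
      refine (sl_go H hE T v k _ _).trans ?_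
      rw [List.countP_filterMap]
      refine List.countP_mono_left ?_
      rintro (_ | ⟨y, t⟩) - ht
      · exact nomatch ht
      · rw [hd] at ht
        split at ht
        · rename_i h1
          exact Bool.and_eq_true_iff.2 ⟨beq_iff_eq.2 (hE _ _ h1).symm, ht⟩
        · exact nomatch ht

private theorem slI_spec : ∀ p : List ℕ, (∀ a ∈ p, a < s) →
    slJ s p < s ^ p.length ∧ List.Forall₂ (slR N s (slJ s p)) (slI N s p.length) p
  | [], _ => ⟨Nat.one_pos, .nil⟩
  | a :: p, h => by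
    obtain ⟨ha, hp⟩ := List.forall_mem_cons.1 h
    obtain ⟨h1, h2⟩ := slI_spec p hp
    refine ⟨?_, .cons ⟨ha, slO_bit (i := a) ?_ s ha⟩ ?_⟩
    · exact (Nat.add_lt_add_left h1 _).trans_le (Nat.mul_le_mul_left (s ^ p.length) ha)
    · exact sl_shift (sl_shift (sl_all h1) _) _
    · rw [List.forall₂_map_left_iff]
      refine h2.imp fun S y hy => ⟨hy.1, slO_bit ?_ s ha⟩
      rw [slJ, Nat.add_left_comm]
      exact sl_shift hy.2 _

private theorem sl_leaf {P : List ℕ → Bool} {f : List ℕ → ℕ} (h : ∀ t, P t = true → (f t).testBit c = true) (els : List ℕ)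
    (u : ℕ) : ∀ tg : List (List ℕ), tg.countP P ≤ slN s els (tg.map f) 0 c u
  | [] => le_rfl
  | t :: tg => by
    rw [List.countP_cons, Nat.add_comm]
    refine Nat.add_le_add ?_ (sl_leaf h els u tg)
    split
    · rename_i h1
      exact Nat.pos_of_ne_zero (bne_iff_ne.1 (h t h1))
    · exact Nat.zero_le _

private theorem sl_cnt {F : Type} [Field F] {q : ℕ} {enc : F → ℕ} (H : Law O q enc)
    (hE : ∀ a b, O.eq a b = true → a = b) {els : List ℕ} {T tg : List (List ℕ)} {n m : ℕ}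
    (h : (O.zero < s ∧ (∀ a ∈ els, a < s) ∧ ∀ a < s, ∀ b < s, O.add a b < s ∧ O.mul a b < s ∧ O.cj a < s))
    (hT : ∀ r ∈ T, ∀ a ∈ r, a < s)
    (hm : Nat.ble (slF (s ^ n) fun N => slL (slI N s n) fun V => slL (slX N s O T V n V) fun X =>
      slL (tg.map (slM N X)) fun M => slN s els M n 0 1) m = true) : cnt O els T tg n n [] ≤ m := by
  rw [slF_eq, slL_eq, slL_eq, slL_eq] at hm
  refine le_trans ?_ (Nat.le_of_ble_eq_true hm)
  have key : ∀ (k : ℕ) (p : List ℕ), p.length + k = n → (∀ a ∈ p, a < s) → cnt O els T tg n k p ≤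
      slN s els (tg.map (slM (s ^ n) (slX (s ^ n) s O T (slI (s ^ n) s n) n (slI (s ^ n) s n)))) k (slJ s p)
        (s ^ p.length) := by
    intro k
    induction k with
    | zero =>
      rintro p rfl hp
      obtain ⟨h1, h2⟩ := slI_spec (N := s ^ p.length) p hp
      exact (sl_go H hE T p _ p tg).trans (sl_leaf (slM_spec h1 (slX_spec h1 h.1 h.2.2 hT h2 _ h2)) els _ tg)
    | succ k ih =>
      intro p hn hp
      have h1 : ∀ (f g : ℕ → ℕ) (l : List ℕ), (∀ a ∈ l, f a ≤ g a) →
          l.foldr (fun a r => f a + r) 0 ≤ List.rec 0 (fun a _ r => Nat.add (g a) r) l := by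
        intro f g l hl
        induction l with
        | nil => exact le_rfl
        | cons a l ih => exact Nat.add_le_add (hl a List.mem_cons_self) (ih fun b hb => hl b (List.mem_cons_of_mem a hb))
      exact h1 _ _ els fun a ha => ih (a :: p) ((Nat.succ_add _ _).trans hn) (List.forall_mem_cons.2 ⟨h.2.1 a ha, hp⟩)
  exact key n [] (Nat.zero_add n) nofun

end

section

open Cfsg.Agent.SporadicA.FieldFour Cfsg.Agent.SporadicStructure.FieldNine

private def slO4 : Ops ℕ := ⟨Nat.xor, fun a b => Nat.land (Nat.shiftRight 0x2130132032100000 (Nat.mul 4 (Nat.add (Nat.mul 4 a) b))) 15,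
  fun a => Nat.land (Nat.shiftRight 0x2310 (Nat.mul 4 a)) 15, Nat.beq, 0, fun x k => k x⟩

private def slO9 : Ops ℕ := ⟨fun a b => Nat.land (Nat.shiftRight 0x435102768354021687543210876102768435021687354210876543768435102687354021876543210 (Nat.mul 4 (Nat.add (Nat.mul 9 a) b))) 15,
  fun a b => Nat.land (Nat.shiftRight 0x615237480138624570582471360264318750327165840741852630453786120876543210000000000 (Nat.mul 4 (Nat.add (Nat.mul 9 a) b))) 15,
  fun a => Nat.land (Nat.shiftRight 0x543876210 (Nat.mul 4 a)) 15, Nat.beq, 0, fun x k => k x⟩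

private theorem sl_law4 : Law slO4 (F := F4) 2 F4.toNat :=
  ⟨by decide +kernel, by decide +kernel, by decide +kernel, by decide +kernel, rfl, fun _ _ => rfl⟩

private theorem sl_law9 : Law slO9 (F := K9) 3 K9.code :=
  ⟨by decide +kernel, by decide +kernel, by decide +kernel, by decide +kernel, rfl, fun _ _ => rfl⟩

private theorem sl_els4 (f : ℕ → ℕ) : ∑ a : F4, f a.toNat ≤ [0, 1, 2, 3].foldr (fun a s => f a + s) 0 := le_of_eq rfl

private theorem sl_els9 (f : ℕ → ℕ) : ∑ a : K9, f a.code ≤ [0, 1, 2, 3, 4, 5, 6, 7, 8].foldr (fun a s => f a + s) 0 :=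
  le_of_eq rfl

private theorem sl_cnt4 {T tg : List (List ℕ)} {m : ℕ} (hT : ∀ r ∈ T, ∀ a ∈ r, a < 4)
    (hm : Nat.ble (slF (4 ^ 6) fun N => slL (slI N 4 6) fun V => slL (slX N 4 slO4 T V 6 V) fun X =>
      slL (tg.map (slM N X)) fun M => slN 4 [0, 1, 2, 3] M 6 0 1) m = true) : cnt slO4 [0, 1, 2, 3] T tg 6 6 [] ≤ m :=
  sl_cnt sl_law4 (fun _ _ => Nat.eq_of_beq_eq_true) (by decide +kernel) hT hm

private theorem sl_cnt9 {T tg : List (List ℕ)} {m : ℕ} (hT : ∀ r ∈ T, ∀ a ∈ r, a < 9)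
    (hm : Nat.ble (slF (9 ^ 4) fun N => slL (slI N 9 4) fun V => slL (slX N 9 slO9 T V 4 V) fun X =>
      slL (tg.map (slM N X)) fun M => slN 9 [0, 1, 2, 3, 4, 5, 6, 7, 8] M 4 0 1) m = true) :
    cnt slO9 [0, 1, 2, 3, 4, 5, 6, 7, 8] T tg 4 4 [] ≤ m :=
  sl_cnt sl_law9 (fun _ _ => Nat.eq_of_beq_eq_true) (by decide +kernel) hT hm

private theorem sl_det {A : Matrix (Fin 6) (Fin 6) F4} (X L U : Matrix (Fin 6) (Fin 6) F4)
    (h : (decide (X * A = L * U) && decide (∀ i j, i ≤ j ∨ (X i j, L j i, U i j) = (0, 0, 0)) &&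
      decide (∏ i, X i i = 1 ∧ ∏ i, L i i = 1 ∧ ∏ i, U i i = 1)) = true) : A.det = 1 := by
  rw [Bool.and_eq_true, Bool.and_eq_true, decide_eq_true_iff, decide_eq_true_iff, decide_eq_true_iff] at h
  obtain ⟨⟨h1, h0⟩, h3, h4, h5⟩ := h
  have h2 := fun i j (h : j < i) => (h0 i j).resolve_left h.not_ge
  have e := congrArg Matrix.det h1
  rwa [Matrix.det_mul, Matrix.det_mul, Matrix.det_of_upperTriangular (M := X) fun i j h => congrArg (·.1) (h2 i j h),
    Matrix.det_of_lowerTriangular L fun i j h => congrArg (·.2.1) (h2 j i h),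
    Matrix.det_of_upperTriangular (M := U) fun i j h => congrArg (·.2.2) (h2 i j h), h3, h4, h5, one_mul, one_mul] at e

end

end Cfsg.Agent.H933.OZ.Cyc
end

-- part: H933/OZ/U43Data
section
/-!
# Orbit data for `PSU 4` over the field with `9` elements (helper933, for S4842; generated)
-/

set_option autoImplicit false

namespace Cfsg.Agent.H933.OZ.U43

open Cfsg Matrix Orb Cyc
open Cfsg.Agent.SporadicStructure.FieldNine

set_option maxRecDepth 100000

abbrev M := Matrix (Fin 4) (Fin 4) K9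

def k0 : K9 := K9.mk 0
def k1 : K9 := K9.mk 1
def k2 : K9 := K9.mk 2
def k3 : K9 := K9.mk 3
def k4 : K9 := K9.mk 4
def k5 : K9 := K9.mk 5
def k6 : K9 := K9.mk 6
def k7 : K9 := K9.mk 7
def k8 : K9 := K9.mk 8

theorem hF : Fintype.card K9 = 3 ^ 2 := rfl

theorem cs_spec : ∀ c : K9, c ^ 4 = 1 → c ^ (3 + 1) = 1 → c ∈ [k1, k2, k3, k6] := by decide +kernel

theorem cs_norm : ∀ c ∈ [k1, k2, k3, k6], c ^ (3 + 1) = 1 := by decide +kernel

theorem card_G : Nat.card (PSU 4 K9 3) = 3265920 := by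
  have h := S0280.result hF 4 (by norm_num)
  norm_num only [Finset.prod_range_succ, _root_.Finset.range_one, _root_.Finset.prod_singleton, _root_.ite_true, _root_.ite_false] at h
  omega

def t8M : M := !![k3, k8, k4, k8; k7, k4, k2, k4; k1, k1, k6, k1; k0, k8, k0, k4]
theorem t8_un : t8Mᵀ * t8M.map cj9 = 1 := by decide +kernel
theorem t8_det : t8M.det = 1 := by decide +kernel
/-- element -/
def t8 : SU 4 K9 3 := mkSU cj9_eq t8M t8_un t8_det hF
theorem sm_t8 : sm t8 = t8M := rfl

theorem t8_p1 : t8M ^ 1 = t8M := pow_one _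
def t8M2 : M := !![k4, k2, k4, k8; k5, k0, k1, k3; k7, k5, k5, k1; k1, k6, k4, k0]
theorem t8_m2 : t8M * t8M = t8M2 := by decide +kernel
theorem t8_p2 : t8M ^ 2 = t8M2 :=
  (pow_add t8M 1 1).trans ((congrArg₂ (· * ·) t8_p1 t8_p1).trans t8_m2)
def t8M3 : M := !![k2, k0, k5, k6; k6, k7, k7, k5; k3, k0, k1, k8; k3, k7, k5, k7]
theorem t8_m3 : t8M2 * t8M = t8M3 := by decide +kernel
theorem t8_p3 : t8M ^ 3 = t8M3 :=
  (pow_add t8M 2 1).trans ((congrArg₂ (· * ·) t8_p2 t8_p1).trans t8_m3)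
def t8M4 : M := !![k2, k2, k0, k4; k2, k1, k8, k0; k0, k5, k2, k2; k7, k0, k2, k1]
theorem t8_m4 : t8M3 * t8M = t8M4 := by decide +kernel
theorem t8_p4 : t8M ^ 4 = t8M4 :=
  (pow_add t8M 3 1).trans ((congrArg₂ (· * ·) t8_p3 t8_p1).trans t8_m4)
def t8M5 : M := !![k2, k3, k6, k6; k0, k4, k0, k4; k8, k4, k1, k8; k3, k8, k5, k4]
theorem t8_m5 : t8M4 * t8M = t8M5 := by decide +kernel
theorem t8_p5 : t8M ^ 5 = t8M5 :=
  (pow_add t8M 4 1).trans ((congrArg₂ (· * ·) t8_p4 t8_p1).trans t8_m5)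
def t8M8 : M := !![k1, k0, k0, k0; k0, k1, k0, k0; k0, k0, k1, k0; k0, k0, k0, k1]
theorem t8_m8 : t8M5 * t8M3 = t8M8 := by decide +kernel
theorem t8_p8 : t8M ^ 8 = t8M8 :=
  (pow_add t8M 5 3).trans ((congrArg₂ (· * ·) t8_p5 t8_p3).trans t8_m8)

theorem t8_pow : pr t8 ^ 8 = 1 := by
  rw [← map_pow, ← map_one pr]
  refine pr_eq_of_smul (c := k1) (by decide +kernel) (by decide +kernel) ?_
  rw [sm_pow, sm_t8, t8_p8]
  decide +kernel

theorem t8_ne : pr t8 ^ 4 ≠ 1 := by
  intro h
  rw [← map_pow, ← map_one pr] at h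
  obtain ⟨c, hc⟩ := smul_of_pr_eq hF (by norm_num) h
  rw [sm_pow, sm_t8, t8_p4] at hc
  revert c
  decide +kernel

def t8E : M := !![k0, k4, k4, k5; k0, k2, k1, k7; k1, k6, k5, k1; k0, k0, k4, k5]
def t8E' : M := !![k0, k6, k1, k5; k5, k0, k0, k7; k1, k4, k0, k3; k3, k5, k0, k3]
private def t8RN : List (List ℕ) := [[3, 8, 4, 8], [7, 4, 2, 4], [1, 1, 6, 1], [0, 8, 0, 4]]
private def t8tgN : List (List ℕ) := [[1, 3, 8, 1], [1, 6, 8, 2], [1, 2, 4, 6], [1, 1, 4, 3]]
theorem t8_card : Nat.card (GU 4 K9 3) ≤ 128 * (orb t8).card :=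
  card_GU_le hF (by norm_num) t8 cs_spec
    (card_le' sl_law9 hF sl_els9 (e := ![k0, k0, k1, k0]) (E := t8E) (E' := t8E') (by decide +kernel) (by decide +kernel)
      (by decide +kernel) cs_norm (R := t8RN) (by decide +kernel) (tg := t8tgN) (by decide +kernel)
      (sl_cnt9 (by decide +kernel) (by decide +kernel)))

def t8S3 : M := !![k2, k4, k1, k0; k5, k2, k0, k6; k7, k5, k1, k7; k5, k5, k8, k1]
theorem t8_w3 : Pw t8 3 :=
  pw_of_mat (s := mkSU cj9_eq t8S3 (by decide +kernel) (by decide +kernel) hF) (c := k3)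
    (by decide +kernel) (by decide +kernel) (by
      rw [sm_t8, t8_p3]
      decide +kernel)

def t8S5 : M := !![k2, k6, k1, k2; k7, k0, k1, k3; k7, k2, k1, k0; k8, k4, k1, k7]
theorem t8_w5 : Pw t8 5 :=
  pw_of_mat (s := mkSU cj9_eq t8S5 (by decide +kernel) (by decide +kernel) hF) (c := k1)
    (by decide +kernel) (by decide +kernel) (by
      rw [sm_t8, t8_p5]
      decide +kernel)

theorem t8_rw : ∀ j < 8, j.Coprime 8 → Pw t8 j := by
  intro j hj hc
  interval_cases j
  · exact absurd hc (by decide)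
  · exact Pw.mod t8_pow (Pw.one _) rfl
  · exact absurd hc (by decide)
  · exact Pw.mod t8_pow t8_w3 rfl
  · exact absurd hc (by decide)
  · exact Pw.mod t8_pow t8_w5 rfl
  · exact absurd hc (by decide)
  · exact Pw.mod t8_pow (t8_w3.mul t8_w5) rfl

theorem t8_rat : Rat t8 := Rat.of (N := 8) (by rw [card_G]; decide) (by norm_num) t8_pow t8_rw

theorem t8_dat : Dat t8 (2 ^ 3) 128 :=
  Dat.of (N := 8) (by rw [card_G]; decide) (by norm_num) t8_pow t8_card fun j hj hc => Or.inl (t8_rw j hj hc)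

def u9M : M := !![k2, k0, k4, k3; k1, k1, k1, k2; k6, k1, k5, k0; k2, k4, k5, k8]
theorem u9_un : u9Mᵀ * u9M.map cj9 = 1 := by decide +kernel
theorem u9_det : u9M.det = 1 := by decide +kernel
/-- element -/
def u9 : SU 4 K9 3 := mkSU cj9_eq u9M u9_un u9_det hF
theorem sm_u9 : sm u9 = u9M := rfl

theorem u9_p1 : u9M ^ 1 = u9M := pow_one _
def u9M2 : M := !![k5, k6, k5, k4; k7, k7, k5, k6; k8, k3, k2, k0; k1, k0, k5, k2]
theorem u9_m2 : u9M * u9M = u9M2 := by decide +kernel
theorem u9_p2 : u9M ^ 2 = u9M2 :=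
  (pow_add u9M 1 1).trans ((congrArg₂ (· * ·) u9_p1 u9_p1).trans u9_m2)
def u9M3 : M := !![k4, k8, k2, k5; k7, k7, k4, k2; k1, k5, k4, k4; k4, k1, k5, k7]
theorem u9_m3 : u9M2 * u9M = u9M3 := by decide +kernel
theorem u9_p3 : u9M ^ 3 = u9M3 :=
  (pow_add u9M 2 1).trans ((congrArg₂ (· * ·) u9_p2 u9_p1).trans u9_m3)
def u9M4 : M := !![k5, k8, k3, k8; k8, k7, k5, k1; k7, k3, k8, k4; k3, k5, k7, k5]
theorem u9_m4 : u9M3 * u9M = u9M4 := by decide +kernel
theorem u9_p4 : u9M ^ 4 = u9M4 :=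
  (pow_add u9M 3 1).trans ((congrArg₂ (· * ·) u9_p3 u9_p1).trans u9_m4)
def u9M6 : M := !![k7, k4, k1, k7; k5, k4, k8, k1; k2, k7, k7, k8; k8, k2, k7, k4]
theorem u9_m6 : u9M4 * u9M2 = u9M6 := by decide +kernel
theorem u9_p6 : u9M ^ 6 = u9M6 :=
  (pow_add u9M 4 2).trans ((congrArg₂ (· * ·) u9_p4 u9_p2).trans u9_m6)
def u9M9 : M := !![k1, k0, k0, k0; k0, k1, k0, k0; k0, k0, k1, k0; k0, k0, k0, k1]
theorem u9_m9 : u9M6 * u9M3 = u9M9 := by decide +kernel
theorem u9_p9 : u9M ^ 9 = u9M9 :=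
  (pow_add u9M 6 3).trans ((congrArg₂ (· * ·) u9_p6 u9_p3).trans u9_m9)

theorem u9_pow : pr u9 ^ 9 = 1 := by
  rw [← map_pow, ← map_one pr]
  refine pr_eq_of_smul (c := k1) (by decide +kernel) (by decide +kernel) ?_
  rw [sm_pow, sm_u9, u9_p9]
  decide +kernel

theorem u9_ne : pr u9 ^ 3 ≠ 1 := by
  intro h
  rw [← map_pow, ← map_one pr] at h
  obtain ⟨c, hc⟩ := smul_of_pr_eq hF (by norm_num) h
  rw [sm_pow, sm_u9, u9_p3] at hc
  revert c
  decide +kernel

def u9E : M := !![k0, k3, k4, k5; k0, k2, k6, k2; k0, k0, k0, k4; k1, k8, k2, k7]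
def u9E' : M := !![k3, k7, k1, k1; k7, k3, k4, k0; k4, k5, k1, k0; k0, k0, k5, k0]
private def u9RN : List (List ℕ) := [[2, 0, 4, 3], [1, 1, 1, 2], [6, 1, 5, 0], [2, 4, 5, 8]]
private def u9tgN : List (List ℕ) := [[1, 5, 2, 4], [1, 7, 2, 8], [1, 8, 1, 7], [1, 4, 1, 5]]
theorem u9_card : Nat.card (GU 4 K9 3) ≤ 108 * (orb u9).card :=
  card_GU_le hF (by norm_num) u9 cs_spec
    (card_le' sl_law9 hF sl_els9 (e := ![k0, k0, k0, k1]) (E := u9E) (E' := u9E') (by decide +kernel) (by decide +kernel)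
      (by decide +kernel) cs_norm (R := u9RN) (by decide +kernel) (tg := u9tgN) (by decide +kernel)
      (sl_cnt9 (by decide +kernel) (by decide +kernel)))

def u9S4 : M := !![k8, k3, k2, k0; k6, k7, k0, k1; k2, k0, k7, k3; k0, k1, k6, k8]
theorem u9_w4 : Pw u9 4 :=
  pw_of_mat (s := mkSU cj9_eq u9S4 (by decide +kernel) (by decide +kernel) hF) (c := k1)
    (by decide +kernel) (by decide +kernel) (by
      rw [sm_u9, u9_p4]
      decide +kernel)

theorem u9_rw : ∀ j < 9, j.Coprime 9 → Pw u9 j ∨ Pw u9 (9 - j) := by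
  intro j hj hc
  interval_cases j
  · exact absurd hc (by decide)
  · exact Or.inl (Pw.mod u9_pow (Pw.one _) rfl)
  · exact Or.inr (Pw.mod u9_pow (u9_w4.mul u9_w4) rfl)
  · exact absurd hc (by decide)
  · exact Or.inl (Pw.mod u9_pow u9_w4 rfl)
  · exact Or.inr (Pw.mod u9_pow u9_w4 rfl)
  · exact absurd hc (by decide)
  · exact Or.inl (Pw.mod u9_pow (u9_w4.mul u9_w4) rfl)
  · exact Or.inr (Pw.mod u9_pow (Pw.one _) rfl)

theorem u9_dat : Dat u9 (3 ^ 2) 108 :=
  Dat.of (N := 9) (by rw [card_G]; decide) (by norm_num) u9_pow u9_card u9_rw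

def z7M : M := !![k4, k2, k0, k2; k5, k8, k5, k1; k6, k6, k2, k2; k5, k0, k2, k6]
theorem z7_un : z7Mᵀ * z7M.map cj9 = 1 := by decide +kernel
theorem z7_det : z7M.det = 1 := by decide +kernel
/-- element -/
def z7 : SU 4 K9 3 := mkSU cj9_eq z7M z7_un z7_det hF
theorem sm_z7 : sm z7 = z7M := rfl

theorem z7_p1 : z7M ^ 1 = z7M := pow_one _
def z7M2 : M := !![k2, k0, k8, k1; k6, k8, k8, k7; k0, k2, k3, k4; k8, k1, k4, k7]
theorem z7_m2 : z7M * z7M = z7M2 := by decide +kernel
theorem z7_p2 : z7M ^ 2 = z7M2 :=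
  (pow_add z7M 1 1).trans ((congrArg₂ (· * ·) z7_p1 z7_p1).trans z7_m2)
def z7M3 : M := !![k3, k3, k3, k2; k8, k5, k8, k2; k6, k5, k0, k3; k0, k7, k3, k6]
theorem z7_m3 : z7M2 * z7M = z7M3 := by decide +kernel
theorem z7_p3 : z7M ^ 3 = z7M3 :=
  (pow_add z7M 2 1).trans ((congrArg₂ (· * ·) z7_p2 z7_p1).trans z7_m3)
def z7M4 : M := !![k6, k5, k3, k0; k6, k8, k8, k4; k6, k5, k0, k6; k2, k2, k6, k3]
theorem z7_m4 : z7M3 * z7M = z7M4 := by decide +kernel
theorem z7_p4 : z7M ^ 4 = z7M4 :=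
  (pow_add z7M 3 1).trans ((congrArg₂ (· * ·) z7_p3 z7_p1).trans z7_m4)
def z7M7 : M := !![k1, k0, k0, k0; k0, k1, k0, k0; k0, k0, k1, k0; k0, k0, k0, k1]
theorem z7_m7 : z7M4 * z7M3 = z7M7 := by decide +kernel
theorem z7_p7 : z7M ^ 7 = z7M7 :=
  (pow_add z7M 4 3).trans ((congrArg₂ (· * ·) z7_p4 z7_p3).trans z7_m7)

theorem z7_pow : pr z7 ^ 7 = 1 := by
  rw [← map_pow, ← map_one pr]
  refine pr_eq_of_smul (c := k1) (by decide +kernel) (by decide +kernel) ?_
  rw [sm_pow, sm_z7, z7_p7]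
  decide +kernel

def z7E : M := !![k0, k0, k8, k3; k0, k5, k8, k8; k1, k2, k3, k0; k0, k2, k4, k3]
def z7E' : M := !![k5, k6, k1, k3; k3, k1, k0, k4; k6, k7, k0, k6; k5, k3, k0, k8]
private def z7RN : List (List ℕ) := [[4, 2, 0, 2], [5, 8, 5, 1], [6, 6, 2, 2], [5, 0, 2, 6]]
private def z7tgN : List (List ℕ) := [[1, 2, 6, 0], [1, 1, 6, 0], [1, 6, 3, 0], [1, 3, 3, 0]]
theorem z7_card : Nat.card (GU 4 K9 3) ≤ 112 * (orb z7).card :=
  card_GU_le hF (by norm_num) z7 cs_spec
    (card_le' sl_law9 hF sl_els9 (e := ![k0, k0, k1, k0]) (E := z7E) (E' := z7E') (by decide +kernel) (by decide +kernel)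
      (by decide +kernel) cs_norm (R := z7RN) (by decide +kernel) (tg := z7tgN) (by decide +kernel)
      (sl_cnt9 (by decide +kernel) (by decide +kernel)))

def z7S2 : M := !![k6, k0, k1, k8; k0, k2, k0, k0; k6, k0, k4, k2; k7, k0, k1, k2]
theorem z7_w2 : Pw z7 2 :=
  pw_of_mat (s := mkSU cj9_eq z7S2 (by decide +kernel) (by decide +kernel) hF) (c := k1)
    (by decide +kernel) (by decide +kernel) (by
      rw [sm_z7, z7_p2]
      decide +kernel)

theorem z7_rw : ∀ j < 7, j.Coprime 7 → Pw z7 j ∨ Pw z7 (7 - j) := by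
  intro j hj hc
  interval_cases j
  · exact absurd hc (by decide)
  · exact Or.inl (Pw.mod z7_pow (Pw.one _) rfl)
  · exact Or.inl (Pw.mod z7_pow z7_w2 rfl)
  · exact Or.inr (Pw.mod z7_pow (z7_w2.mul z7_w2) rfl)
  · exact Or.inl (Pw.mod z7_pow (z7_w2.mul z7_w2) rfl)
  · exact Or.inr (Pw.mod z7_pow z7_w2 rfl)
  · exact Or.inr (Pw.mod z7_pow (Pw.one _) rfl)

theorem z7_dat : Dat z7 (7 ^ 1) 112 :=
  Dat.of (N := 7) (by rw [card_G]; decide) (by norm_num) z7_pow z7_card z7_rw

def t5M : M := !![k6, k0, k2, k4; k2, k3, k0, k7; k4, k7, k7, k2; k0, k2, k2, k4]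
theorem t5_un : t5Mᵀ * t5M.map cj9 = 1 := by decide +kernel
theorem t5_det : t5M.det = 1 := by decide +kernel
/-- element -/
def t5 : SU 4 K9 3 := mkSU cj9_eq t5M t5_un t5_det hF
theorem sm_t5 : sm t5 = t5M := rfl

theorem t5_p1 : t5M ^ 1 = t5M := pow_one _
def t5M2 : M := !![k7, k1, k4, k5; k0, k4, k3, k2; k2, k8, k0, k1; k6, k7, k1, k0]
theorem t5_m2 : t5M * t5M = t5M2 := by decide +kernel
theorem t5_p2 : t5M ^ 2 = t5M2 :=
  (pow_add t5M 1 1).trans ((congrArg₂ (· * ·) t5_p1 t5_p1).trans t5_m2)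
def t5M3 : M := !![k4, k0, k2, k3; k1, k7, k5, k4; k7, k6, k0, k1; k8, k2, k1, k0]
theorem t5_m3 : t5M2 * t5M = t5M3 := by decide +kernel
theorem t5_p3 : t5M ^ 3 = t5M3 :=
  (pow_add t5M 2 1).trans ((congrArg₂ (· * ·) t5_p2 t5_p1).trans t5_m3)
def t5M5 : M := !![k1, k0, k0, k0; k0, k1, k0, k0; k0, k0, k1, k0; k0, k0, k0, k1]
theorem t5_m5 : t5M3 * t5M2 = t5M5 := by decide +kernel
theorem t5_p5 : t5M ^ 5 = t5M5 :=
  (pow_add t5M 3 2).trans ((congrArg₂ (· * ·) t5_p3 t5_p2).trans t5_m5)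

theorem t5_pow : pr t5 ^ 5 = 1 := by
  rw [← map_pow, ← map_one pr]
  refine pr_eq_of_smul (c := k1) (by decide +kernel) (by decide +kernel) ?_
  rw [sm_pow, sm_t5, t5_p5]
  decide +kernel

def t5E : M := !![k0, k3, k6, k5; k0, k7, k5, k6; k1, k6, k1, k1; k1, k3, k1, k1]
def t5E' : M := !![k1, k1, k5, k8; k0, k0, k6, k3; k8, k3, k6, k3; k3, k8, k0, k0]
private def t5RN : List (List ℕ) := [[6, 0, 2, 4], [2, 3, 0, 7], [4, 7, 7, 2], [0, 2, 2, 4]]
private def t5tgN : List (List ℕ) := [[2, 0, 2, 2], [2, 0, 2, 1], [2, 0, 1, 3], [2, 0, 1, 6]]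
theorem t5_card : Nat.card (GU 4 K9 3) ≤ 80 * (orb t5).card :=
  card_GU_le hF (by norm_num) t5 cs_spec
    (card_le' sl_law9 hF sl_els9 (e := ![k0, k0, k1, k1]) (E := t5E) (E' := t5E') (by decide +kernel) (by decide +kernel)
      (by decide +kernel) cs_norm (R := t5RN) (by decide +kernel) (tg := t5tgN) (by decide +kernel)
      (sl_cnt9 (by decide +kernel) (by decide +kernel)))

def t5S2 : M := !![k3, k7, k8, k4; k1, k6, k6, k3; k2, k7, k0, k1; k3, k8, k3, k0]
theorem t5_w2 : Pw t5 2 :=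
  pw_of_mat (s := mkSU cj9_eq t5S2 (by decide +kernel) (by decide +kernel) hF) (c := k1)
    (by decide +kernel) (by decide +kernel) (by
      rw [sm_t5, t5_p2]
      decide +kernel)

theorem t5_rw : ∀ j < 5, j.Coprime 5 → Pw t5 j := by
  intro j hj hc
  interval_cases j
  · exact absurd hc (by decide)
  · exact Pw.mod t5_pow (Pw.one _) rfl
  · exact Pw.mod t5_pow t5_w2 rfl
  · exact Pw.mod t5_pow ((t5_w2.mul t5_w2).mul t5_w2) rfl
  · exact Pw.mod t5_pow (t5_w2.mul t5_w2) rfl

theorem t5_dat : Dat t5 (5 ^ 1) 80 :=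
  Dat.of (N := 5) (by rw [card_G]; decide) (by norm_num) t5_pow t5_card fun j hj hc => Or.inl (t5_rw j hj hc)

end Cfsg.Agent.H933.OZ.U43
end

-- part: H933/OZ/U43
section
/-!
# S4842: the row `U_4(3)` (helper933)
-/

set_option autoImplicit false

namespace Cfsg.Agent.H933.OZ.U43

open Cfsg Cfsg.Agent.Characters Cfsg.Agent.CharactersDeep Cfsg.Agent.H732.VZ Orb
open Cfsg.Agent.H686.CharKit Cfsg.Agent.SporadicStructure.FieldNine

theorem card_GU : Nat.card (GU 4 K9 3) = 52254720 := by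
  have h := S0277.result hF 4
  norm_num only [Finset.prod_range_succ, Nat.even_iff, _root_.Finset.range_one, _root_.Finset.prod_singleton, _root_.ite_true, _root_.ite_false] at h
  exact h

instance simp43 : IsSimpleGroup (PSU 4 K9 3) := Cfsg.Agent.S0283.result hF 4 (by norm_num) (by omega)

theorem not_comm : ¬ IsMulCommutative (PSU 4 K9 3) := by
  intro h
  let _ : CommGroup (PSU 4 K9 3) := { mul_comm := fun a b => h.is_comm.comm a b }
  have h1 : (Nat.card (PSU 4 K9 3)).Prime := IsSimpleGroup.prime_card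
  rw [card_G] at h1
  exact absurd h1 (by norm_num)

theorem four_le_c {χ : IrrCharacter (PSU 4 K9 3)} {x : PSU 4 K9 3} (h : _root_.Cfsg.Agent.H732.VZ.One χ x) :
    4 ≤ Nat.card (Subgroup.centralizer ({x} : Set (PSU 4 K9 3))) :=
  four_le (by rw [card_G]; norm_num) (by rw [card_G]; norm_num) h

/-- even degree -/
theorem even {χ : IrrCharacter (PSU 4 K9 3)} {x : PSU 4 K9 3} (h : _root_.Cfsg.Agent.H732.VZ.One χ x)
    (hd : 2 ∣ charDegree (χ : PSU 4 K9 3 → ℂ)) : ∃ y ∈ orb t8, IsConj x y := by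
  by_contra hcon
  push Not at hcon
  have h1 := t8_dat.cost h hcon (k := 3) fun y hy =>
    le_trans (by norm_num) (t8_dat.sq_le t8_rat Nat.prime_two h hcon hd hy)
  rw [card_GU, card_G] at h1
  have h2 := four_le_c h
  omega

/-- degree divisible by three -/
theorem three {χ : IrrCharacter (PSU 4 K9 3)} {x : PSU 4 K9 3} (h : _root_.Cfsg.Agent.H732.VZ.One χ x)
    (hd : 3 ∣ charDegree (χ : PSU 4 K9 3 → ℂ)) : ∃ y ∈ orb u9, IsConj x y := by
  by_contra hcon
  push Not at hcon
  have hs : ∀ a : ℕ, 0 < a → a < 3 →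
      ¬ ((3 : ℕ) : ℤ) ∣ (a : ℤ) - (charDegree (χ : PSU 4 K9 3 → ℂ) : ℤ) ^ 2 := by
    intro a ha0 ha3 hdv
    have h1 : ((3 : ℕ) : ℤ) ∣ (charDegree (χ : PSU 4 K9 3 → ℂ) : ℤ) ^ 2 :=
      Dvd.dvd.pow (by exact_mod_cast hd) two_ne_zero
    have h2 : ((3 : ℕ) : ℤ) ∣ (a : ℤ) := by simpa only [_root_.Nat.cast_ofNat, _root_.sub_add_cancel] using dvd_add hdv h1
    omega
  have h1 := u9_dat.cost h hcon (k := 2) fun y hy =>
    le_trans (by norm_num) (u9_dat.le_normSq Nat.prime_three h hcon hs hy)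
  rw [card_GU, card_G] at h1
  have h2 := four_le_c h
  omega

theorem notMem_orb {χ : IrrCharacter (PSU 4 K9 3)} {x : PSU 4 K9 3} (h : _root_.Cfsg.Agent.H732.VZ.One χ x) {r s : ℕ}
    (hrs : r.Coprime s) (hx : x ^ r = 1) {t : SU 4 K9 3} {m : ℕ} (D : Dat t s m) :
    ∀ y ∈ orb t, ¬ IsConj x y := by
  intro y hy hxy
  have h1 := pow_eq_one_of_isConj hxy (D.pow y hy)
  have h2 : orderOf x ∣ Nat.gcd r s :=
    Nat.dvd_gcd (orderOf_dvd_of_pow_eq_one hx) (orderOf_dvd_of_pow_eq_one h1)
  rw [hrs.gcd_eq_one, Nat.dvd_one, orderOf_eq_one_iff] at h2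
  exact H604.OZ.ne_one h h2

/-- degree five -/
theorem five {χ : IrrCharacter (PSU 4 K9 3)} {x : PSU 4 K9 3} (h : _root_.Cfsg.Agent.H732.VZ.One χ x)
    (hx5 : x ^ 5 = 1) (hd : charDegree (χ : PSU 4 K9 3 → ℂ) = 5) : False := by
  have hcon := notMem_orb h (by norm_num) hx5 z7_dat
  have hs : ∀ a : ℕ, 0 < a → a < 4 →
      ¬ ((7 : ℕ) : ℤ) ∣ (a : ℤ) - (charDegree (χ : PSU 4 K9 3 → ℂ) : ℤ) ^ 2 := by
    intro a ha0 ha3 hdv
    rw [hd] at hdv
    push_cast at hdv
    omega
  have h1 := z7_dat.cost h hcon (k := 3) fun y hy =>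
    le_trans (by norm_num) (z7_dat.le_normSq (by norm_num) h hcon hs hy)
  rw [card_GU, card_G] at h1
  have h2 := four_le_c h
  omega

/-- degree seven -/
theorem seven {χ : IrrCharacter (PSU 4 K9 3)} {x : PSU 4 K9 3} (h : _root_.Cfsg.Agent.H732.VZ.One χ x)
    (hx7 : x ^ 7 = 1) (hd : charDegree (χ : PSU 4 K9 3 → ℂ) = 7) : False := by
  have hcon := notMem_orb h (by norm_num) hx7 t5_dat
  have hs : ∀ a : ℕ, 0 < a → a < 4 →
      ¬ ((5 : ℕ) : ℤ) ∣ (a : ℤ) - (charDegree (χ : PSU 4 K9 3 → ℂ) : ℤ) ^ 2 := by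
    intro a ha0 ha3 hdv
    rw [hd] at hdv
    push_cast at hdv
    omega
  have h1 := t5_dat.cost h hcon (k := 3) fun y hy =>
    le_trans (by norm_num) (t5_dat.le_normSq (by norm_num) h hcon hs hy)
  rw [card_GU, card_G] at h1
  have h2 := four_le_c h
  omega

theorem none {χ : IrrCharacter (PSU 4 K9 3)} {x : PSU 4 K9 3} (h : _root_.Cfsg.Agent.H732.VZ.One χ x) : False := by
  have hd1 := H604.OZ.one_lt_deg h
  have hdvd := H604.OZ.deg_dvd χ
  have hfac : Nat.card (PSU 4 K9 3) = 2 ^ 7 * 3 ^ 6 * 5 * 7 := by rw [card_G]; norm_num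
  have hmem : ∀ r : ℕ, r.Prime → r ∣ charDegree (χ : PSU 4 K9 3 → ℂ) → r = 2 ∨ r = 3 ∨ r = 5 ∨ r = 7 := by
    intro r hr hrd
    have h1 := hrd.trans hdvd
    rw [hfac] at h1
    simp only [hr.dvd_mul] at h1
    rcases h1 with ((h1 | h1) | h1) | h1
    · exact Or.inl ((Nat.prime_dvd_prime_iff_eq hr Nat.prime_two).1 (hr.dvd_of_dvd_pow h1))
    · exact Or.inr (Or.inl ((Nat.prime_dvd_prime_iff_eq hr Nat.prime_three).1 (hr.dvd_of_dvd_pow h1)))
    · exact Or.inr (Or.inr (Or.inl ((Nat.prime_dvd_prime_iff_eq hr Nat.prime_five).1 h1)))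
    · exact Or.inr (Or.inr (Or.inr ((Nat.prime_dvd_prime_iff_eq hr (by norm_num)).1 h1)))
  have hex : ∀ r : ℕ, r = 5 ∨ r = 7 → r ∣ charDegree (χ : PSU 4 K9 3 → ℂ) → x ^ r = 1 := by
    rintro r (rfl | rfl) hrd
    · exact pow_eq_one_of_dvd (n := 2 ^ 7 * 3 ^ 6 * 7) (by norm_num) (by rw [hfac]; norm_num)
        (by norm_num) h hrd
    · exact pow_eq_one_of_dvd (n := 2 ^ 7 * 3 ^ 6 * 5) (by norm_num) (by rw [hfac]; norm_num)
        (by norm_num) h hrd
  have hkill : ∀ r : ℕ, r.Prime → r ∣ charDegree (χ : PSU 4 K9 3 → ℂ) → ∃ k : ℕ, x ^ (r ^ k) = 1 := by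
    intro r hr hrd
    rcases hmem r hr hrd with rfl | rfl | h5
    · obtain ⟨y, hy, hxy⟩ := even h hrd
      exact ⟨3, pow_eq_one_of_isConj hxy (t8_dat.pow y hy)⟩
    · obtain ⟨y, hy, hxy⟩ := three h hrd
      exact ⟨2, pow_eq_one_of_isConj hxy (u9_dat.pow y hy)⟩
    · exact ⟨1, by rw [pow_one]; exact hex r h5 hrd⟩
  obtain ⟨r, hr, hrd⟩ := Nat.exists_prime_and_dvd hd1.ne'
  obtain ⟨i, hi⟩ := deg_prime_pow h hkill hr hrd
  have hxr : x ^ r = 1 := pow_eq_one_of_deg not_comm hr (hrd.trans hdvd) h hi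
  rcases hmem r hr hrd with rfl | rfl | h5
  · obtain ⟨y, hy, hxy⟩ := even h hrd
    refine pow_ne_one t8_ne hy ?_
    have h4 : x ^ (2 * 2) = 1 := by rw [pow_mul, hxr, one_pow]
    exact pow_eq_one_of_isConj hxy.symm h4
  · obtain ⟨y, hy, hxy⟩ := three h hrd
    exact pow_ne_one u9_ne hy (pow_eq_one_of_isConj hxy.symm hxr)
  · have hi1 : i ≤ 1 := by
      by_contra hcon
      have h1 : r ^ 2 ∣ Nat.card (PSU 4 K9 3) := (pow_dvd_pow r (by omega)).trans (hi ▸ hdvd)
      rw [card_G] at h1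
      rcases h5 with rfl | rfl <;> exact absurd h1 (by norm_num)
    have hi0 : i ≠ 0 := by
      rintro rfl
      rw [pow_zero] at hi
      omega
    have h1 : i = 1 := by omega
    rw [h1, pow_one] at hi
    rcases h5 with rfl | rfl
    · exact five h hxr hi
    · exact seven h hxr hi

universe u

/-- **`U_4(3)`** -/
theorem row_u43 {S : Type u} [Group S] [Finite S] {F : Type} [Field F] [Fintype F]
    (hF : Fintype.card F = 3 ^ 2) (e : S ≃* PSU 4 F 3) : H730.OZ.Row S := by
  obtain ⟨f⟩ := SporadicStructure.PsuMatch.psu_iso_of_card (F := F) (K := K9) (by rw [hF]; rfl) 4 3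
  exact H730.OZ.Row.congr (e.trans f) (H604.OZ.row_of fun _ _ h => none h)

end Cfsg.Agent.H933.OZ.U43
end

-- part: H933/OZ/U62Data
section
/-!
# Orbit data for `PSU 6` over the field with `4` elements (helper933, for S4842; generated)
-/

set_option autoImplicit false

namespace Cfsg.Agent.H933.OZ.U62

open Cfsg Matrix Orb Cyc
open Cfsg.Agent.SporadicA.FieldFour F4

set_option maxRecDepth 100000

abbrev M := Matrix (Fin 6) (Fin 6) F4

theorem hF : Fintype.card F4 = 2 ^ 2 := rfl

theorem cs_spec : ∀ c : F4, c ^ 6 = 1 → c ^ (2 + 1) = 1 → c ∈ [o, w, v] := by decide +kernel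

theorem cs_norm : ∀ c ∈ [o, w, v], c ^ (2 + 1) = 1 := by decide +kernel

theorem card_G : Nat.card (PSU 6 F4 2) = 9196830720 := by
  have h := S0280.result hF 6 (by norm_num)
  norm_num only [Finset.prod_range_succ, _root_.Finset.range_one, _root_.Finset.prod_singleton, _root_.ite_true, _root_.ite_false] at h
  omega

def t9M : M := !![z, z, w, z, z, z; o, z, z, z, z, z; z, o, z, z, z, z; z, z, z, z, z, v; z, z, z, o, z, z; z, z, z, z, o, z]
theorem t9_un : t9Mᵀ * t9M.map cj4 = 1 := by decide +kernel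
theorem t9_det : t9M.det = 1 :=
  sl_det !![o, o, z, z, o, z; z, o, o, z, o, o; z, z, o, z, o, z; z, z, z, o, o, z; z, z, z, z, o, o; z, z, z, z, z, o]
    !![o, z, z, z, z, z; o, o, z, z, z, z; z, o, o, z, z, z; z, z, z, o, z, z; z, z, z, o, o, z; z, z, z, z, o, o]
    !![o, z, w, o, z, z; z, o, w, z, o, z; z, z, w, o, o, z; z, z, z, o, z, v; z, z, z, z, o, v; z, z, z, z, z, v] (by decide +kernel)
/-- element -/
def t9 : SU 6 F4 2 := mkSU cj4_eq t9M t9_un t9_det hF
theorem sm_t9 : sm t9 = t9M := rfl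

theorem t9_p1 : t9M ^ 1 = t9M := pow_one _
def t9M2 : M := !![z, w, z, z, z, z; z, z, w, z, z, z; o, z, z, z, z, z; z, z, z, z, v, z; z, z, z, z, z, v; z, z, z, o, z, z]
theorem t9_m2 : t9M * t9M = t9M2 := by decide +kernel
theorem t9_p2 : t9M ^ 2 = t9M2 :=
  (pow_add t9M 1 1).trans ((congrArg₂ (· * ·) t9_p1 t9_p1).trans t9_m2)
def t9M3 : M := !![w, z, z, z, z, z; z, w, z, z, z, z; z, z, w, z, z, z; z, z, z, v, z, z; z, z, z, z, v, z; z, z, z, z, z, v]
theorem t9_m3 : t9M2 * t9M = t9M3 := by decide +kernel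
theorem t9_p3 : t9M ^ 3 = t9M3 :=
  (pow_add t9M 2 1).trans ((congrArg₂ (· * ·) t9_p2 t9_p1).trans t9_m3)
def t9M6 : M := !![v, z, z, z, z, z; z, v, z, z, z, z; z, z, v, z, z, z; z, z, z, w, z, z; z, z, z, z, w, z; z, z, z, z, z, w]
theorem t9_m6 : t9M3 * t9M3 = t9M6 := by decide +kernel
theorem t9_p6 : t9M ^ 6 = t9M6 :=
  (pow_add t9M 3 3).trans ((congrArg₂ (· * ·) t9_p3 t9_p3).trans t9_m6)
def t9M9 : M := !![o, z, z, z, z, z; z, o, z, z, z, z; z, z, o, z, z, z; z, z, z, o, z, z; z, z, z, z, o, z; z, z, z, z, z, o]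
theorem t9_m9 : t9M6 * t9M3 = t9M9 := by decide +kernel
theorem t9_p9 : t9M ^ 9 = t9M9 :=
  (pow_add t9M 6 3).trans ((congrArg₂ (· * ·) t9_p6 t9_p3).trans t9_m9)

theorem t9_pow : pr t9 ^ 9 = 1 := by
  rw [← map_pow, ← map_one pr]
  refine pr_eq_of_smul (c := o) (by decide +kernel) (by decide +kernel) ?_
  rw [sm_pow, sm_t9, t9_p9]
  decide +kernel

theorem t9_ne : pr t9 ^ 3 ≠ 1 := by
  intro h
  rw [← map_pow, ← map_one pr] at h
  obtain ⟨c, hc⟩ := smul_of_pr_eq hF (by norm_num) h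
  rw [sm_pow, sm_t9, t9_p3] at hc
  revert c
  decide +kernel

def t9E : M := !![z, w, z, z, v, z; z, z, w, z, z, v; o, z, z, w, z, z; z, v, z, z, w, z; z, z, v, z, z, w; o, z, z, v, z, z]
def t9E' : M := !![z, z, v, z, z, w; w, z, z, v, z, z; z, w, z, z, v, z; z, z, o, z, z, o; v, z, z, w, z, z; z, v, z, z, w, z]
private def t9RN : List (List ℕ) := [[0, 0, 2, 0, 0, 0], [1, 0, 0, 0, 0, 0], [0, 1, 0, 0, 0, 0], [0, 0, 0, 0, 0, 3], [0, 0, 0, 1, 0, 0], [0, 0, 0, 0, 1, 0]]
private def t9tgN : List (List ℕ) := [[0, 0, 0, 1, 0, 0], [0, 0, 0, 1, 0, 0], [0, 0, 0, 1, 0, 0]]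
theorem t9_card : Nat.card (GU 6 F4 2) ≤ 243 * (orb t9).card :=
  card_GU_le hF (by norm_num) t9 cs_spec
    (card_le' sl_law4 hF sl_els4 (e := ![z, z, o, z, z, o]) (E := t9E) (E' := t9E') (by decide +kernel) (by decide +kernel)
      (by decide +kernel) cs_norm (R := t9RN) (by decide +kernel) (tg := t9tgN) (by decide +kernel)
      (sl_cnt4 (by decide +kernel) (by decide +kernel)))

def t9S2 : M := !![z, z, z, z, o, z; z, z, z, v, z, z; z, z, z, z, z, o; z, o, z, z, z, z; w, z, z, z, z, z; z, z, o, z, z, z]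
theorem t9_w2 : Pw t9 2 :=
  pw_of_mat (s := mkSU cj4_eq t9S2 (by decide +kernel)
    (sl_det !![o, o, z, z, o, z; z, o, z, o, z, o; z, z, o, z, z, o; z, z, z, o, z, o; z, z, z, z, o, z; z, z, z, z, z, o]
      !![o, z, z, z, z, z; z, o, z, z, z, z; z, z, o, z, z, z; z, o, z, o, z, z; o, z, z, o, o, z; z, z, o, z, z, o]
      !![w, z, z, v, o, z; z, o, o, v, z, z; z, z, o, z, z, o; z, z, z, v, z, z; z, z, z, z, o, z; z, z, z, z, z, o] (by decide +kernel)) hF) (c := o)
    (by decide +kernel) (by decide +kernel) (by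
      rw [sm_t9, t9_p2]
      decide +kernel)

theorem t9_rw : ∀ j < 9, j.Coprime 9 → Pw t9 j := by
  intro j hj hc
  interval_cases j
  · exact absurd hc (by decide)
  · exact Pw.mod t9_pow (Pw.one _) rfl
  · exact Pw.mod t9_pow t9_w2 rfl
  · exact absurd hc (by decide)
  · exact Pw.mod t9_pow (t9_w2.mul t9_w2) rfl
  · exact Pw.mod t9_pow ((((t9_w2.mul t9_w2).mul t9_w2).mul t9_w2).mul t9_w2) rfl
  · exact absurd hc (by decide)
  · exact Pw.mod t9_pow (((t9_w2.mul t9_w2).mul t9_w2).mul t9_w2) rfl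
  · exact Pw.mod t9_pow ((t9_w2.mul t9_w2).mul t9_w2) rfl

theorem t9_rat : Rat t9 := Rat.of (N := 9) (by rw [card_G]; decide) (by norm_num) t9_pow t9_rw

theorem t9_dat : Dat t9 (3 ^ 2) 243 :=
  Dat.of (N := 9) (by rw [card_G]; decide) (by norm_num) t9_pow t9_card fun j hj hc => Or.inl (t9_rw j hj hc)

def u8M : M := !![z, o, o, v, o, v; o, v, v, w, v, z; v, w, w, z, w, o; v, v, v, o, z, o; v, v, z, o, v, o; w, z, w, v, w, v]
theorem u8_un : u8Mᵀ * u8M.map cj4 = 1 := by decide +kernel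
theorem u8_det : u8M.det = 1 :=
  sl_det !![o, o, o, o, o, z; z, o, o, z, z, o; z, z, o, z, z, z; z, z, z, o, o, o; z, z, z, z, o, z; z, z, z, z, z, o]
    !![o, z, z, z, z, z; z, o, z, z, z, z; w, w, o, z, z, z; o, z, o, o, z, z; w, v, w, z, o, z; o, z, v, o, z, o]
    !![w, z, v, o, v, w; z, o, v, o, v, w; z, z, w, z, w, o; z, z, z, w, z, z; z, z, z, z, v, o; z, z, z, z, z, w] (by decide +kernel)
/-- element -/
def u8 : SU 6 F4 2 := mkSU cj4_eq u8M u8_un u8_det hF
theorem sm_u8 : sm u8 = u8M := rfl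

theorem u8_p1 : u8M ^ 1 = u8M := pow_one _
def u8M2 : M := !![w, z, w, w, v, o; w, o, v, v, z, o; z, z, v, z, w, o; z, v, o, o, w, v; z, z, z, w, o, v; v, w, w, w, o, z]
theorem u8_m2 : u8M * u8M = u8M2 := by decide +kernel
theorem u8_p2 : u8M ^ 2 = u8M2 :=
  (pow_add u8M 1 1).trans ((congrArg₂ (· * ·) u8_p1 u8_p1).trans u8_m2)
def u8M3 : M := !![z, w, w, v, o, o; v, w, z, v, w, w; o, z, v, o, w, w; v, w, w, z, z, z; v, w, z, o, w, o; o, v, z, w, w, v]
theorem u8_m3 : u8M2 * u8M = u8M3 := by decide +kernel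
theorem u8_p3 : u8M ^ 3 = u8M3 :=
  (pow_add u8M 2 1).trans ((congrArg₂ (· * ·) u8_p2 u8_p1).trans u8_m3)
def u8M4 : M := !![z, v, w, w, v, v; w, o, v, o, z, w; v, w, z, o, w, w; v, o, o, o, o, z; w, z, v, o, o, w; w, v, v, z, v, o]
theorem u8_m4 : u8M3 * u8M = u8M4 := by decide +kernel
theorem u8_p4 : u8M ^ 4 = u8M4 :=
  (pow_add u8M 3 1).trans ((congrArg₂ (· * ·) u8_p3 u8_p1).trans u8_m4)
def u8M5 : M := !![z, w, o, w, w, o; v, v, z, v, v, w; v, z, w, v, z, z; w, w, o, z, o, v; o, v, v, z, v, v; o, v, v, z, o, w]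
theorem u8_m5 : u8M4 * u8M = u8M5 := by decide +kernel
theorem u8_p5 : u8M ^ 5 = u8M5 :=
  (pow_add u8M 4 1).trans ((congrArg₂ (· * ·) u8_p4 u8_p1).trans u8_m5)
def u8M8 : M := !![o, z, z, z, z, z; z, o, z, z, z, z; z, z, o, z, z, z; z, z, z, o, z, z; z, z, z, z, o, z; z, z, z, z, z, o]
theorem u8_m8 : u8M5 * u8M3 = u8M8 := by decide +kernel
theorem u8_p8 : u8M ^ 8 = u8M8 :=
  (pow_add u8M 5 3).trans ((congrArg₂ (· * ·) u8_p5 u8_p3).trans u8_m8)

theorem u8_pow : pr u8 ^ 8 = 1 := by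
  rw [← map_pow, ← map_one pr]
  refine pr_eq_of_smul (c := o) (by decide +kernel) (by decide +kernel) ?_
  rw [sm_pow, sm_u8, u8_p8]
  decide +kernel

theorem u8_ne : pr u8 ^ 4 ≠ 1 := by
  intro h
  rw [← map_pow, ← map_one pr] at h
  obtain ⟨c, hc⟩ := smul_of_pr_eq hF (by norm_num) h
  rw [sm_pow, sm_u8, u8_p4] at hc
  revert c
  decide +kernel

def u8E : M := !![z, v, o, o, v, o; z, z, o, w, w, w; z, o, o, w, w, z; z, o, v, z, z, v; z, o, v, o, w, v; o, v, z, v, o, w]
def u8E' : M := !![w, z, w, w, w, o; o, v, w, v, v, z; o, z, o, o, v, z; z, o, v, o, w, z; z, v, w, z, w, z; v, o, w, w, w, z]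
private def u8RN : List (List ℕ) := [[0, 1, 1, 3, 1, 3], [1, 3, 3, 2, 3, 0], [3, 2, 2, 0, 2, 1], [3, 3, 3, 1, 0, 1], [3, 3, 0, 1, 3, 1], [2, 0, 2, 3, 2, 3]]
private def u8tgN : List (List ℕ) := [[1, 2, 0, 2, 1, 3], [1, 3, 0, 2, 2, 2], [1, 1, 0, 2, 3, 1]]
theorem u8_card : Nat.card (GU 6 F4 2) ≤ 96 * (orb u8).card :=
  card_GU_le hF (by norm_num) u8 cs_spec
    (card_le' sl_law4 hF sl_els4 (e := ![z, z, z, z, z, o]) (E := u8E) (E' := u8E') (by decide +kernel) (by decide +kernel)
      (by decide +kernel) cs_norm (R := u8RN) (by decide +kernel) (tg := u8tgN) (by decide +kernel)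
      (sl_cnt4 (by decide +kernel) (by decide +kernel)))

def u8S3 : M := !![o, o, w, v, v, z; o, z, v, w, z, z; v, w, o, w, v, z; w, v, v, o, v, z; w, z, w, w, z, z; z, z, z, z, z, o]
theorem u8_w3 : Pw u8 3 :=
  pw_of_mat (s := mkSU cj4_eq u8S3 (by decide +kernel)
    (sl_det !![o, o, o, o, o, z; z, o, o, z, z, o; z, z, o, z, z, z; z, z, z, o, o, o; z, z, z, z, o, z; z, z, z, z, z, o]
      !![o, z, z, z, z, z; v, o, z, z, z, z; o, o, o, z, z, z; z, w, v, o, z, z; v, z, o, z, o, z; z, z, z, z, z, o]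
      !![v, z, o, z, v, z; z, w, o, z, o, o; z, z, o, w, o, o; z, z, z, w, w, z; z, z, z, z, v, o; z, z, z, z, z, o] (by decide +kernel)) hF) (c := o)
    (by decide +kernel) (by decide +kernel) (by
      rw [sm_u8, u8_p3]
      decide +kernel)

def u8S5 : M := !![o, v, o, v, o, z; w, v, v, z, z, z; z, w, w, o, v, o; o, v, o, v, z, w; v, z, o, v, v, o; o, w, z, o, z, z]
theorem u8_w5 : Pw u8 5 :=
  pw_of_mat (s := mkSU cj4_eq u8S5 (by decide +kernel)
    (sl_det !![o, z, o, z, z, z; z, o, z, z, o, o; z, z, o, z, z, o; z, z, z, o, o, z; z, z, z, z, o, z; z, z, z, z, z, o]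
      !![o, z, z, z, z, z; z, o, z, z, z, z; o, o, o, z, z, z; w, o, o, o, z, z; v, v, v, v, o, z; o, v, v, w, w, o]
      !![o, o, v, w, w, o; z, o, w, w, v, o; z, z, v, z, w, o; z, z, z, o, o, o; z, z, z, z, w, o; z, z, z, z, z, o] (by decide +kernel)) hF) (c := o)
    (by decide +kernel) (by decide +kernel) (by
      rw [sm_u8, u8_p5]
      decide +kernel)

theorem u8_rw : ∀ j < 8, j.Coprime 8 → Pw u8 j := by
  intro j hj hc
  interval_cases j
  · exact absurd hc (by decide)
  · exact Pw.mod u8_pow (Pw.one _) rfl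
  · exact absurd hc (by decide)
  · exact Pw.mod u8_pow u8_w3 rfl
  · exact absurd hc (by decide)
  · exact Pw.mod u8_pow u8_w5 rfl
  · exact absurd hc (by decide)
  · exact Pw.mod u8_pow (u8_w3.mul u8_w5) rfl

theorem u8_rat : Rat u8 := Rat.of (N := 8) (by rw [card_G]; decide) (by norm_num) u8_pow u8_rw

theorem u8_dat : Dat u8 (2 ^ 3) 96 :=
  Dat.of (N := 8) (by rw [card_G]; decide) (by norm_num) u8_pow u8_card fun j hj hc => Or.inl (u8_rw j hj hc)

end Cfsg.Agent.H933.OZ.U62
end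

-- part: H933/OZ/U62
section
/-!
# S4842: the row `U_6(2)` (helper933)
-/

set_option autoImplicit false

namespace Cfsg.Agent.H933.OZ.U62

open Cfsg Cfsg.Agent.Characters Cfsg.Agent.CharactersDeep Cfsg.Agent.H732.VZ Orb
open Cfsg.Agent.H686.CharKit Cfsg.Agent.SporadicA.FieldFour

theorem card_GU : Nat.card (GU 6 F4 2) = 82771476480 := by
  have h := S0277.result hF 6
  norm_num only [Finset.prod_range_succ, Nat.even_iff, _root_.Finset.range_one, _root_.Finset.prod_singleton, _root_.ite_true, _root_.ite_false] at h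
  exact h

instance simp6 : IsSimpleGroup (PSU 6 F4 2) := Cfsg.Agent.S0283.result hF 6 (by norm_num) (by omega)

theorem not_comm : ¬ IsMulCommutative (PSU 6 F4 2) := by
  intro h
  let _ : CommGroup (PSU 6 F4 2) := { mul_comm := fun a b => h.is_comm.comm a b }
  have h1 : (Nat.card (PSU 6 F4 2)).Prime := IsSimpleGroup.prime_card
  rw [card_G] at h1
  exact absurd h1 (by norm_num)

/-- minimal degree -/
theorem deg_ge (χ : IrrCharacter (PSU 6 F4 2)) (h : 2 ≤ charDegree (χ : PSU 6 F4 2 → ℂ)) :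
    21 ≤ charDegree (χ : PSU 6 F4 2 → ℂ) := by
  have h1 : IsIrrCharacter (SU 6 F4 2) ((χ : PSU 6 F4 2 → ℂ) ∘ pr) :=
    Core.isIrr_comp pr (QuotientGroup.mk'_surjective _) χ.2
  obtain ⟨k, ρ, hρ, hk⟩ := h1
  have h2 : charDegree (χ : PSU 6 F4 2 → ℂ) = k := by
    have h3 := congrFun hk 1
    rw [Representation.char_one, Module.finrank_fin_fun, Function.comp, map_one, ← charDegree_irr χ] at h3
    exact_mod_cast h3.symm
  rw [h2] at h ⊢
  exact S2335.result 6 2 (by norm_num) (by decide) hF (by decide) k ρ hρ h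

theorem four_le_c {χ : IrrCharacter (PSU 6 F4 2)} {x : PSU 6 F4 2} (h : _root_.Cfsg.Agent.H732.VZ.One χ x) :
    4 ≤ Nat.card (Subgroup.centralizer ({x} : Set (PSU 6 F4 2))) :=
  four_le (by rw [card_G]; norm_num) (by rw [card_G]; norm_num) h

/-- even degree -/
theorem even {χ : IrrCharacter (PSU 6 F4 2)} {x : PSU 6 F4 2} (h : _root_.Cfsg.Agent.H732.VZ.One χ x)
    (hd : 2 ∣ charDegree (χ : PSU 6 F4 2 → ℂ)) : ∃ y ∈ orb u8, IsConj x y := by
  by_contra hcon
  push Not at hcon
  have h1 := u8_dat.cost h hcon (k := 3) fun y hy =>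
    le_trans (by norm_num) (u8_dat.sq_le u8_rat Nat.prime_two h hcon hd hy)
  rw [card_GU, card_G] at h1
  have h2 := four_le_c h
  omega

/-- degree divisible by three -/
theorem three {χ : IrrCharacter (PSU 6 F4 2)} {x : PSU 6 F4 2} (h : _root_.Cfsg.Agent.H732.VZ.One χ x)
    (hd : 3 ∣ charDegree (χ : PSU 6 F4 2 → ℂ)) : ∃ y ∈ orb t9, IsConj x y := by
  by_contra hcon
  push Not at hcon
  have h1 := t9_dat.cost h hcon (k := 8) fun y hy =>
    le_trans (by norm_num) (t9_dat.sq_le t9_rat Nat.prime_three h hcon hd hy)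
  rw [card_GU, card_G] at h1
  have h2 := four_le_c h
  omega

theorem none {χ : IrrCharacter (PSU 6 F4 2)} {x : PSU 6 F4 2} (h : _root_.Cfsg.Agent.H732.VZ.One χ x) : False := by
  have hd1 := H604.OZ.one_lt_deg h
  have hdvd := H604.OZ.deg_dvd χ
  have hfac : Nat.card (PSU 6 F4 2) = 2 ^ 15 * 3 ^ 6 * 5 * 7 * 11 := by rw [card_G]; norm_num
  have hmem : ∀ r : ℕ, r.Prime → r ∣ charDegree (χ : PSU 6 F4 2 → ℂ) →
      r = 2 ∨ r = 3 ∨ r = 5 ∨ r = 7 ∨ r = 11 := by
    intro r hr hrd
    have h1 := hrd.trans hdvd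
    rw [hfac] at h1
    simp only [hr.dvd_mul] at h1
    rcases h1 with (((h1 | h1) | h1) | h1) | h1
    · exact Or.inl ((Nat.prime_dvd_prime_iff_eq hr Nat.prime_two).1 (hr.dvd_of_dvd_pow h1))
    · exact Or.inr (Or.inl ((Nat.prime_dvd_prime_iff_eq hr Nat.prime_three).1 (hr.dvd_of_dvd_pow h1)))
    · exact Or.inr (Or.inr (Or.inl ((Nat.prime_dvd_prime_iff_eq hr Nat.prime_five).1 h1)))
    · exact Or.inr (Or.inr (Or.inr (Or.inl ((Nat.prime_dvd_prime_iff_eq hr (by norm_num)).1 h1))))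
    · exact Or.inr (Or.inr (Or.inr (Or.inr ((Nat.prime_dvd_prime_iff_eq hr (by norm_num)).1 h1))))
  have hex : ∀ r : ℕ, r = 5 ∨ r = 7 ∨ r = 11 → r ∣ charDegree (χ : PSU 6 F4 2 → ℂ) → x ^ r = 1 := by
    rintro r (rfl | rfl | rfl) hrd
    · exact pow_eq_one_of_dvd (n := 2 ^ 15 * 3 ^ 6 * 7 * 11) (by norm_num) (by rw [hfac]; norm_num)
        (by norm_num) h hrd
    · exact pow_eq_one_of_dvd (n := 2 ^ 15 * 3 ^ 6 * 5 * 11) (by norm_num) (by rw [hfac]; norm_num)
        (by norm_num) h hrd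
    · exact pow_eq_one_of_dvd (n := 2 ^ 15 * 3 ^ 6 * 5 * 7) (by norm_num) (by rw [hfac]; norm_num)
        (by norm_num) h hrd
  have hkill : ∀ r : ℕ, r.Prime → r ∣ charDegree (χ : PSU 6 F4 2 → ℂ) → ∃ k : ℕ, x ^ (r ^ k) = 1 := by
    intro r hr hrd
    rcases hmem r hr hrd with rfl | rfl | h5
    · obtain ⟨y, hy, hxy⟩ := even h hrd
      exact ⟨3, pow_eq_one_of_isConj hxy (u8_dat.pow y hy)⟩
    · obtain ⟨y, hy, hxy⟩ := three h hrd
      exact ⟨2, pow_eq_one_of_isConj hxy (t9_dat.pow y hy)⟩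
    · exact ⟨1, by rw [pow_one]; exact hex r h5 hrd⟩
  obtain ⟨r, hr, hrd⟩ := Nat.exists_prime_and_dvd hd1.ne'
  obtain ⟨i, hi⟩ := deg_prime_pow h hkill hr hrd
  have hxr : x ^ r = 1 := pow_eq_one_of_deg not_comm hr (hrd.trans hdvd) h hi
  rcases hmem r hr hrd with rfl | rfl | h5
  · obtain ⟨y, hy, hxy⟩ := even h hrd
    refine pow_ne_one u8_ne hy ?_
    refine pow_eq_one_of_isConj hxy.symm ?_
    rw [show 4 = 2 * 2 from rfl, pow_mul, hxr, one_pow]
  · obtain ⟨y, hy, hxy⟩ := three h hrd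
    exact pow_ne_one t9_ne hy (pow_eq_one_of_isConj hxy.symm hxr)
  · have h21 := deg_ge χ hd1
    have hi1 : i ≤ 1 := by
      by_contra hcon
      have h1 : r ^ 2 ∣ Nat.card (PSU 6 F4 2) := (pow_dvd_pow r (by omega)).trans (hi ▸ hdvd)
      rw [card_G] at h1
      rcases h5 with rfl | rfl | rfl <;> exact absurd h1 (by norm_num)
    have h2 : charDegree (χ : PSU 6 F4 2 → ℂ) ≤ r := by
      rw [hi]
      calc r ^ i ≤ r ^ 1 := Nat.pow_le_pow_right hr.pos hi1
        _ = r := pow_one r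
    omega

universe u

/-- **`U_6(2)`** -/
theorem row_u62 {S : Type u} [Group S] [Finite S] {F : Type} [Field F] [Fintype F]
    (hF : Fintype.card F = 2 ^ 2) (e : S ≃* PSU 6 F 2) : H730.OZ.Row S := by
  obtain ⟨f⟩ := SporadicStructure.PsuMatch.psu_iso_of_card (F := F) (K := F4) (by rw [hF]; rfl) 6 2
  exact H730.OZ.Row.congr (e.trans f) (H604.OZ.row_of fun _ _ h => none h)

end Cfsg.Agent.H933.OZ.U62
end

-- part: H876/OZU/Psu
section
/-!
# S4842: the family `IsPSU` (helper876; `PSU_3`: helper279; `U_4(2)`, `U_4(3)`, `U_6(2)`: helper933)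
-/

set_option autoImplicit false

namespace Cfsg.Agent.H876.OZU

open Cfsg Cfsg.Agent.H730.OZ

universe u

/-- **The family `IsPSU`.** -/
theorem row_isPSU {S : Type u} [Group S] [Finite S] (hs : IsSimpleGroup S) (h : Cfsg.IsPSU S) : Row S := by
  obtain ⟨F, _, _, n, q, hF, hn, hex, ⟨e⟩⟩ := h
  have hq : 2 ≤ q := by
    by_contra h2
    have h3 : q ^ 2 ≤ 1 := by
      have h4 : q ≤ 1 := by omega
      calc q ^ 2 ≤ 1 ^ 2 := Nat.pow_le_pow_left h4 2
        _ = 1 := one_pow 2
    have h5 : 1 < Fintype.card F := Fintype.one_lt_card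
    omega
  by_cases hn3 : n = 3
  · subst hn3
    exact Cfsg.Agent.H279.OZ.row_psu3 hF (by
      by_contra h3
      exact hex ⟨rfl, by omega⟩) e
  by_cases h42 : n = 4 ∧ q = 2
  · obtain ⟨rfl, rfl⟩ := h42
    exact Cfsg.Agent.H933.OZ.U42.row_u42 hF e
  by_cases h43 : n = 4 ∧ q = 3
  · obtain ⟨rfl, rfl⟩ := h43
    exact Cfsg.Agent.H933.OZ.U43.row_u43 hF e
  by_cases h62 : n = 6 ∧ q = 2
  · obtain ⟨rfl, rfl⟩ := h62
    exact Cfsg.Agent.H933.OZ.U62.row_u62 hF e
  exact row_psu hs hF (by (clear * - hn hn3; omega)) ⟨fun h1 => by omega, h62⟩ e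

end Cfsg.Agent.H876.OZU
end
end

-- part: H730/OZ/Alt_mg
section
prune_inst 0x31200100042210000000000000000200700000000000000040600800000020600900200004000000000800000004000811000090420000000a000000000000000000940081090000820080000000000000000000000000000000800000000000008000000
set_option linter.all false
open scoped Cfsg.Agent.FastGrp

-- part: H956/OZ/Comb4
section
/-!
# S4842, alternating groups: every beta-set is good (helper956)
-/

set_option autoImplicit false

namespace Cfsg.Agent.H956.OZ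

open Finset Cfsg.Agent.H614

variable {n : ℕ} {B B' : Finset ℕ} {x y d : ℕ}

/-- **`n` odd.** -/
theorem good_odd (h7 : 7 ≤ n) (ho : Odd n) (H : MH n B B' x y d) : Good n B := by
  have hd := H.dle
  rcases Nat.eq_zero_or_pos d with h0 | hpos
  · subst h0
    exact hook_odd H h7 ho
  have hsplit : ∃ r, n ≤ r + 1 ∧ 2 ≤ r ∧ ZT n B {r} :=
    ⟨n, by omega, by omega, zt1 (by omega) le_rfl ho (H.vz (by omega) _)⟩
  by_cases he : Even (n - d)
  · exact Or.inr (Or.inl ⟨oddNZ_of_even H he, Or.inr hsplit⟩)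
  obtain ⟨k, hk⟩ := ho
  by_cases h2 : d = 2
  · subst h2
    refine Or.inr (Or.inl ⟨?_, Or.inr hsplit⟩)
    refine oddNZ2 (r := n - 2) (t := 2) (by omega) le_rfl (by omega) ⟨k, by omega⟩ ?_
    rw [show n - (n - 2 + 2) = 0 by omega, Multiset.replicate_zero]
    refine H.nz ?_
    have hone : ∀ C : Finset ℕ, (∀ b, b ∈ C ↔ b < n) → Nz n 0 C := by
      intro C hC
      have : C = range n := by ext b; rw [hC, mem_range]
      rw [this]
      exact nz_zero
    obtain ⟨l, rfl⟩ : ∃ l, n = l + 2 := ⟨n - 2, by omega⟩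
    rcases inner2 H.card' H.sum' with h | h
    · refine nz_step (b := l + 3) ((h _).2 (by omega)) (by omega) (fun h' => by rw [h] at h'; omega)
        (fun c hc hne hr => by rw [h] at hc ⊢; omega) (hone _ fun b => ?_)
      rw [mem_insert, mem_erase, h]
      (clear * -; omega)
    · refine nz_step (b := l + 2) ((h _).2 (by omega)) (by omega) (fun h' => by rw [h] at h'; omega)
        (fun c hc hne hr => by rw [h] at hc ⊢; omega) (hone _ fun b => ?_)
      rw [mem_insert, mem_erase, h]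
      (clear * -; omega)
  have h4 : 4 ≤ d := by
    by_contra hlt
    obtain h | h : d = 1 ∨ d = 3 := by omega
    · exact he ⟨k, by omega⟩
    · exact he ⟨k - 1, by omega⟩
  left
  refine ⟨{n - 2}, (n - 3) ::ₘ {2}, ne_types, zt1 (by omega) (by omega) ⟨k - 1, by omega⟩ (H.vz (by omega) _),
    zt2 (by omega) (by omega) (by omega) ⟨k, by omega⟩ (H.vz (by omega) _), Or.inl ?_, Or.inr ⟨2, by simp, by decide⟩⟩
  rw [Multiset.sum_singleton]; omega

/-! ### `n` even -/

/-- near hooks -/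
theorem good_near (h7 : 7 ≤ n) (he : Even n) (H : MH n B B' x y 1) : Good n B := by
  obtain ⟨k, hk⟩ := he
  have hl := H.len
  have hm : ∀ b, b ∈ B ↔ b = n + y - 1 ∨ ((b = n ∨ b + 1 < n) ∧ b ≠ y) := by
    intro b
    obtain ⟨l, hl'⟩ : ∃ l, n = l + 1 := ⟨n - 1, by omega⟩
    subst hl'
    rw [H.mem, inner1 H.card' H.sum', show x = l + 1 + y - 1 by omega]
    (clear * -; (solve | lia | omega))
  have hy1 : y ∈ B' := (H.mem' y).2 (Or.inl rfl)
  have hyn : y + 1 < n := by
    by_contra h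
    have h1 : n - 1 ∉ B := by
      rw [hm]
      intro h2
      have h3 := H.lt
      rcases h2 with h2 | h2
      · have h4 : y = 0 := by omega
        omega
      · omega
    have h2 := H.low (n - 1)
    have h3 : ¬ (n - 1 < y) := fun h4 => h1 (h2 h4)
    have h4 : y = n - 1 := by omega
    obtain ⟨l, hl'⟩ : ∃ l, n = l + 1 := ⟨n - 1, by omega⟩
    subst hl'
    rw [inner1 H.card' H.sum'] at hy1
    omega
  have hy2 : 2 ≤ y := by
    have h1 : n ∈ B := by
      rw [hm]
      omega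
    have h2 := H.max n h1
    have h3 : x ≠ n := by
      intro h4
      obtain ⟨l, hl'⟩ : ∃ l, n = l + 1 := ⟨n - 1, by omega⟩
      subst hl'
      have h5 : l + 1 ∈ B' := (inner1 H.card' H.sum' _).2 (Or.inl rfl)
      rw [H.mem'] at h5
      omega
    omega
  -- types
  have z1 : y ≠ 2 → y + 2 ≠ n → ZT n B ((n - 2) ::ₘ {2}) := by
    intro h1 h2
    refine zt2 (by omega) le_rfl (by omega) ⟨k, by omega⟩ (vz_no _ (by omega) ?_)
    intro b hb hr
    rw [hm] at hb ⊢
    (clear * - hyn hy2 h1 h2 hb; solve | lia | omega)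
  have z2 : y ≠ 3 → y + 3 ≠ n → ZT n B {n - 3} := by
    intro h1 h2
    refine zt1 (by omega) (by omega) ⟨k - 2, by omega⟩ (vz_no _ (by omega) ?_)
    intro b hb hr
    rw [hm] at hb ⊢
    (clear * - h7 hk hyn hy2 h1 h2 hb; solve | lia | omega)
  have ns1 : NS n ((n - 2) ::ₘ {2}) := Or.inr ⟨2, by simp, by decide⟩
  have ns2 : NS n {n - 3} := Or.inl (by rw [Multiset.sum_singleton]; omega)
  have ns3 : NS n ((n - 4) ::ₘ {4}) := Or.inr ⟨4, by simp, by decide⟩
  by_cases h3 : y = 3 ∨ y + 3 = n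
  · left
    refine ⟨_, _, ?_, z1 (by omega) (by omega), ?_, ns1, ns3⟩
    · intro hc
      have h2 : (2 : ℕ) ∈ (n - 4) ::ₘ ({4} : Multiset ℕ) := by rw [← hc]; simp
      rw [Multiset.mem_cons, Multiset.mem_singleton] at h2
      omega
    · refine zt2 (by omega) (by omega) (by omega) ⟨k, by omega⟩ (vz_no _ (by omega) ?_)
      intro b hb hr
      rw [hm] at hb ⊢
      (solve | lia | omega)
  by_cases h2 : y = 2 ∨ y + 2 = n
  · left
    refine ⟨_, _, ne_types, z2 (by omega) (by omega), ?_, ns2, ns3⟩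
    refine zt2 (by omega) (by omega) (by omega) ⟨k, by omega⟩ ?_
    rcases h2 with h2 | h2
    · refine vz_step (b := n - 2) ((hm _).2 (by omega)) (by omega) (fun h => by rw [hm] at h; omega)
        (fun c hc hne hr => by rw [hm] at hc ⊢; (clear * - h7 hk h2 hc hne; solve | lia | omega)) (vz_no _ (by omega) ?_)
      intro b hb hr
      rw [mem_insert, mem_erase, hm] at hb ⊢
      (clear * - hk hyn h2 hb; solve | lia | omega)
    · refine vz_step (b := n + y - 1) ((hm _).2 (by omega)) (by omega) (fun h => by rw [hm] at h; omega)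
        (fun c hc hne hr => by rw [hm] at hc ⊢; (clear * - h7 h2 hc hne; solve | lia | omega)) (vz_no _ (by omega) ?_)
      intro b hb hr
      rw [mem_insert, mem_erase, hm] at hb ⊢
      (clear * - h2 hb hr; solve | lia | omega)
  · left
    exact ⟨_, _, ne_types, z2 (by omega) (by omega), z1 (by omega) (by omega), ns2, ns1⟩

/-- inner partition of size three -/
theorem good_three (h7 : 7 ≤ n) (he : Even n) (H : MH n B B' x y 3) : Good n B := by
  obtain ⟨k, hk⟩ := he
  have hl := H.len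
  have hsplit : ∃ r, n ≤ r + 1 ∧ 2 ≤ r ∧ ZT n B {r} :=
    ⟨n - 1, by omega, by omega, zt1 (by omega) (by omega) ⟨k - 1, by omega⟩ (H.vz (by omega) _)⟩
  have o1 : Nz n (2 ::ₘ {1}) B' → OddNZ n B := by
    intro h
    refine oddNZ2 (r := n - 3) (t := 2) (by omega) le_rfl (by omega) ⟨k - 1, by omega⟩ ?_
    rw [show n - (n - 3 + 2) = 1 by omega, Multiset.replicate_one]
    exact H.nz h
  have hone : ∀ C : Finset ℕ, (∑ b ∈ C, b = 1 + ∑ i ∈ range n, i) → Nz n {1} C := by
    intro C hC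
    exact nz_ones (d := 1) hC
  have hsum : ∀ (C : Finset ℕ) (b : ℕ), b ∈ C → 2 ≤ b → b - 2 ∉ C → ∑ c ∈ C, c = 3 + ∑ i ∈ range n, i →
      ∑ c ∈ insert (b - 2) (C.erase b), c = 1 + ∑ i ∈ range n, i := by
    intro C b hb h2 hb' hs
    rw [sum_insert fun h => hb' (mem_of_mem_erase h)]
    have := add_sum_erase C (fun c => c) hb
    have h3 : b + ∑ c ∈ C.erase b, c = ∑ c ∈ C, c := this
    omega
  obtain ⟨l, hl'⟩ : ∃ l, n = l + 3 := ⟨n - 3, by omega⟩
  subst hl'
  rcases inner3 H.card' H.sum' with h | h | h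
  · refine Or.inr (Or.inl ⟨o1 ?_, Or.inr hsplit⟩)
    have hb : l + 5 ∈ B' := (h _).2 (by omega)
    have hb' : l + 5 - 2 ∉ B' := fun h' => by rw [h] at h'; omega
    exact nz_step (b := l + 5) hb (by omega) hb' (fun c hc hne hr => by rw [h] at hc ⊢; omega)
      (hone _ (hsum _ _ hb (by omega) hb' H.sum'))
  swap
  · refine Or.inr (Or.inl ⟨o1 ?_, Or.inr hsplit⟩)
    have hb : l + 2 ∈ B' := (h _).2 (by omega)
    have hb' : l + 2 - 2 ∉ B' := fun h' => by rw [h] at h'; omega
    exact nz_step (b := l + 2) hb (by omega) hb' (fun c hc hne hr => by rw [h] at hc ⊢; omega)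
      (hone _ (hsum _ _ hb (by omega) hb' H.sum'))
  -- the inner partition `(2, 1)`
  have hm : ∀ b, b ∈ B ↔ b = l + y ∨ ((b = l + 4 ∨ b = l + 2 ∨ b < l + 1) ∧ b ≠ y) := by
    intro b
    rw [H.mem, h, show x = l + y by omega]
  have hyl : y < l + 1 := by
    by_contra h1
    have h2 : l + 1 ∉ B := by
      rw [hm]
      intro h2
      have h3 := H.lt
      omega
    have h3 : ¬ (l + 1 < y) := fun h4 => h2 (H.low _ h4)
    have h4 : y = l + 1 := by omega
    have h5 := (h y).1 ((H.mem' y).2 (Or.inl rfl))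
    omega
  have hy5 : 5 ≤ y := by
    have h1 : l + 4 ∈ B' := (h _).2 (Or.inl rfl)
    rw [H.mem'] at h1
    rcases h1 with h1 | ⟨h1, h2⟩
    · omega
    · have := H.max _ h1
      omega
  by_cases hmid : y ≠ 5 ∧ y ≠ l
  · -- two missing hook lengths
    left
    refine ⟨(l + 1) ::ₘ {2}, (l - 1) ::ₘ {4}, ?_, zt2 (by omega) le_rfl (by omega) ⟨k, by omega⟩ (H.vz (by omega) _),
      zt2 (by omega) (by omega) (by omega) ⟨k, by omega⟩ (vz_no _ (by omega) ?_), Or.inr ⟨2, by simp, by decide⟩,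
      Or.inr ⟨4, by simp, by decide⟩⟩
    · intro hc
      have h2 : (2 : ℕ) ∈ (l - 1) ::ₘ ({4} : Multiset ℕ) := by rw [← hc]; simp
      rw [Multiset.mem_cons, Multiset.mem_singleton] at h2
      omega
    · intro b hb hr
      rw [hm] at hb ⊢
      (clear * - hyl hy5 hmid hb; (solve | lia | omega))
  by_cases hboth : y = 5 ∧ l = 5
  · -- `n = 8`, the partition `(3, 3, 2)`
    obtain ⟨rfl, rfl⟩ := hboth
    left
    refine ⟨(5 + 1) ::ₘ {2}, 3 ::ₘ {3}, by decide, zt2 (by omega) le_rfl (by omega) ⟨k, by omega⟩ (H.vz (by omega) _),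
      zt2 (by omega) (by omega) (by omega) ⟨3, by omega⟩ ?_, Or.inr ⟨2, by simp, by decide⟩, Or.inl (by simp)⟩
    refine vz_step (b := 9) ((hm _).2 (by omega)) (by omega) (fun h => by rw [hm] at h; omega)
      (fun c hc hne hr => by rw [hm] at hc ⊢; omega) (vz_no _ (by omega) ?_)
    intro b hb hr
    rw [mem_insert, mem_erase, hm] at hb ⊢
    omega
  -- a unique hook of length `n - 4`
  refine Or.inr (Or.inl ⟨oddNZ1 (r := l - 1) (by omega) (by omega) ⟨k - 2, by omega⟩ ?_, Or.inr hsplit⟩)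
  rw [show l + 3 - (l - 1) = 4 by omega]
  have hsum' : ∀ (b : ℕ), b ∈ B → l - 1 ≤ b → b - (l - 1) ∉ B →
      ∑ c ∈ insert (b - (l - 1)) (B.erase b), c = 4 + ∑ i ∈ range (l + 3), i := by
    intro b hb h2 hb'
    rw [sum_insert fun h => hb' (mem_of_mem_erase h)]
    have h3 : b + ∑ c ∈ B.erase b, c = ∑ c ∈ B, c := add_sum_erase B (fun c => c) hb
    have h4 : x + ∑ c ∈ B.erase x, c = ∑ c ∈ B, c := add_sum_erase B (fun c => c) H.hx
    have h5 : B' = insert y (B.erase x) := by
      ext c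
      rw [H.mem', mem_insert, mem_erase, and_comm]
    have h6 := H.sum'
    rw [h5, sum_insert fun h => H.hy (mem_of_mem_erase h)] at h6
    omega
  by_cases hy : y = 5
  · have hb : l + 4 ∈ B := (hm _).2 (by omega)
    have hb' : l + 4 - (l - 1) ∉ B := fun h' => by rw [hm] at h'; omega
    exact nz_step hb (by omega) hb' (fun c hc hne hr => by rw [hm] at hc ⊢; (clear * - hyl hboth hy hc hne; (solve | lia | omega))) (nz_ones (hsum' _ hb (by omega) hb'))
  · have hb : l + y ∈ B := (hm _).2 (by omega)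
    have hb' : l + y - (l - 1) ∉ B := fun h' => by rw [hm] at h'; (clear * - hyl hy5 hmid hy h'; omega)
    exact nz_step hb (by omega) hb' (fun c hc hne hr => by rw [hm] at hc ⊢; (clear * - hyl hy5 hy hc hne; (solve | lia | omega))) (nz_ones (hsum' _ hb (by omega) hb'))

/-- **`n` even.** -/
theorem good_even (h7 : 7 ≤ n) (he : Even n) (H : MH n B B' x y d) : Good n B := by
  have hd := H.dle
  rcases Nat.eq_zero_or_pos d with h0 | hpos
  · subst h0
    exact hook_even H h7 he
  obtain ⟨k, hk⟩ := he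
  by_cases hpar : Even (n - d)
  · refine Or.inr (Or.inl ⟨oddNZ_of_even H hpar, Or.inr ⟨n - 1, by omega, by omega, ?_⟩⟩)
    obtain ⟨j, hj⟩ := hpar
    exact zt1 (by omega) (by omega) ⟨k - 1, by omega⟩ (H.vz (by omega) _)
  by_cases h1 : d = 1
  · subst h1
    exact good_near h7 ⟨k, hk⟩ H
  by_cases h3 : d = 3
  · subst h3
    exact good_three h7 ⟨k, hk⟩ H
  have h5 : 5 ≤ d := by
    by_contra hlt
    obtain h | h : d = 2 ∨ d = 4 := by omega
    · exact hpar ⟨k - 1, by omega⟩
    · exact hpar ⟨k - 2, by omega⟩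
  left
  refine ⟨{n - 3}, (n - 2) ::ₘ {2}, ne_types, zt1 (by omega) (by omega) ⟨k - 2, by omega⟩ (H.vz (by omega) _),
    zt2 (by omega) (by omega) (by omega) ⟨k, by omega⟩ (H.vz (by omega) _), Or.inl ?_, Or.inr ⟨2, by simp, by decide⟩⟩
  rw [Multiset.sum_singleton]; omega

/-- **Every beta-set is good.** -/
theorem good {n : ℕ} (h7 : 7 ≤ n) {B : Finset ℕ} (hc : B.card = n) (hs : ∑ b ∈ B, b = n + ∑ i ∈ range n, i) :
    Good n B := by
  obtain ⟨B', x, y, d, H⟩ := exists_MH (by omega) hc hs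
  rcases Nat.even_or_odd n with h | h
  · exact good_even h7 h H
  · exact good_odd h7 h H

end Cfsg.Agent.H956.OZ
end

-- part: H956/OZ/Alt
section
/-!
# S4842, alternating groups of degree at least seven (helper956)

No irreducible character vanishes on exactly one class.
-/

set_option autoImplicit false

namespace Cfsg.Agent.H956.OZ

open Finset Cfsg Cfsg.Agent.H614 Equiv Equiv.Perm Cfsg.Agent.Characters.Core
open Cfsg.Agent.H730.OZ (OneZero Concl Row)

/-- zeros of a constituent at a class which does not split -/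
theorem zero_nonsplit {G : Type*} [Group G] [Fintype G] (N : Subgroup G) [N.Normal] [Fintype N] {χ : G → ℂ}
    (hχ : IsIrrCharacter G χ) {θ : N → ℂ} (hθ : IsIrrCharacter N θ)
    (hne : classInner (fun n : N => χ n) θ ≠ 0) (g : N) (h0 : χ g = 0)
    (hcl : ∀ x : G, ∃ c : N, (c : G) * g * (c : G)⁻¹ = x * g * x⁻¹) : θ g = 0 := by
  obtain ⟨S, hS, hconj, heq⟩ := Blocks.PrimeNormal.restrict_eq N hχ hθ hne
  have h1 := congrFun heq g
  simp only [Pi.smul_apply, Finset.sum_apply] at h1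
  rw [h0] at h1
  have h2 : ∀ η ∈ S, (η : N → ℂ) g = θ g := by
    intro η hη
    obtain ⟨x, hx⟩ := hconj η hη
    rw [hx]
    obtain ⟨c, hc⟩ := hcl x
    have h3 : MulAut.conjNormal x g = c * g * c⁻¹ := by
      apply Subtype.ext
      rw [MulAut.conjNormal_apply]
      exact hc.symm
    show θ (MulAut.conjNormal x g) = θ g
    rw [h3]
    exact isIrr_isClassFunction hθ g c
  rw [Finset.sum_congr rfl h2, Finset.sum_const, smul_eq_mul, nsmul_eq_mul] at h1
  have h3 : (S.card : ℂ) ≠ 0 := by exact_mod_cast hS.ne'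
  rcases mul_eq_zero.1 h1.symm with h4 | h4
  · exact absurd h4 hne
  · rcases mul_eq_zero.1 h4 with h5 | h5
    · exact absurd h5 h3
    · exact h5

section

variable {n : ℕ}

theorem exists_odd_swap (hn : 2 ≤ n) : ∃ τ : Perm (Fin n), sign τ = -1 := by
  refine ⟨swap ⟨0, by omega⟩ ⟨1, by omega⟩, sign_swap ?_⟩
  intro h
  have := congrArg Fin.val h
  simp at this

/-- classes commuting with an odd permutation do not split -/
theorem conj_of_ns {g : alternatingGroup (Fin n)} {c : Multiset ℕ} (hg : (g : Perm (Fin n)).cycleType = c)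
    (hns : NS n c) (x : Perm (Fin n)) :
    ∃ k : alternatingGroup (Fin n), (k : Perm (Fin n)) * g * (k : Perm (Fin n))⁻¹ = x * g * x⁻¹ := by
  by_cases hx : x ∈ alternatingGroup (Fin n)
  · exact ⟨⟨x, hx⟩, rfl⟩
  have h1 : ¬ Subgroup.centralizer {(g : Perm (Fin n))} ≤ alternatingGroup (Fin n) := by
    rw [centralizer_le_alternating_iff, hg, Fintype.card_fin]
    rintro ⟨h1, h2, -⟩
    rcases hns with h | ⟨a, ha, hae⟩
    · omega
    · exact absurd (h1 a ha) (Nat.not_odd_iff_even.2 hae)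
  obtain ⟨s, hs, hs'⟩ := SetLike.not_le_iff_exists.1 h1
  have h2 : x * s ∈ alternatingGroup (Fin n) := by
    rw [mem_alternatingGroup] at hx hs' ⊢
    rw [map_mul, (Int.units_eq_one_or _).resolve_left hx, (Int.units_eq_one_or _).resolve_left hs']
    decide
  refine ⟨⟨x * s, h2⟩, ?_⟩
  show x * s * g * (x * s)⁻¹ = x * g * x⁻¹
  rw [Subgroup.mem_centralizer_singleton_iff] at hs
  calc x * s * g * (x * s)⁻¹ = x * (s * g) * s⁻¹ * x⁻¹ := by group
    _ = x * (g * s) * s⁻¹ * x⁻¹ := by rw [hs]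
    _ = x * g * x⁻¹ := by group

/-- the class of an `r`-cycle, `r ≥ n - 1` odd, splits -/
theorem split_not_conj {g : alternatingGroup (Fin n)} {r : ℕ} (hg : (g : Perm (Fin n)).cycleType = {r})
    (hr : n ≤ r + 1) (ho : Odd r) {τ : Perm (Fin n)} (hτ : sign τ = -1) (hy : τ * g * τ⁻¹ ∈ alternatingGroup (Fin n)) :
    ¬ IsConj g ⟨τ * g * τ⁻¹, hy⟩ := by
  intro hc
  obtain ⟨c, hc⟩ := isConj_iff.1 hc
  have h1 : (c : Perm (Fin n)) * g * (c : Perm (Fin n))⁻¹ = τ * g * τ⁻¹ := congrArg Subtype.val hc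
  have h2 : τ⁻¹ * (c : Perm (Fin n)) ∈ Subgroup.centralizer ({(g : Perm (Fin n))} : Set (Perm (Fin n))) := by
    rw [Subgroup.mem_centralizer_singleton_iff]
    calc τ⁻¹ * (c : Perm (Fin n)) * g = τ⁻¹ * ((c : Perm (Fin n)) * g * (c : Perm (Fin n))⁻¹) * c := by group
      _ = τ⁻¹ * (τ * g * τ⁻¹) * c := by rw [h1]
      _ = g * (τ⁻¹ * (c : Perm (Fin n))) := by group
  have h3 : Subgroup.centralizer {(g : Perm (Fin n))} ≤ alternatingGroup (Fin n) := by
    rw [centralizer_le_alternating_iff, hg, Fintype.card_fin]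
    refine ⟨?_, by simpa using hr, ?_⟩
    · intro a ha
      rw [Multiset.mem_singleton.1 ha]
      exact ho
    · intro i
      rw [Multiset.count_singleton]
      split_ifs <;> omega
  have h4 := h3 h2
  rw [mem_alternatingGroup, map_mul, map_inv, hτ, mem_alternatingGroup.1 c.2] at h4
  exact absurd h4 (by decide)

theorem card_le_fin : Fintype.card (Fin n) ≤ n := by rw [Fintype.card_fin]

/-- **The alternating groups of degree at least seven**: no irreducible character vanishes on exactly one class. -/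
theorem not_oneZero (h7 : 7 ≤ n) {θ : alternatingGroup (Fin n) → ℂ}
    (hθ : IsIrrCharacter (alternatingGroup (Fin n)) θ) : ¬ OneZero θ := by
  classical
  have : Nontrivial (Fin n) := Fin.nontrivial_iff_two_le.2 (by omega)
  have hidx : (alternatingGroup (Fin n)).index = 2 := alternatingGroup.index_eq_two
  obtain ⟨ψ, hψ, hne⟩ := CharDeep.PowerDegrees.exists_irr_over (alternatingGroup (Fin n)) hθ
  obtain ⟨β, hβ, hs, rfl⟩ := irr_eq (m := n) card_le_fin hψ
  rw [Fintype.card_fin] at hs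
  set B := univ.image β with hB
  have hinj := hβ.injective
  have hgood : Good n B := good h7 (card_image hinj hB.symm) (by rw [sum_image hinj hB.symm, hs, sum_fin_range])
  have hval : ∀ (g : Perm (Fin n)) (c : Multiset ℕ), g.cycleType = c →
      ch (Fin n) β g = (FM (c + Multiset.replicate (n - c.sum) 1) β : ℂ) := by
    intro g c hg
    rw [ch_apply, ty_eq, hg, Fintype.card_fin]
  have hZ : ∀ c : Multiset ℕ, ZT n B c → ∃ g : alternatingGroup (Fin n), (g : Perm (Fin n)).cycleType = c ∧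
      ch (Fin n) β g = 0 := by
    rintro c ⟨h2, hle, he, hv⟩
    obtain ⟨g, hg, -⟩ := H620.PNAlt.exists_type c hle h2 he
    refine ⟨g, hg, ?_⟩
    rw [hval _ _ hg, hv β hinj hB.symm, Int.cast_zero]
  have hdich := restrict_two (alternatingGroup (Fin n)) hidx hψ hθ hne
  rintro ⟨x, hx0, hx⟩
  have hcon : ∀ g g' : alternatingGroup (Fin n), θ g = 0 → θ g' = 0 →
      (g : Perm (Fin n)).cycleType = (g' : Perm (Fin n)).cycleType := by
    intro g g' hg hg'
    obtain ⟨c, hc⟩ := isConj_iff.1 ((hx g hg).symm.trans (hx g' hg'))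
    have h1 : IsConj (g : Perm (Fin n)) (g' : Perm (Fin n)) :=
      isConj_iff.2 ⟨(c : Perm (Fin n)), congrArg Subtype.val hc⟩
    exact isConj_iff_cycleType_eq.1 h1
  rcases hgood with ⟨c, c', hcc, hc, hc', hn, hn'⟩ | ⟨⟨o, ho2, hos, hoo, hoN⟩, hrest⟩ | hlin
  · obtain ⟨g, hg, hg0⟩ := hZ c hc
    obtain ⟨g', hg', hg0'⟩ := hZ c' hc'
    have h1 := zero_nonsplit (alternatingGroup (Fin n)) hψ hθ hne g hg0 (conj_of_ns hg hn)
    have h2 := zero_nonsplit (alternatingGroup (Fin n)) hψ hθ hne g' hg0' (conj_of_ns hg' hn')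
    have h3 := hcon g g' h1 h2
    rw [hg, hg'] at h3
    exact hcc h3
  · -- the restriction is irreducible
    have hC1 : ∀ g : alternatingGroup (Fin n), ch (Fin n) β g = θ g := by
      rcases hdich with h | ⟨-, h⟩
      · exact h
      · exfalso
        obtain ⟨g, hg⟩ := (exists_with_cycleType_iff (α := Fin n) (m := o)).2 ⟨by rw [Fintype.card_fin]; exact hos, ho2⟩
        have h1 : g ∉ alternatingGroup (Fin n) := by
          rw [mem_alternatingGroup, sign_of_cycleType, hg, hoo.neg_one_pow]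
          decide
        have h2 := h g h1
        rw [hval _ _ hg] at h2
        exact hoN β hinj hB.symm (by exact_mod_cast h2)
    rcases hrest with ⟨c, c', hcc, hc, hc'⟩ | ⟨r, hr, hr2, hrZ⟩
    · obtain ⟨g, hg, hg0⟩ := hZ c hc
      obtain ⟨g', hg', hg0'⟩ := hZ c' hc'
      have h3 := hcon g g' (by rw [← hC1, hg0]) (by rw [← hC1, hg0'])
      rw [hg, hg'] at h3
      exact hcc h3
    · obtain ⟨g, hg, hg0⟩ := hZ _ hrZ
      obtain ⟨τ, hτ⟩ := exists_odd_swap (n := n) (by omega)
      have hro : Odd r := by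
        have h1 := hrZ.2.2.1
        rw [Multiset.sum_singleton, Multiset.card_singleton, Nat.even_add_one, Nat.not_even_iff_odd] at h1
        exact h1
      have hy : τ * g * τ⁻¹ ∈ alternatingGroup (Fin n) := by
        rw [mem_alternatingGroup, map_mul, map_mul, map_inv, hτ, mem_alternatingGroup.1 g.2]
        decide
      refine split_not_conj hg hr hro hτ hy ?_
      refine (hx g (by rw [← hC1, hg0])).symm.trans (hx _ ?_)
      rw [← hC1]
      show ch (Fin n) β (τ * g * τ⁻¹) = 0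
      have h1 : (τ * (g : Perm (Fin n)) * τ⁻¹).cycleType = {r} := by rw [cycleType_conj, hg]
      rw [hval _ _ h1, ← hval _ _ hg, hg0]
  · -- linear characters
    have hnz : ∀ g : Perm (Fin n), ch (Fin n) β g ≠ 0 := by
      intro g h0
      rw [ch_apply] at h0
      have h1 : (ty g).sum = n := by
        rw [ty_eq, Multiset.sum_add, Multiset.sum_replicate, Fintype.card_fin, smul_eq_mul, mul_one]
        have := g.sum_cycleType_le
        rw [Fintype.card_fin] at this
        omega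
      have h2 : ∀ a ∈ ty g, 0 < a := by
        intro a ha
        rw [ty_eq, Multiset.mem_add] at ha
        rcases ha with ha | ha
        · exact (one_lt_of_mem_cycleType ha).le
        · rw [Multiset.eq_of_mem_replicate ha]; exact one_pos
      exact hlin (ty g) h1 h2 β hinj hB.symm (by exact_mod_cast h0)
    rcases hdich with h | ⟨-, h⟩
    · exact hnz _ ((h x).trans hx0)
    · obtain ⟨τ, hτ⟩ := exists_odd_swap (n := n) (by omega)
      refine hnz τ (h τ ?_)
      rw [mem_alternatingGroup, hτ]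
      decide

end

end Cfsg.Agent.H956.OZ
end

-- part: H956/OZ/Row
section
/-!
# S4842, the row of the alternating groups (helper956)
-/

set_option autoImplicit false

namespace Cfsg.Agent.H956.OZ

open Finset Cfsg Cfsg.Agent.H614 Equiv Equiv.Perm Cfsg.Agent.Characters.Core
open Cfsg.Agent.H730.OZ (OneZero Concl Row)

universe u

/-- `OneZero` transports along isomorphisms -/
theorem oneZero_congr {S T : Type*} [Group S] [Group T] (e : S ≃* T) {χ : S → ℂ} (h : OneZero χ) :
    OneZero (χ ∘ (e.symm : T → S)) := by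
  obtain ⟨x, hx0, hx⟩ := h
  refine ⟨e x, by simpa using hx0, fun y hy => ?_⟩
  obtain ⟨c, hc⟩ := isConj_iff.1 (hx (e.symm y) hy)
  refine isConj_iff.2 ⟨e c, ?_⟩
  rw [← map_inv, ← map_mul, ← map_mul, hc, e.apply_symm_apply]

/-- The two exceptional alternating groups are groups `PSL₂(q)`, `q ≥ 5`. -/
theorem alt_cases {S : Type u} [Group S] (h : IsAlternating S) :
    (∃ n, 7 ≤ n ∧ Nonempty (S ≃* alternatingGroup (Fin n))) ∨
      ∃ (F : Type) (_ : Field F) (_ : Fintype F), (Fintype.card F = 5 ∨ Fintype.card F = 9) ∧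
        Nonempty (S ≃* Matrix.ProjectiveSpecialLinearGroup (Fin 2) F) := by
  obtain ⟨n, hn, ⟨e⟩⟩ := h
  rcases Nat.lt_or_ge n 7 with h7 | h7
  · right
    have h56 : n = 5 ∨ n = 6 := by omega
    rcases h56 with rfl | rfl
    · have h5 : Fact (Nat.Prime 5) := ⟨by norm_num⟩
      obtain ⟨e'⟩ := S0253.result (F := ZMod 5) (by rw [ZMod.card])
      exact ⟨ZMod 5, inferInstance, inferInstance, Or.inl (by rw [ZMod.card]), ⟨e.trans e'.symm⟩⟩
    · have : Fact (Nat.Prime 3) := ⟨by norm_num⟩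
      have : Fintype (GaloisField 3 2) := Fintype.ofFinite _
      have hF : Fintype.card (GaloisField 3 2) = 9 := by
        rw [← Nat.card_eq_fintype_card, GaloisField.card 3 2 (by norm_num)]
        norm_num
      obtain ⟨e'⟩ := S0254.result hF
      exact ⟨GaloisField 3 2, inferInstance, inferInstance, Or.inr hF, ⟨e.trans e'.symm⟩⟩
  · exact Or.inl ⟨n, h7, ⟨e⟩⟩

/-- **Alternating groups, degree at least seven**: no irreducible character vanishes on exactly one class. -/
theorem not_oneZero_of_iso {S : Type u} [Group S] {n : ℕ} (h7 : 7 ≤ n) (e : S ≃* alternatingGroup (Fin n)) {χ : S → ℂ}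
    (hχ : IsIrrCharacter S χ) : ¬ OneZero χ := fun h =>
  not_oneZero h7 (isIrr_comp (e.symm : alternatingGroup (Fin n) →* S) e.symm.surjective hχ) (oneZero_congr e h)

/-- **The row of the alternating groups** (degrees 5 and 6 are `PSL₂(5)` and `PSL₂(9)`). -/
theorem row_alt {S : Type u} [Group S] [Finite S] (h : IsAlternating S)
    (h2 : (∃ (F : Type) (_ : Field F) (_ : Fintype F), (Fintype.card F = 5 ∨ Fintype.card F = 9) ∧
        Nonempty (S ≃* Matrix.ProjectiveSpecialLinearGroup (Fin 2) F)) → Row S) : Row S := by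
  rcases alt_cases h with ⟨n, h7, ⟨e⟩⟩ | h
  · exact fun χ hχ h1 => absurd h1 (not_oneZero_of_iso h7 e hχ)
  · exact h2 h

end Cfsg.Agent.H956.OZ
end

-- part: H730/OZ/Alt
section
/-!
# S4842: the alternating groups without hypotheses (helper730)
-/

set_option autoImplicit false

open Cfsg

namespace Cfsg.Agent.H730.OZ

universe u

theorem row_alternating {S : Type u} [Group S] [Finite S] (h : IsAlternating S) : Row S :=
  Cfsg.Agent.H956.OZ.row_alt h fun ⟨_, _, _, hF, ⟨e⟩⟩ => Cfsg.Agent.H846.OZ.row_psl2 (by omega) e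

end Cfsg.Agent.H730.OZ
end

-- part: H866/OZ/Pi
section
/-!
# S4842: the projections of rank one and the torus (helper866)
-/

set_option autoImplicit false
set_option linter.unusedSectionVars false
set_option maxHeartbeats 400000

namespace Cfsg.Agent.H866.OZ

open CoxeterSystem Cfsg.Agent.ChevalleyStructure.CoxeterGeom Cfsg.Agent.Tits.Roots Cfsg.Agent.Tits.Core
  Cfsg.Agent.Tits.Exchange Cfsg.Agent.Nodes.Reps Cfsg.Agent.Nodes.BNOf Cfsg.Agent.Nodes.StabComb
  Cfsg.Agent.Nodes.Bruhat Cfsg.Agent.Nodes.OppDec Cfsg.Agent.Nodes.LeviDec Cfsg.Agent.Nodes.NormalForm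
open Cfsg.Agent.ChevalleyStructure.SL2Hom (up lo mem_closure_SL2)
open Cfsg.Agent.Nodes.RGDFoldSL (wS hS coe_wS coe_hS)
open LinearMap (trace)

section Alg

variable {F : Type*} [Field F] [Fintype F] [DecidableEq F] {A : Type*} [Ring A] [Algebra ℂ A]
  {ψ : Matrix.SpecialLinearGroup (Fin 2) F →* A} {ε : A} (hεε : ε * ε = ε) (hεc : ∀ g, ε * ψ g = ψ g * ε)

include hεε hεc

theorem piA_piA : piA ψ ε * piA ψ ε = piA ψ ε := by
  have h1 : th ψ ε * eta ψ * piA ψ ε = piA ψ ε := by
    rw [mul_assoc, eta_piA hεε hεc, th_piA hεε hεc]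
  have h2 : uu ψ ε * eta ψ * piA ψ ε = piA ψ ε := by
    rw [mul_assoc, eta_piA hεε hεc, uu_piA hεε hεc]
  conv_lhs => rw [show piA ψ ε * piA ψ ε =
    ((qq F + 1)⁻¹ • (qq F • (th ψ ε * eta ψ) + uu ψ ε * eta ψ)) * piA ψ ε from rfl]
  rw [smul_mul_assoc, add_mul, smul_mul_assoc, h1, h2]
  have := qq_add_ne (F := F)
  match_scalars
  field_simp

theorem piS_piS : piS ψ ε * piS ψ ε = piS ψ ε := by
  have h1 : th ψ ε * eta ψ * piS ψ ε = (-(qq F)⁻¹) • piS ψ ε := by
    rw [mul_assoc, eta_piS hεε hεc, th_piS hεε hεc]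
  have h2 : uu ψ ε * eta ψ * piS ψ ε = piS ψ ε := by
    rw [mul_assoc, eta_piS hεε hεc, uu_piS hεε hεc]
  conv_lhs => rw [show piS ψ ε * piS ψ ε =
    ((qq F + 1)⁻¹ • (qq F • (uu ψ ε * eta ψ - th ψ ε * eta ψ))) * piS ψ ε from rfl]
  rw [smul_mul_assoc, smul_mul_assoc, sub_mul, h1, h2]
  have := qq_add_ne (F := F)
  have := qq_ne_zero (F := F)
  match_scalars
  field_simp
  ring

/-- an element which normalises commutes with the projections -/
theorem comm_th_eta {τ : A} (hu : τ * uu ψ ε = uu ψ ε * τ) (hh : ∀ c : F, c ≠ 0 → τ * ψ (hS c) = ψ (hS c) * τ)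
    {d : F} (hd : d ≠ 0) (hw : τ * ψ (wS 1) = ψ (wS 1) * ψ (hS d) * τ) :
    τ * (th ψ ε * eta ψ) = th ψ ε * eta ψ * τ := by
  have he := comm_eta ψ hh
  calc τ * (th ψ ε * eta ψ) = τ * uu ψ ε * ψ (wS 1) * uu ψ ε * eta ψ := by rw [th]; simp only [mul_assoc]
    _ = uu ψ ε * (τ * ψ (wS 1)) * uu ψ ε * eta ψ := by rw [hu]; simp only [mul_assoc]
    _ = uu ψ ε * ψ (wS 1) * ψ (hS d) * (τ * uu ψ ε) * eta ψ := by rw [hw]; simp only [mul_assoc]
    _ = uu ψ ε * ψ (wS 1) * (ψ (hS d) * uu ψ ε) * (τ * eta ψ) := by rw [hu]; simp only [mul_assoc]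
    _ = uu ψ ε * ψ (wS 1) * uu ψ ε * (ψ (hS d) * eta ψ) * τ := by rw [hS_uu hεε hεc hd, he]; simp only [mul_assoc]
    _ = _ := by rw [hS_eta ψ hd, th]

theorem comm_piA {τ : A} (hu : τ * uu ψ ε = uu ψ ε * τ) (hh : ∀ c : F, c ≠ 0 → τ * ψ (hS c) = ψ (hS c) * τ)
    {d : F} (hd : d ≠ 0) (hw : τ * ψ (wS 1) = ψ (wS 1) * ψ (hS d) * τ) : τ * piA ψ ε = piA ψ ε * τ := by
  have h1 := comm_th_eta hεε hεc hu hh hd hw
  have h2 : τ * (uu ψ ε * eta ψ) = uu ψ ε * eta ψ * τ := by
    rw [← mul_assoc, hu, mul_assoc, comm_eta ψ hh, mul_assoc]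
  rw [piA, mul_smul_comm, smul_mul_assoc, mul_add, add_mul, mul_smul_comm, smul_mul_assoc, h1, h2]

theorem comm_piS {τ : A} (hu : τ * uu ψ ε = uu ψ ε * τ) (hh : ∀ c : F, c ≠ 0 → τ * ψ (hS c) = ψ (hS c) * τ)
    {d : F} (hd : d ≠ 0) (hw : τ * ψ (wS 1) = ψ (wS 1) * ψ (hS d) * τ) : τ * piS ψ ε = piS ψ ε * τ := by
  have h1 := comm_th_eta hεε hεc hu hh hd hw
  have h2 : τ * (uu ψ ε * eta ψ) = uu ψ ε * eta ψ * τ := by
    rw [← mul_assoc, hu, mul_assoc, comm_eta ψ hh, mul_assoc]
  rw [piS, mul_smul_comm, smul_mul_assoc, mul_smul_comm, smul_mul_assoc, mul_sub, sub_mul, h1, h2]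

end Alg

variable {I W Y : Type*} [Fintype I] [DecidableEq I] [Group W] [Group Y] [Finite Y] {M : CoxeterMatrix I}
  {cs : CoxeterSystem M W} {A : I → I → ℤ} {h : IsCartan M A} {p : ℕ} {T : Subgroup Y} {n : I → Y}
  {X : (I → ℤ) → Subgroup Y} {V : Type*} [AddCommGroup V] [Module ℂ V] [FiniteDimensional ℂ V]
  {ρ : Representation ℂ Y V} {F : Type*} [Field F] [Fintype F] [DecidableEq F] (R : RGD cs h p T n X)
  {i : I} {Φ : Matrix.SpecialLinearGroup (Fin 2) F →* Y}

include R

/-- **the difference of the traces is a small integer** -/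
theorem Co.small [Finite W] (C : Co T n X i Φ) (hG : GG cs h T X = ⊤) (hρ : ρ.IsIrreducible)
    (hT : ∀ s ∈ T, ∀ t ∈ T, s * t = t * s) (hn : ∀ t ∈ T, ∃ d : F, d ≠ 0 ∧ t * n i = n i * Φ (hS d) * t) :
    ∃ z : ℤ, trace ℂ V (piA (ps ρ Φ) (eV ρ cs h X i)) - trace ℂ V (piS (ps ρ Φ) (eV ρ cs h X i)) = z ∧
      (z = 0 ∨ 2 * z.natAbs ≤ Nat.card W) := by
  have hεε : eV ρ cs h X i * eV ρ cs h X i = eV ρ cs h X i := eV_eV R
  have hεc : ∀ B, eV ρ cs h X i * ps ρ Φ B = ps ρ Φ B * eV ρ cs h X i := fun B => C.eV_comm R B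
  obtain ⟨π, hπd⟩ : ∃ π, π = piA (ps ρ Φ) (eV ρ cs h X i) := ⟨_, rfl⟩
  obtain ⟨σ, hσd⟩ : ∃ σ, σ = piS (ps ρ Φ) (eV ρ cs h X i) := ⟨_, rfl⟩
  have hπ : π * π = π := by rw [hπd]; exact piA_piA hεε hεc
  have hσ : σ * σ = σ := by rw [hσd]; exact piS_piS hεε hεc
  have huπ : eU ρ cs h X * π = π := by rw [hπd, ← C.uu_eq R]; exact uu_piA hεε hεc
  have huσ : eU ρ cs h X * σ = σ := by rw [hσd, ← C.uu_eq R]; exact uu_piS hεε hεc
  have htπ : th (ps ρ Φ) (eV ρ cs h X i) * π = π := by rw [hπd]; exact th_piA hεε hεc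
  have htσ : th (ps ρ Φ) (eV ρ cs h X i) * σ = (-(qq F)⁻¹) • σ := by rw [hσd]; exact th_piS hεε hεc
  have hcomm : ∀ t ∈ T, ρ t * π = π * ρ t ∧ ρ t * σ = σ * ρ t := by
    intro t ht
    obtain ⟨d, hd, e⟩ := hn t ht
    have hu : ρ t * uu (ps ρ Φ) (eV ρ cs h X i) = uu (ps ρ Φ) (eV ρ cs h X i) * ρ t := by
      rw [C.uu_eq R]
      exact T_comm_eU R ht
    have hh : ∀ c : F, c ≠ 0 → ρ t * ps ρ Φ (hS c) = ps ρ Φ (hS c) * ρ t := by
      intro c hc
      rw [ps_apply, ← map_mul, ← map_mul, hT t ht _ (C.tor c hc)]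
    have hw : ρ t * ps ρ Φ (wS 1) = ps ρ Φ (wS 1) * ps ρ Φ (hS d) * ρ t := by
      rw [ps_apply, ps_apply, C.w, ← map_mul, ← map_mul, ← map_mul, e]
    rw [hπd, hσd]
    exact ⟨comm_piA hεε hεc hu hh hd hw, comm_piS hεε hεc hu hh hd hw⟩
  -- an eigenvector bounds the dimension
  have key : ∀ {κ : Module.End ℂ V} {c : ℂ}, κ * κ = κ → eU ρ cs h X * κ = κ →
      th (ps ρ Φ) (eV ρ cs h X i) * κ = c • κ → (∀ t ∈ T, ρ t * κ = κ * ρ t) → κ ≠ 0 →
      2 * Module.finrank ℂ (LinearMap.range (eU ρ cs h X)) ≤ Nat.card W := by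
    intro κ c h1 h2 h3 h4 h5
    obtain ⟨v, hv0, hv, hvT⟩ := exists_eigen_T (ρ := ρ) h1 h4 h5 hT
    have h6 : eU ρ cs h X v = v := by
      conv_lhs => rw [← hv]
      have := LinearMap.congr_fun h2 v
      rw [Module.End.mul_apply, hv] at this
      rw [hv]
      exact this
    refine finrank_M R hG hρ (i := i) hv0 (fun u hu => ?_) hvT (c := c) ?_
    · rw [← h6]
      exact eU_fix R hu v
    · have h7 := LinearMap.congr_fun h3 v
      rw [th_eq hεε hεc, C.uu_eq R, ps_apply, C.w, Module.End.mul_apply, LinearMap.smul_apply, hv, Module.End.mul_apply,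
        Module.End.mul_apply, h6] at h7
      exact h7
  have hle : ∀ {κ : Module.End ℂ V}, eU ρ cs h X * κ = κ →
      Module.finrank ℂ (LinearMap.range κ) ≤ Module.finrank ℂ (LinearMap.range (eU ρ cs h X)) := by
    intro κ h2
    refine Submodule.finrank_mono ?_
    rintro _ ⟨v, rfl⟩
    exact ⟨κ v, LinearMap.congr_fun h2 v⟩
  refine ⟨(Module.finrank ℂ (LinearMap.range π) : ℤ) - Module.finrank ℂ (LinearMap.range σ), ?_, ?_⟩
  · rw [← hπd, ← hσd, trace_idem hπ, trace_idem hσ]
    push_cast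
    ring
  · by_cases h1 : π = 0
    · by_cases h2 : σ = 0
      · left
        rw [h1, h2, LinearMap.range_zero, finrank_bot]
        simp
      · right
        have h3 := key hσ huσ htσ (fun t ht => (hcomm t ht).2) h2
        have h4 := hle huπ
        have h5 := hle huσ
        omega
    · right
      have h3 := key (c := 1) hπ huπ (by rw [htπ, one_smul]) (fun t ht => (hcomm t ht).1) h1
      have h4 := hle huπ
      have h5 := hle huσ
      omega

end Cfsg.Agent.H866.OZ
end

-- part: H866/OZ/RowD4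
section
/-!
# S4842: the row `³D₄(q)` (helper866)
-/

set_option autoImplicit false
set_option linter.unusedSectionVars false
set_option maxHeartbeats 400000

namespace Cfsg.Agent.H866.OZ.D4

open CoxeterSystem Cfsg.Agent.ChevalleyStructure.CoxeterGeom Cfsg.Agent.Tits.Roots Cfsg.Agent.Tits.Core
  Cfsg.Agent.Tits.Exchange Cfsg.Agent.Nodes.Reps Cfsg.Agent.Nodes.BNOf Cfsg.Agent.Nodes.StabComb
  Cfsg.Agent.Nodes.Bruhat Cfsg.Agent.Nodes.OppDec Cfsg.Agent.Nodes.LeviDec Cfsg.Agent.Nodes.RGDTwGen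
  Cfsg.Agent.Nodes.RGDChev Cfsg.Agent.Nodes.RGDFold Cfsg.Agent.Nodes.RGDFoldSL
open Cfsg.Agent.KFacts.RgdOpp Cfsg.Agent.KFacts.RgdAut Cfsg.Agent.KFacts.RgdDiag Cfsg.Agent.KFacts.RgdRigid
  Cfsg.Agent.KFacts.RgdField Cfsg.Agent.KFacts.RgdTau Cfsg.Agent.KFacts.RgdNodes
open Cfsg.Lie Cfsg.Agent.ChevalleyStructure Cfsg.Agent.ChevalleyStructure.Elts
open Cfsg.Agent.ChevalleyStructure.SL2Hom (up lo mem_closure_SL2)
open Cfsg.Agent.KFacts.TwDFour.Out
open Cfsg.Agent.Nodes.RGDTwD4 Cfsg.Agent.Nodes.RGDTwNode.D4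
open Cfsg.Agent.CpAut.RgdFix Cfsg.Agent.CpAut.RgdConj Cfsg.Agent.CpAut.RgdTwStd Cfsg.Agent.CpAut.RgdTwD4
open Cfsg.Agent.H866.D4Wf.Frame
open Cfsg.Agent.KFacts.TwESix.NodeCoord (hS_mul)
open Cfsg.Agent.H631.Kaw (pel mem_pel)
open LinearMap (trace)

variable {K : Type} [Field K] [Fintype K] {q : ℕ} (hK : Fintype.card K = q ^ 3)
  {φ : K →+* K} (hφ : ∀ x, φ x = x ^ q)

/-! ### the orders -/

include hK hφ in
theorem card_root (hq : IsPrimePow q) : Nat.card (X φ q ![1, 0]) = q ∧ Nat.card (X φ q ![0, 1]) = q ^ 3 ∧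
    Nat.card (X φ q ![1, 1]) = q ^ 3 ∧ Nat.card (X φ q ![1, 2]) = q ^ 3 ∧ Nat.card (X φ q ![1, 3]) = q ∧
    Nat.card (X φ q ![2, 3]) = q := by
  obtain ⟨r, hr⟩ := CharP.exists K
  have : Fact r.Prime := ⟨CharP.char_is_prime K r⟩
  have : Finite CoxeterMatrix.G₂.Group := finiteW cs
  have R := rgd' hK hφ r
  have h10 : Nat.card (X φ q ![1, 0]) = q := by rw [← sr0_eq]; exact card_X0 hK hφ hq
  have h01 : Nat.card (X φ q ![0, 1]) = q ^ 3 := by rw [← sr1_eq]; exact card_X1 hK hφ
  have h11 := Cfsg.Agent.Nodes.CardSup.card_X_rep R (cs.simple 0) (isRoot_of_mem (z := ![0, 1]) (by decide))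
  rw [rep0, show (![1 - 0, 1] : Fin 2 → ℤ) = ![1, 1] by decide, h01] at h11
  have h12 := Cfsg.Agent.Nodes.CardSup.card_X_rep R (cs.simple 1) (isRoot_of_mem (z := ![1, 1]) (by decide))
  rw [rep1, show (![1, 3 * 1 - 1] : Fin 2 → ℤ) = ![1, 2] by decide, h11] at h12
  have h13 := Cfsg.Agent.Nodes.CardSup.card_X_rep R (cs.simple 1) (isRoot_of_mem (z := ![1, 0]) (by decide))
  rw [rep1, show (![1, 3 * 1 - 0] : Fin 2 → ℤ) = ![1, 3] by decide, h10] at h13
  exact ⟨h10, h01, h11, h12, h13, card_X23 hK hφ hq⟩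

include hK hφ in
theorem card_U (hq : IsPrimePow q) : Nat.card (RGD.Sup (X φ q) (RGD.Pos cs isCartan)) = q ^ 12 := by
  classical
  obtain ⟨r, hr⟩ := CharP.exists K
  have : Fact r.Prime := ⟨CharP.char_is_prime K r⟩
  have : Finite CoxeterMatrix.G₂.Group := finiteW cs
  have R := rgd' hK hφ r
  obtain ⟨s, hs⟩ : ∃ s : Finset (Fin 2 → ℤ), s = {![1, 0], ![0, 1], ![1, 1], ![1, 2], ![1, 3], ![2, 3]} := ⟨_, rfl⟩
  have h1 : ((s : Finset (Fin 2 → ℤ)) : Set (Fin 2 → ℤ)) = RGD.Pos cs isCartan := by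
    ext x
    rw [Finset.mem_coe]
    constructor
    · intro hx
      rw [hs] at hx
      simp only [Finset.mem_insert, Finset.mem_singleton] at hx
      rcases hx with rfl | rfl | rfl | rfl | rfl | rfl
      all_goals exact ⟨isRoot_of_mem (by decide), by intro j; fin_cases j <;> simp⟩
    · rintro ⟨hx, h0⟩
      have hmem := root_mem hx
      have hx0 : 0 ≤ x 0 := h0 0
      have hx1 : 0 ≤ x 1 := h0 1
      rw [hs]
      simp only [rts, List.mem_cons, List.not_mem_nil, or_false] at hmem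
      simp only [Finset.mem_insert, Finset.mem_singleton]
      rcases hmem with rfl | rfl | rfl | rfl | rfl | rfl | rfl | rfl | rfl | rfl | rfl | rfl
      all_goals first
        | (exfalso; simp only [_root_.Fin.isValue, _root_.Matrix.cons_val_zero, _root_.zero_le_one, _root_.Matrix.cons_val_one, _root_.Matrix.cons_val_fin_one, _root_.Std.le_refl, _root_.Nat.ofNat_nonneg, _root_.Int.reduceNeg, _root_.Int.neg_nonneg, _root_.Int.reduceLE] at hx0 hx1; done)
        | (clear * -; tauto)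
  have h2 := Cfsg.Agent.Nodes.CardSup.card_sup R (s := s) (by rw [h1]) (by rw [h1]; exact Cfsg.Agent.Nodes.Unique.closed_pos)
  rw [h1] at h2
  obtain ⟨h10, h01, h11, h12, h13, h23⟩ := card_root hK hφ hq
  rw [h2, hs, Finset.prod_insert (by decide), Finset.prod_insert (by decide), Finset.prod_insert (by decide),
    Finset.prod_insert (by decide), Finset.prod_insert (by decide), Finset.prod_singleton, h10, h01, h11, h12, h13, h23]
  ring

end Cfsg.Agent.H866.OZ.D4
end

-- part: H866/OZ/RowD4b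
section
/-!
# S4842: the row `³D₄(q)`, the assembly (helper866)
-/

set_option autoImplicit false
set_option linter.unusedSectionVars false
set_option maxHeartbeats 400000

namespace Cfsg.Agent.H866.OZ.D4

open CoxeterSystem Cfsg.Agent.ChevalleyStructure.CoxeterGeom Cfsg.Agent.Tits.Roots Cfsg.Agent.Tits.Core
  Cfsg.Agent.Tits.Exchange Cfsg.Agent.Nodes.Reps Cfsg.Agent.Nodes.BNOf Cfsg.Agent.Nodes.StabComb
  Cfsg.Agent.Nodes.Bruhat Cfsg.Agent.Nodes.OppDec Cfsg.Agent.Nodes.LeviDec Cfsg.Agent.Nodes.RGDTwGen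
  Cfsg.Agent.Nodes.RGDChev Cfsg.Agent.Nodes.RGDFold Cfsg.Agent.Nodes.RGDFoldSL
open Cfsg.Agent.KFacts.RgdOpp Cfsg.Agent.KFacts.RgdAut Cfsg.Agent.KFacts.RgdDiag Cfsg.Agent.KFacts.RgdRigid
  Cfsg.Agent.KFacts.RgdField Cfsg.Agent.KFacts.RgdTau Cfsg.Agent.KFacts.RgdNodes
open Cfsg.Lie Cfsg.Agent.ChevalleyStructure Cfsg.Agent.ChevalleyStructure.Elts
open Cfsg.Agent.ChevalleyStructure.SL2Hom (up lo mem_closure_SL2)
open Cfsg.Agent.KFacts.TwDFour.Out
open Cfsg.Agent.Nodes.RGDTwD4 Cfsg.Agent.Nodes.RGDTwNode.D4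
open Cfsg.Agent.CpAut.RgdFix Cfsg.Agent.CpAut.RgdConj Cfsg.Agent.CpAut.RgdTwStd Cfsg.Agent.CpAut.RgdTwD4
open Cfsg.Agent.H866.D4Wf.Frame
open Cfsg.Agent.KFacts.TwESix.NodeCoord (hS_mul)
open Cfsg.Agent.H631.Kaw (pel mem_pel)
open LinearMap (trace)

variable {K : Type} [Field K] [Fintype K] {q : ℕ} (hK : Fintype.card K = q ^ 3)
  {φ : K →+* K} (hφ : ∀ x, φ x = x ^ q)

/-! ### the sum over the `p`-elements -/

/-- the arithmetic of the orders -/
theorem ratio {Q U B P0 P1 G : ℂ} (hQ0 : Q ≠ 0) (hQ1 : Q - 1 ≠ 0) (hQ2 : Q ^ 2 + Q + 1 ≠ 0) (hQ3 : Q + 1 ≠ 0)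
    (hQ4 : Q ^ 3 + 1 ≠ 0) (hU : U = Q ^ 12) (hB : B = U * ((Q - 1) ^ 2 * (Q ^ 2 + Q + 1))) (h0 : P0 = (1 + Q) * B)
    (h1 : P1 = (1 + Q ^ 3) * B) (hG : G = Q ^ 12 * (Q ^ 2 - 1) * (Q ^ 6 - 1) * (Q ^ 8 + Q ^ 4 + 1)) :
    G / P0 = (Q ^ 8 + Q ^ 4 + 1) * (Q ^ 3 + 1) ∧ G / P1 = (Q ^ 8 + Q ^ 4 + 1) * (Q + 1) ∧
      G / B = (Q ^ 8 + Q ^ 4 + 1) * (Q ^ 3 + 1) * (Q + 1) := by
  have hU0 : U ≠ 0 := by rw [hU]; exact pow_ne_zero _ hQ0
  have hB0 : B ≠ 0 := by rw [hB]; exact mul_ne_zero hU0 (mul_ne_zero (pow_ne_zero _ hQ1) hQ2)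
  have e3 : 1 + Q ^ 3 ≠ 0 := by rw [add_comm]; exact hQ4
  have e1 : 1 + Q ≠ 0 := by rw [add_comm]; exact hQ3
  refine ⟨?_, ?_, ?_⟩
  · rw [div_eq_iff (by rw [h0]; exact mul_ne_zero e1 hB0), h0, hB, hU, hG]
    ring
  · rw [div_eq_iff (by rw [h1]; exact mul_ne_zero e3 hB0), h1, hB, hU, hG]
    ring
  · rw [div_eq_iff hB0, hB, hU, hG]
    ring

variable {V : Type} [AddCommGroup V] [Module ℂ V] [FiniteDimensional ℂ V]
  {ρ : Representation ℂ ↥(twistedD4 K q) V}

include hK hφ in
/-- **the sum over the `p`-elements** -/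
theorem kaw_D4 (hq : IsPrimePow q) {p : ℕ} [Fact p.Prime] [CharP K p] :
    ∑ g ∈ pel ↥(twistedD4 K q) p, trace ℂ V (ρ g) = (q : ℂ) ^ 12 * ((Module.finrank ℂ V : ℂ) -
      ((q : ℂ) ^ 8 + (q : ℂ) ^ 4 + 1) * ((q : ℂ) ^ 3 + 1) * trace ℂ V (eV ρ cs isCartan (X φ q) 0) -
      ((q : ℂ) ^ 8 + (q : ℂ) ^ 4 + 1) * ((q : ℂ) + 1) * trace ℂ V (eV ρ cs isCartan (X φ q) 1) +
      ((q : ℂ) ^ 8 + (q : ℂ) ^ 4 + 1) * ((q : ℂ) ^ 3 + 1) * ((q : ℂ) + 1) * trace ℂ V (eU ρ cs isCartan (X φ q))) := by
  have : Finite CoxeterMatrix.G₂.Group := finiteW cs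
  have R := rgd' hK hφ p
  have h2 := hq.two_le
  have hU := card_U hK hφ hq
  have hB := H35.Poin.card_B' R
  have h0 := card_PJ_one R 0
  have h1 := card_PJ_one R 1
  have hG := Cfsg.Agent.S1067.result hq hK
  rw [hU, card_T hK hφ hq] at hB
  rw [card_X0 hK hφ hq] at h0
  rw [card_X1 hK hφ] at h1
  have hq1 : (1 : ℕ) ≤ q := by omega
  have hq2' : (1 : ℕ) ≤ q ^ 2 := Nat.one_le_pow _ _ (by omega)
  have hq6 : (1 : ℕ) ≤ q ^ 6 := Nat.one_le_pow _ _ (by omega)
  have cU : (Nat.card (RGD.Sup (X φ q) (RGD.Pos cs isCartan)) : ℂ) = (q : ℂ) ^ 12 := by exact_mod_cast hU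
  have cB : (Nat.card (RGD.B cs isCartan (T K q) (X φ q)) : ℂ) =
      (q : ℂ) ^ 12 * (((q : ℂ) - 1) ^ 2 * ((q : ℂ) ^ 2 + q + 1)) := by
    rw [hB]
    push_cast [Nat.cast_sub hq1]
    ring
  have c0 : (Nat.card (PJ cs isCartan (T K q) (X φ q) ({0} : Set (Fin 2))) : ℂ) =
      (1 + (q : ℂ)) * (Nat.card (RGD.B cs isCartan (T K q) (X φ q)) : ℂ) := by
    rw [h0]; push_cast; ring
  have c1 : (Nat.card (PJ cs isCartan (T K q) (X φ q) ({1} : Set (Fin 2))) : ℂ) =
      (1 + (q : ℂ) ^ 3) * (Nat.card (RGD.B cs isCartan (T K q) (X φ q)) : ℂ) := by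
    rw [h1]; push_cast; ring
  have cG : (Nat.card ↥(twistedD4 K q) : ℂ) =
      (q : ℂ) ^ 12 * ((q : ℂ) ^ 2 - 1) * ((q : ℂ) ^ 6 - 1) * ((q : ℂ) ^ 8 + (q : ℂ) ^ 4 + 1) := by
    rw [hG]
    push_cast [Nat.cast_sub hq2', Nat.cast_sub hq6]
    ring
  have n0 : (q : ℂ) ≠ 0 := by exact_mod_cast (by omega : q ≠ 0)
  have n1 : (q : ℂ) - 1 ≠ 0 := by
    rw [sub_ne_zero]
    exact_mod_cast (by omega : q ≠ 1)
  have n2 : (q : ℂ) ^ 2 + q + 1 ≠ 0 := by exact_mod_cast (by positivity : q ^ 2 + q + 1 ≠ 0)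
  have n3 : (q : ℂ) + 1 ≠ 0 := by exact_mod_cast (by omega : q + 1 ≠ 0)
  have n4 : (q : ℂ) ^ 3 + 1 ≠ 0 := by exact_mod_cast (by positivity : q ^ 3 + 1 ≠ 0)
  obtain ⟨r0, r1, rB⟩ := ratio n0 n1 n2 n3 n4 rfl cB c0 c1 cG
  rw [kaw_two R (GG_top hK hφ), cU, r0, r1, rB]

/-! ### the values at the elliptic elements -/

variable {hK hφ}

/-- **the value is zero if `n_0 = 0`** -/
theorem El.chi_zero {l : ℕ} {g : ↥(twistedD4 K q)} (E : El hK hφ l g) (hq : IsPrimePow q)
    [Fintype (KD φ 0)] [DecidableEq (KD φ 0)]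
    (hm : ¬ l ∣ Nat.card (Matrix.SpecialLinearGroup (Fin 2) (KD φ 0)))
    {B : Matrix.SpecialLinearGroup (Fin 2) (KD φ 0)} (hB : Ellip B) (hρ : ρ.IsIrreducible)
    (h0 : eU ρ cs isCartan (X φ q) ≠ 0)
    (hz : trace ℂ V (piA (ps ρ (PhiD hφ hK 0)) (eV ρ cs isCartan (X φ q) 0)) -
      trace ℂ V (piS (ps ρ (PhiD hφ hK 0)) (eV ρ cs isCartan (X φ q) 0)) = 0) :
    trace ℂ V (ρ (g * PhiD hφ hK 0 B)) = 0 := by
  obtain ⟨r, hr⟩ := CharP.exists K
  have : Fact r.Prime := ⟨CharP.char_is_prime K r⟩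
  have : Finite CoxeterMatrix.G₂.Group := finiteW cs
  have R := rgd' hK hφ r
  have hG := GG_top (q := q) hK hφ
  have C := co hK hφ 0
  have hT : ∀ s ∈ T K q, ∀ t ∈ T K q, s * t = t * s := fun s hs t ht => T_comm hK hφ hs ht
  have hk := rp_n' hK hφ r
  obtain ⟨B', hB'⟩ := conj_range hK hφ hk rep_w'_inv_sr0 B
  have hE' := ellip_conj hK hφ hk rep_w'_inv_sr0 hB hB'
  have h1 := C.char_elliptic R hG hρ h0 hT (sur hK hφ hq 0) E.mem (E.comm0 hq) hB
    (fun v hv h => E.free hq hm hB hv h)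
  have h2 := C.char_elliptic R hG hρ h0 hT (sur hK hφ hq 0) E.invEl.mem (E.invEl.comm0 hq) hE'
    (fun v hv h => E.invEl.free hq hm hE' hv h)
  have h3 : trace ℂ V (ρ (g⁻¹ * PhiD hφ hK 0 B')) = trace ℂ V (ρ (g * PhiD hφ hK 0 B)) := by
    have h4 : g⁻¹ * PhiD hφ hK 0 B' = (n' hφ)⁻¹ * (g * PhiD hφ hK 0 B) * n' hφ := by
      rw [← hB', ← E.n'_inv hq]
      group
    rw [h4, mul_assoc, map_mul ρ, LinearMap.trace_mul_comm, ← map_mul, mul_assoc, mul_inv_cancel, mul_one]
  rw [h3] at h2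
  obtain ⟨κ, hκ⟩ := scalar_M R hG hρ E.mem (fun w k hk => E.norm hq hk)
  have hεε : eV ρ cs isCartan (X φ q) 0 * eV ρ cs isCartan (X φ q) 0 = eV ρ cs isCartan (X φ q) 0 := eV_eV R
  have hεc : ∀ B, eV ρ cs isCartan (X φ q) 0 * ps ρ (PhiD hφ hK 0) B = ps ρ (PhiD hφ hK 0) B * eV ρ cs isCartan (X φ q) 0 :=
    fun B => C.eV_comm R B
  have huA : eU ρ cs isCartan (X φ q) * piA (ps ρ (PhiD hφ hK 0)) (eV ρ cs isCartan (X φ q) 0) =
      piA (ps ρ (PhiD hφ hK 0)) (eV ρ cs isCartan (X φ q) 0) := by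
    rw [← C.uu_eq R]; exact uu_piA hεε hεc
  have huS : eU ρ cs isCartan (X φ q) * piS (ps ρ (PhiD hφ hK 0)) (eV ρ cs isCartan (X φ q) 0) =
      piS (ps ρ (PhiD hφ hK 0)) (eV ρ cs isCartan (X φ q) 0) := by
    rw [← C.uu_eq R]; exact uu_piS hεε hεc
  have key : ∀ {π : Module.End ℂ V}, eU ρ cs isCartan (X φ q) * π = π →
      trace ℂ V (ρ g * π) + trace ℂ V (ρ g⁻¹ * π) = κ * trace ℂ V π := by
    intro π hπ
    have h5 : ρ g * π + ρ g⁻¹ * π = κ • π := by
      rw [← add_mul]
      conv_lhs => rw [← hπ]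
      rw [← mul_assoc, hκ, smul_mul_assoc, hπ]
    have h6 := congrArg (trace ℂ V) h5
    rw [map_add, map_smul, smul_eq_mul] at h6
    exact h6
  have kA := key huA
  have kS := key huS
  linear_combination (1 / 2 : ℂ) * h1 + (1 / 2 : ℂ) * h2 + (1 / 2 : ℂ) * kA - (1 / 2 : ℂ) * kS + (κ / 2) * hz

/-- the value is zero if `V^(V_0) = 0` -/
theorem El.chi_zero' {l : ℕ} {g : ↥(twistedD4 K q)} (E : El hK hφ l g) (hq : IsPrimePow q)
    (hm : ¬ l ∣ Nat.card (Matrix.SpecialLinearGroup (Fin 2) (KD φ 0)))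
    {B : Matrix.SpecialLinearGroup (Fin 2) (KD φ 0)} (hB : Ellip B)
    (h0 : eV ρ cs isCartan (X φ q) 0 = 0) : trace ℂ V (ρ (g * PhiD hφ hK 0 B)) = 0 := by
  obtain ⟨r, hr⟩ := CharP.exists K
  have : Fact r.Prime := ⟨CharP.char_is_prime K r⟩
  have : Finite CoxeterMatrix.G₂.Group := finiteW cs
  have R := rgd' hK hφ r
  classical
  have := Fintype.ofFinite (KD φ 0)
  have hnorm : g * PhiD hφ hK 0 B ∈ Subgroup.normalizer (VJ cs isCartan (X φ q) {0} : Set ↥(twistedD4 K q)) :=
    mul_mem (T_le_normalizer_VJ R {0} E.mem) ((co hK hφ 0).mem_normalizer R B)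
  have h1 : trace ℂ V (ρ (g * PhiD hφ hK 0 B) * eV ρ cs isCartan (X φ q) 0) = trace ℂ V (ρ (g * PhiD hφ hK 0 B)) := by
    refine trace_av ρ (fun x hx => ?_) (fun v hv h => E.free hq hm hB hv h)
    have := (Subgroup.mem_normalizer_iff.1 (inv_mem hnorm) x).1 hx
    rwa [inv_inv] at this
  rw [← h1, h0, mul_zero, map_zero]

end Cfsg.Agent.H866.OZ.D4
end

-- part: H866/OZ/ArD4
section
/-!
# S4842: the arithmetic of the row `³D₄(q)` (helper866)
-/

set_option autoImplicit false
set_option maxHeartbeats 400000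

namespace Cfsg.Agent.H866.OZ.D4

theorem exists_odd_prime {q : ℕ} (hq : 2 ≤ q) : ∃ s : ℕ, s.Prime ∧ s ≠ 2 ∧ s ∣ q ^ 2 + 1 := by
  by_contra hcon
  push Not at hcon
  have h3 : ∀ {d : ℕ}, d.Prime → d ∣ q ^ 2 + 1 → d = 2 := by
    intro d hd hdd
    by_contra h
    exact hcon d hd h hdd
  have h4 := Nat.eq_prime_pow_of_unique_prime_dvd (n := q ^ 2 + 1) (by positivity) h3
  obtain ⟨k, hk⟩ : ∃ k, k = (q ^ 2 + 1).primeFactorsList.length := ⟨_, rfl⟩
  rw [← hk] at h4
  have h5 : 4 ≤ q ^ 2 := by nlinarith only [hq]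
  have h6 : ¬ 4 ∣ q ^ 2 + 1 := by
    intro h
    rcases Nat.even_or_odd q with h7 | h7
    · obtain ⟨a, rfl⟩ := h7
      have : (a + a) ^ 2 + 1 = 4 * a ^ 2 + 1 := by ring
      omega
    · obtain ⟨a, rfl⟩ := h7
      have : (2 * a + 1) ^ 2 + 1 = 4 * (a ^ 2 + a) + 2 := by ring
      omega
  apply h6
  rw [h4]
  have h7 : 2 ≤ k := by
    by_contra h
    interval_cases k
    · simp at h4
      omega
    · simp at h4
      omega
  calc 4 = 2 ^ 2 := by norm_num
    _ ∣ 2 ^ k := pow_dvd_pow 2 h7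

theorem z3 : ∀ x : ZMod 3, x ^ 2 ≠ -1 := by decide

theorem no_dvd {q D d G : ℕ} (hq : 2 ≤ q) {s : ℕ} (hs : s.Prime) (hs2 : s ≠ 2) (hsd : s ∣ q ^ 2 + 1)
    (hd : D = d ∨ D = 2 * d) (hdG : d ∣ G) (hG : G = q ^ 12 * (q ^ 2 - 1) * (q ^ 6 - 1) * (q ^ 8 + q ^ 4 + 1))
    (h : s ∣ q ^ 6 * ((q ^ 8 + q ^ 4 + 1) * (q ^ 3 + 1) * D)) : False := by
  have : Fact s.Prime := ⟨hs⟩
  have hi : (q : ZMod s) ^ 2 = -1 := by
    have h1 : ((q ^ 2 + 1 : ℕ) : ZMod s) = 0 := (ZMod.natCast_eq_zero_iff _ _).2 hsd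
    push_cast at h1
    exact eq_neg_of_add_eq_zero_left h1
  have h2 : (2 : ZMod s) ≠ 0 := by
    intro h1
    have h2 : ((2 : ℕ) : ZMod s) = 0 := by exact_mod_cast h1
    rw [ZMod.natCast_eq_zero_iff] at h2
    exact hs2 ((Nat.prime_dvd_prime_iff_eq hs Nat.prime_two).1 h2)
  have h3 : (3 : ZMod s) ≠ 0 := by
    intro h1
    have h2 : ((3 : ℕ) : ZMod s) = 0 := by exact_mod_cast h1
    rw [ZMod.natCast_eq_zero_iff] at h2
    have h4 : s = 3 := (Nat.prime_dvd_prime_iff_eq hs Nat.prime_three).1 h2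
    subst h4
    exact z3 _ hi
  have hq0 : (q : ZMod s) ≠ 0 := by
    intro h1
    rw [h1] at hi
    have : (1 : ZMod s) = 0 := by linear_combination hi
    exact one_ne_zero this
  have hA : (q : ZMod s) ^ 8 + (q : ZMod s) ^ 4 + 1 = 3 := by
    have e4 : (q : ZMod s) ^ 4 = 1 := by
      calc (q : ZMod s) ^ 4 = ((q : ZMod s) ^ 2) ^ 2 := by ring
        _ = 1 := by rw [hi]; ring
    calc (q : ZMod s) ^ 8 + (q : ZMod s) ^ 4 + 1 = ((q : ZMod s) ^ 4) ^ 2 + (q : ZMod s) ^ 4 + 1 := by ring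
      _ = 3 := by rw [e4]; ring
  have h6 : (q : ZMod s) ^ 6 = -1 := by
    calc (q : ZMod s) ^ 6 = ((q : ZMod s) ^ 2) ^ 3 := by ring
      _ = -1 := by rw [hi]; ring
  have hq3 : (q : ZMod s) ^ 3 + 1 ≠ 0 := by
    intro h1
    have h4 : (q : ZMod s) = 1 := by
      have : (q : ZMod s) ^ 3 = -(q : ZMod s) := by
        calc (q : ZMod s) ^ 3 = (q : ZMod s) ^ 2 * q := by ring
          _ = _ := by rw [hi]; ring
      rw [this] at h1
      linear_combination (-1 : ZMod s) * h1
    rw [h4] at hi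
    apply h2
    linear_combination hi
  have h7 : ((q ^ 6 * ((q ^ 8 + q ^ 4 + 1) * (q ^ 3 + 1) * D) : ℕ) : ZMod s) = 0 := (ZMod.natCast_eq_zero_iff _ _).2 h
  push_cast at h7
  rw [hA] at h7
  have hD : (D : ZMod s) = 0 := by
    rcases mul_eq_zero.1 h7 with h8 | h8
    · exact absurd h8 (pow_ne_zero _ hq0)
    · rcases mul_eq_zero.1 h8 with h9 | h9
      · exact absurd h9 (mul_ne_zero h3 hq3)
      · exact h9
  have hd0 : (d : ZMod s) = 0 := by
    rcases hd with rfl | rfl
    · exact hD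
    · push_cast at hD
      rcases mul_eq_zero.1 hD with h8 | h8
      · exact absurd h8 h2
      · exact h8
  obtain ⟨k, hk⟩ := hdG
  have hG0 : (G : ZMod s) = 0 := by rw [hk, Nat.cast_mul, hd0, zero_mul]
  have h12 : (1 : ℕ) ≤ q ^ 2 := Nat.one_le_pow _ _ (by omega)
  have h16 : (1 : ℕ) ≤ q ^ 6 := Nat.one_le_pow _ _ (by omega)
  rw [hG] at hG0
  push_cast [Nat.cast_sub h12, Nat.cast_sub h16] at hG0
  rw [hA, h6, hi] at hG0
  have h9 : (q : ZMod s) ^ 12 = 1 := by
    calc (q : ZMod s) ^ 12 = ((q : ZMod s) ^ 6) ^ 2 := by ring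
      _ = 1 := by rw [h6]; ring
  rw [h9] at hG0
  have h10 : (2 : ZMod s) * 2 * 3 = 0 := by linear_combination hG0
  exact (mul_ne_zero (mul_ne_zero h2 h2) h3) h10

/-- **the cuspidal case** -/
theorem arith_cusp {q N D d G : ℕ} (hq : 2 ≤ q) (hD : D ≠ 0) (hd : D = d ∨ D = 2 * d) (hdG : d ∣ G)
    (hG : G = q ^ 12 * (q ^ 2 - 1) * (q ^ 6 - 1) * (q ^ 8 + q ^ 4 + 1)) {c : ℂ}
    (hc : c = (q : ℂ) ^ 12 ∨ c = -(q : ℂ) ^ 6 ∨ c = -(q : ℂ) ^ 18)
    (h : c * N = (q : ℂ) ^ 12 * (N - ((q : ℂ) ^ 8 + (q : ℂ) ^ 4 + 1) * ((q : ℂ) ^ 3 + 1) * D)) : False := by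
  obtain ⟨s, hs, hs2, hsd⟩ := exists_odd_prime hq
  have hq0 : (q : ℂ) ≠ 0 := by exact_mod_cast (by omega : q ≠ 0)
  have h61 : s ∣ q ^ 6 + 1 := by
    have : q ^ 6 + 1 = (q ^ 2 + 1) * (q ^ 4 + 1 - q ^ 2) := by
      obtain ⟨x, hx⟩ := Nat.exists_eq_add_of_le (show q ^ 2 ≤ q ^ 4 + 1 from
        (Nat.pow_le_pow_right (by omega) (by norm_num)).trans (Nat.le_succ _))
      rw [hx, Nat.add_sub_cancel_left]
      zify at hx ⊢
      linear_combination (-((q : ℤ) ^ 2 + 1)) * (-1 : ℤ) * hx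
    rw [this]
    exact hsd.mul_right _
  rcases hc with rfl | rfl | rfl
  · have h1 : (q : ℂ) ^ 12 * (((q : ℂ) ^ 8 + (q : ℂ) ^ 4 + 1) * ((q : ℂ) ^ 3 + 1) * D) = 0 := by
      linear_combination h
    have h2 : q ^ 12 * ((q ^ 8 + q ^ 4 + 1) * (q ^ 3 + 1) * D) = 0 := by exact_mod_cast h1
    have h3 : q ^ 12 * ((q ^ 8 + q ^ 4 + 1) * (q ^ 3 + 1) * D) ≠ 0 := by positivity
    exact h3 h2
  · have h1 : (q : ℂ) ^ 6 * ((N : ℂ) * ((q : ℂ) ^ 6 + 1)) =
        (q : ℂ) ^ 6 * ((q : ℂ) ^ 6 * (((q : ℂ) ^ 8 + (q : ℂ) ^ 4 + 1) * ((q : ℂ) ^ 3 + 1) * D)) := by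
      linear_combination (-1 : ℂ) * h
    have h2 := mul_left_cancel₀ (pow_ne_zero 6 hq0) h1
    have h3 : N * (q ^ 6 + 1) = q ^ 6 * ((q ^ 8 + q ^ 4 + 1) * (q ^ 3 + 1) * D) := by exact_mod_cast h2
    exact no_dvd hq hs hs2 hsd hd hdG hG (h3 ▸ h61.mul_left _)
  · have h1 : (q : ℂ) ^ 12 * ((N : ℂ) * ((q : ℂ) ^ 6 + 1)) =
        (q : ℂ) ^ 12 * (((q : ℂ) ^ 8 + (q : ℂ) ^ 4 + 1) * ((q : ℂ) ^ 3 + 1) * D) := by
      linear_combination (-1 : ℂ) * h
    have h2 := mul_left_cancel₀ (pow_ne_zero 12 hq0) h1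
    have h3 : N * (q ^ 6 + 1) = (q ^ 8 + q ^ 4 + 1) * (q ^ 3 + 1) * D := by exact_mod_cast h2
    have h4 : s ∣ (q ^ 8 + q ^ 4 + 1) * (q ^ 3 + 1) * D := h3 ▸ h61.mul_left _
    exact no_dvd hq hs hs2 hsd hd hdG hG (h4.mul_left _)

/-- **the principal case** -/
theorem arith_prin {q N : ℕ} (hq : 2 ≤ q) {z0 z1 : ℤ} (hz : z0 = 0 ∨ 2 * z0.natAbs ≤ 12) {dU d0 d1 : ℂ}
    (h : (q : ℂ) ^ 12 * N = (q : ℂ) ^ 12 * (N - ((q : ℂ) ^ 8 + (q : ℂ) ^ 4 + 1) * ((q : ℂ) ^ 3 + 1) * d0 -
      ((q : ℂ) ^ 8 + (q : ℂ) ^ 4 + 1) * ((q : ℂ) + 1) * d1 +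
      ((q : ℂ) ^ 8 + (q : ℂ) ^ 4 + 1) * ((q : ℂ) ^ 3 + 1) * ((q : ℂ) + 1) * dU))
    (h0 : d0 = ((q : ℂ) + 1) / 2 * dU - ((q : ℂ) - 1) / 2 * z0)
    (h1 : d1 = ((q : ℂ) ^ 3 + 1) / 2 * dU - ((q : ℂ) ^ 3 - 1) / 2 * z1) : z0 = 0 := by
  have hq0 : (q : ℂ) ≠ 0 := by exact_mod_cast (by omega : q ≠ 0)
  have hq1 : (q : ℂ) - 1 ≠ 0 := by
    rw [sub_ne_zero]
    exact_mod_cast (by omega : q ≠ 1)
  have hq3 : (q : ℂ) + 1 ≠ 0 := by exact_mod_cast (by omega : q + 1 ≠ 0)
  have hA : (q : ℂ) ^ 8 + (q : ℂ) ^ 4 + 1 ≠ 0 := by exact_mod_cast (by positivity : q ^ 8 + q ^ 4 + 1 ≠ 0)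
  have h2 : ((q : ℂ) ^ 12 * ((q : ℂ) ^ 8 + (q : ℂ) ^ 4 + 1) * ((q : ℂ) + 1) * ((q : ℂ) - 1)) *
      (((q : ℂ) ^ 2 - q + 1) * z0 + ((q : ℂ) ^ 2 + q + 1) * z1) = 0 := by
    rw [h0, h1] at h
    linear_combination (-2 : ℂ) * h
  have h3 : ((q : ℂ) ^ 2 - q + 1) * z0 + ((q : ℂ) ^ 2 + q + 1) * z1 = 0 := by
    rcases mul_eq_zero.1 h2 with h4 | h4
    · exact absurd h4 (mul_ne_zero (mul_ne_zero (mul_ne_zero (pow_ne_zero _ hq0) hA) hq3) hq1)
    · exact h4
  have h4 : ((q : ℤ) ^ 2 - q + 1) * z0 + ((q : ℤ) ^ 2 + q + 1) * z1 = 0 := by exact_mod_cast h3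
  have h5 : ((q : ℤ) ^ 2 + q + 1) ∣ ((q : ℤ) ^ 2 - q + 1) * z0 := ⟨-z1, by linear_combination h4⟩
  have hco : IsCoprime ((q : ℤ) ^ 2 + q + 1) ((q : ℤ) ^ 2 - q + 1) := by
    obtain ⟨k, hk⟩ : Even ((q : ℤ) * (q + 1)) := Int.even_mul_succ_self _
    refine ⟨1 + k * (q - 1), -k * (q + 1), ?_⟩
    linear_combination hk
  have h6 : ((q : ℤ) ^ 2 + q + 1) ∣ z0 := hco.dvd_of_dvd_mul_left h5
  by_contra hne
  have h7 := Int.natAbs_le_of_dvd_ne_zero h6 hne
  have h8 : ((q : ℤ) ^ 2 + q + 1).natAbs = q ^ 2 + q + 1 := by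
    have : ((q : ℤ) ^ 2 + q + 1) = ((q ^ 2 + q + 1 : ℕ) : ℤ) := by push_cast; ring
    rw [this, Int.natAbs_natCast]
  have h9 : 7 ≤ q ^ 2 + q + 1 := by nlinarith only [hq]
  rcases hz with hz | hz
  · exact hne hz
  · omega

end Cfsg.Agent.H866.OZ.D4
end

-- part: H866/OZ/RowD4c
section
/-!
# S4842: the row `³D₄(q)`, final part (helper866)
-/

set_option autoImplicit false
set_option linter.unusedSectionVars false
set_option maxHeartbeats 400000

namespace Cfsg.Agent.H866.OZ.D4

open CoxeterSystem Cfsg.Agent.ChevalleyStructure.CoxeterGeom Cfsg.Agent.Tits.Roots Cfsg.Agent.Tits.Core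
  Cfsg.Agent.Tits.Exchange Cfsg.Agent.Nodes.Reps Cfsg.Agent.Nodes.BNOf Cfsg.Agent.Nodes.StabComb
  Cfsg.Agent.Nodes.Bruhat Cfsg.Agent.Nodes.OppDec Cfsg.Agent.Nodes.LeviDec Cfsg.Agent.Nodes.RGDTwGen
  Cfsg.Agent.Nodes.RGDChev Cfsg.Agent.Nodes.RGDFold Cfsg.Agent.Nodes.RGDFoldSL
open Cfsg.Agent.KFacts.RgdOpp Cfsg.Agent.KFacts.RgdAut Cfsg.Agent.KFacts.RgdDiag Cfsg.Agent.KFacts.RgdRigid
  Cfsg.Agent.KFacts.RgdField Cfsg.Agent.KFacts.RgdTau Cfsg.Agent.KFacts.RgdNodes
open Cfsg.Lie Cfsg.Agent.ChevalleyStructure Cfsg.Agent.ChevalleyStructure.Elts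
open Cfsg.Agent.ChevalleyStructure.SL2Hom (up lo mem_closure_SL2)
open Cfsg.Agent.KFacts.TwDFour.Out
open Cfsg.Agent.Nodes.RGDTwD4 Cfsg.Agent.Nodes.RGDTwNode.D4
open Cfsg.Agent.CpAut.RgdFix Cfsg.Agent.CpAut.RgdConj Cfsg.Agent.CpAut.RgdTwStd Cfsg.Agent.CpAut.RgdTwD4
open Cfsg.Agent.H866.D4Wf.Frame
open Cfsg.Agent.KFacts.TwESix.NodeCoord (hS_mul)
open Cfsg.Agent.H631.Kaw (pel mem_pel)
open Cfsg.Agent.H730.OZ (OneZero Concl Row pSet Kaw)
open LinearMap (trace)

variable {K : Type} [Field K] [Fintype K] {q : ℕ} (hK : Fintype.card K = q ^ 3)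
  {φ : K →+* K} (hφ : ∀ x, φ x = x ^ q)

include hK hφ in
/-- the condition on `t` -/
theorem exists_t (hq : IsPrimePow q) (i : Fin 2) {t : ↥(twistedD4 K q)} (ht : t ∈ T K q) :
    ∃ d : KD φ i, d ≠ 0 ∧ t * n hφ i = n hφ i * PhiD hφ hK i (hS d) * t := by
  have h1 := n_t_n_t hK hφ i ht
  refine ⟨(chD hφ hK i t)⁻¹, inv_ne_zero (ch_ne_zero hK hφ ht i), ?_⟩
  rw [mul_assoc (n hφ i), ← h1]
  group

include hK hφ in
/-- **the two cases** -/
theorem main {N : ℕ} {ρ : Representation ℂ ↥(twistedD4 K q) (Fin N → ℂ)} (hρ : ρ.IsIrreducible) (hq : IsPrimePow q)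
    {p : ℕ} [Fact p.Prime] [CharP K p] {c : ℂ}
    (hc : c = (q : ℂ) ^ 12 ∨ c = -(q : ℂ) ^ 6 ∨ c = -(q : ℂ) ^ 18)
    (hs : ∑ g ∈ pel ↥(twistedD4 K q) p, ρ.character g = c * ρ.character 1) (hz : OneZero ρ.character) : False := by
  classical
  have : Finite CoxeterMatrix.G₂.Group := finiteW cs
  have := Fintype.ofFinite (KD φ 0)
  have := Fintype.ofFinite (KD φ 1)
  have R := rgd' hK hφ p
  have hG := GG_top (q := q) hK hφ
  have hT : ∀ s ∈ T K q, ∀ t ∈ T K q, s * t = t * s := fun s hs t ht => T_comm hK hφ hs ht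
  have h2 := hq.two_le
  have hN : ρ.character 1 = (N : ℂ) := by
    show trace ℂ (Fin N → ℂ) (ρ 1) = _
    rw [map_one]
    have h1 : trace ℂ (Fin N → ℂ) (1 : Module.End ℂ (Fin N → ℂ)) = (Module.finrank ℂ (Fin N → ℂ) : ℂ) :=
      LinearMap.trace_one ℂ (Fin N → ℂ)
    rw [h1, Module.finrank_fin_fun]
  have hkaw := kaw_D4 (ρ := ρ) hK hφ hq (p := p)
  have hs' : ∑ g ∈ pel ↥(twistedD4 K q) p, trace ℂ (Fin N → ℂ) (ρ g) = c * (N : ℂ) := by
    rw [← hN]
    exact hs
  rw [hs', Module.finrank_fin_fun] at hkaw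
  -- the elements
  obtain ⟨l, g, E, h5, hld⟩ := exists_el hK hφ hq
  have hSL : Nat.card (Matrix.SpecialLinearGroup (Fin 2) (KD φ 0)) = q * (q ^ 2 - 1) := by
    rw [card_SL2, card_KD0 hK hφ hq]
  have hm : ¬ l ∣ Nat.card (Matrix.SpecialLinearGroup (Fin 2) (KD φ 0)) := by
    rw [hSL]
    exact not_dvd_SL hq E.prime h5 hld
  obtain ⟨B, hB⟩ := exists_ellip (F := KD φ 0)
  have E2 : El hK hφ l (g ^ 2) := E.powEl fun h => by
    have := Nat.le_of_dvd (by norm_num) h
    omega
  have hno : ¬ (trace ℂ (Fin N → ℂ) (ρ (g * PhiD hφ hK 0 B)) = 0 ∧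
      trace ℂ (Fin N → ℂ) (ρ (g ^ 2 * PhiD hφ hK 0 B)) = 0) := by
    rintro ⟨h3, h4⟩
    obtain ⟨x, -, hx⟩ := hz
    have h6 := (hx _ h3).symm.trans (hx _ h4)
    obtain ⟨y, hy⟩ := isConj_iff.1 h6
    exact E.not_conj hq h5 hm hy
  by_cases h0 : eU ρ cs isCartan (X φ q) = 0
  · -- `V^U = 0`
    have hV : eV ρ cs isCartan (X φ q) 0 ≠ 0 := by
      intro h3
      exact hno ⟨E.chi_zero' hq hm hB h3, E2.chi_zero' hq hm hB h3⟩
    have h1 := rank_two R hG hρ h0 (i := 0) (j := 1) hij hV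
    obtain ⟨d, hd, hdd⟩ := finrank_V R hG hρ h0 (i := 0) hV (n' := n' hφ)
      (fun l hl => n'_both hK hφ hl) (fun w k hk hw => dich hK hφ hk hw)
    have htr : trace ℂ (Fin N → ℂ) (eV ρ cs isCartan (X φ q) 0) =
        (Module.finrank ℂ (LinearMap.range (eV ρ cs isCartan (X φ q) 0)) : ℂ) := trace_idem (eV_eV R)
    rw [h0, h1, map_zero, mul_zero, mul_zero, sub_zero, add_zero, htr] at hkaw
    refine arith_cusp h2 (D := Module.finrank ℂ (LinearMap.range (eV ρ cs isCartan (X φ q) 0))) (d := d) ?_ hdd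
      (hd.trans (Subgroup.card_subgroup_dvd_card _)) (Cfsg.Agent.S1067.result hq hK) hc hkaw
    intro h3
    rw [Submodule.finrank_eq_zero] at h3
    exact hV (LinearMap.range_eq_bot.1 h3)
  · -- `V^U ≠ 0`
    obtain ⟨r, s, hr, hs0, hrs⟩ := lam_nonneg R hG ρ hρ h0 hs
    have hc' : c = (q : ℂ) ^ 12 := by
      have hpos : ∀ k : ℕ, (-(q : ℂ) ^ k) * r = s → False := by
        intro k h3
        have h4 : (-(q : ℝ) ^ k) * r = s := by exact_mod_cast h3
        have h6 : (0 : ℝ) < (q : ℝ) ^ k := by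
          have : (0 : ℝ) < q := by exact_mod_cast (by omega : 0 < q)
          positivity
        linarith only [hs0, h4, mul_pos h6 hr]
      rcases hc with rfl | rfl | rfl
      · rfl
      · exact (hpos 6 hrs).elim
      · exact (hpos 18 hrs).elim
    rw [hc'] at hkaw
    have C0 := co hK hφ 0
    have C1 := co hK hφ 1
    obtain ⟨z0, e0, b0⟩ := C0.small R hG hρ hT (fun t ht => exists_t hK hφ hq 0 ht)
    obtain ⟨z1, e1, b1⟩ := C1.small R hG hρ hT (fun t ht => exists_t hK hφ hq 1 ht)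
    have d0 := C0.dim_V R hG hρ h0
    have d1 := C1.dim_V R hG hρ h0
    rw [e0] at d0
    rw [e1] at d1
    have q0 : qq (KD φ 0) = (q : ℂ) := by
      rw [qq, ← Nat.card_eq_fintype_card, card_KD0 hK hφ hq]
    have q1 : qq (KD φ 1) = (q : ℂ) ^ 3 := by
      rw [qq, ← Nat.card_eq_fintype_card, card_KD1 hK hφ]
      push_cast
      rfl
    rw [q0] at d0
    rw [q1] at d1
    have hW : Nat.card CoxeterMatrix.G₂.Group = 12 := Cfsg.Agent.S1092.result (⟨2, CoxeterMatrix.G₂⟩, 12) (by simp)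
    rw [hW] at b0
    have hz0 := arith_prin h2 b0 hkaw d0 d1
    rw [hz0, Int.cast_zero] at e0
    exact hno ⟨E.chi_zero hq hm hB hρ h0 e0, E2.chi_zero hq hm hB hρ h0 e0⟩

end Cfsg.Agent.H866.OZ.D4

namespace Cfsg.Agent.H866.OZ

open Cfsg Cfsg.Lie Cfsg.Agent.H730.OZ
open Cfsg.Agent.H631.Kaw (pel mem_pel)

/-- the row `³D₄(q)` -/
theorem none_td4 {K : Type} [Field K] [Fintype K] {p a q : ℕ} (hs : IsSimpleGroup ↥(twistedD4 K q)) (hp : p.Prime)
    (ha : 0 < a) (hq : q = p ^ a) (hK : Fintype.card K = q ^ 3) (χ : ↥(twistedD4 K q) → ℂ)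
    (hχ : IsIrrCharacter ↥(twistedD4 K q) χ) (hz : OneZero χ) : False := by
  have hqp : IsPrimePow q := by rw [hq]; exact hp.isPrimePow.pow ha.ne'
  have : Fact p.Prime := ⟨hp⟩
  have hcp : CharP K p := by
    obtain ⟨r, hr⟩ := CharP.exists K
    obtain ⟨b, hr', hb⟩ := FiniteField.card K r
    have h1 : p = r := by
      have h2 : p ∣ r ^ (b : ℕ) := by
        rw [← hb, hK, hq]
        exact (dvd_pow_self p ha.ne').trans (dvd_pow_self _ (by norm_num))
      exact (Nat.prime_dvd_prime_iff_eq hp hr').1 (hp.dvd_of_dvd_pow h2)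
    rwa [h1]
  obtain ⟨φ, hφ⟩ := Cfsg.Agent.ChevalleyStructure.D4Fixed.exists_frob hqp hK
  have hKaw := H279.OZ.kaw_of_hasRGD hp (Nodes.RGDTwD4.hasRGD hqp hK p)
  have h12 : H364.OZ.CP p (a * 12) ↥(twistedD4 K q) := by
    obtain ⟨r, hr, ho⟩ := H448.Van.good_3D4_12 hp ha hq hK
    exact ⟨r, hr.prime, ho, hr.cong hp⟩
  have h3 := H364.OZ.sum_3D4 hs hp ha hq hK hKaw h12 hχ hz
  obtain ⟨N, ρ, hρ, rfl⟩ := hχ
  have h4 : ∑ᶠ u ∈ pSet p ↥(twistedD4 K q), ρ.character u = ∑ g ∈ pel ↥(twistedD4 K q) p, ρ.character g := by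
    rw [finsum_mem_eq_finite_toFinset_sum _ (Set.toFinite _)]
    rfl
  rw [h4] at h3
  have e : ∀ k : ℕ, (p : ℂ) ^ (a * k) = (q : ℂ) ^ k := by
    intro k
    rw [hq]
    push_cast
    rw [← pow_mul]
  rw [e, e, e] at h3
  rcases h3 with h3 | h3 | h3
  · exact D4.main hK hφ hρ hqp (Or.inl rfl) h3 hz
  · exact D4.main hK hφ hρ hqp (Or.inr (Or.inl rfl)) h3 hz
  · exact D4.main hK hφ hρ hqp (Or.inr (Or.inr rfl)) h3 hz

universe u

/-- **S4842 for `³D₄(q)`** -/
theorem row_td4 {S : Type u} [Group S] [Finite S] (hs : IsSimpleGroup S) (h : Lie.Iso3D4 S) : Row S := by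
  obtain ⟨K, i1, i2, q, hq, hK, ⟨e⟩⟩ := h
  obtain ⟨p, a, hp, ha, hqa⟩ := hq
  have hs' : IsSimpleGroup ↥(Lie.twistedD4 K q) := (MulEquiv.isSimpleGroup_congr e).1 hs
  exact Row.congr e (Row.of_none fun χ hχ h0 => none_td4 hs' hp.nat_prime ha hqa.symm hK χ hχ h0)

end Cfsg.Agent.H866.OZ
end
end

-- part: H448/Van/RkE8
section
prune_inst 0x431607145746212000004001202003ca7b7000090006b8000b8a50342078f5b62894227404e80191b404c320010350008111000c0420000000a0034000007052180a880022140000406009f80108601000000000000000000000080000004100020c010000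
set_option linter.all false
open scoped Cfsg.Agent.FastGrp

/-!
# The rank one configuration of `E₈(q)` for the primes `r ∣ Φ₇(q)` (helper448)
-/

set_option autoImplicit false

namespace Cfsg.Agent.H448.Van

open CoxeterSystem Subgroup Cfsg Cfsg.Lie Cfsg.Lie.ChevalleyDatum
open Cfsg.Agent.ChevalleyStructure Cfsg.Agent.ChevalleyStructure.CoxeterGeom
  Cfsg.Agent.ChevalleyStructure.CoxeterGeomTypes Cfsg.Agent.ChevalleyStructure.RootVec
open Cfsg.Agent.Tits.Roots Cfsg.Agent.Tits.Core Cfsg.Agent.Nodes.Reps Cfsg.Agent.Nodes.BNOf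
  Cfsg.Agent.Nodes.RGDChev Cfsg.Agent.Nodes
open Cfsg.Agent.H129.TorusChar Cfsg.Agent.H129.TorusMain Cfsg.Agent.H129.WData
open Cfsg.Agent.H695.OneZero
open Cfsg.Agent.BpExc.RowsUntw Cfsg.Agent.BpExc.FamInst Cfsg.Agent.H448.Van.DataE8s

universe u

/-- the functional as a homomorphism -/
def Gh (q : ℤ) : (Fin 8 → ℤ) →+ ℤ where
  toFun := Gf q
  map_zero' := by simp [Gf]
  map_add' x y := by
    unfold Gf
    rw [← Finset.sum_add_distrib]
    exact Finset.sum_congr rfl fun i _ => by rw [Pi.add_apply, add_mul]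

theorem Gh_apply (q : ℤ) (x : Fin 8 → ℤ) : Gh q x = Gf q x := rfl

/-- the functional and the Weyl group element -/
theorem Gf_theta {θ : (Fin 8 → ℤ) →+ (Fin 8 → ℤ)} (h : Lin θ Th) (q : ℤ) (x : Fin 8 → ℤ) :
    Gf q (θ x) = q * Gf q x + x 1 * (1 - q ^ 7) := by
  have h1 : Gf q (θ x) = ∑ j, x j * ∑ m, Th j m * cf q m := by
    unfold Gf
    calc ∑ m, θ x m * cf q m = ∑ m, ∑ j, x j * (Th j m * cf q m) := by
          refine Finset.sum_congr rfl fun m _ => ?_
          rw [h.apply, Finset.sum_mul]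
          exact Finset.sum_congr rfl fun j _ => by ring
      _ = ∑ j, ∑ m, x j * (Th j m * cf q m) := Finset.sum_comm
      _ = _ := Finset.sum_congr rfl fun j _ => by rw [Finset.mul_sum]
  rw [h1]
  have h2 : ∀ j, x j * ∑ m, Th j m * cf q m = q * (x j * cf q j) + if j = 1 then x j * (1 - q ^ 7) else 0 := by
    intro j
    rw [Gf_th]
    split_ifs <;> ring
  rw [Finset.sum_congr rfl fun j _ => h2 j, Finset.sum_add_distrib, ← Finset.mul_sum, Finset.sum_ite_eq',
    if_pos (Finset.mem_univ _)]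
  rfl

section Main

variable {W : Type*} [Group W] (cs : CoxeterSystem CoxeterMatrix.E₈ W)

theorem lin8 : Lin (theta e8T cs (cs.wordProd word) (AddEquiv.refl (Fin 8 → ℤ))) Th := by
  have h := lin_refl e8T cs hA chainOK
  rw [word_eq, hd_eq] at h
  exact h

theorem sr0 : (sr 0 : Fin 8 → ℤ) = ![1, 0, 0, 0, 0, 0, 0, 0] := by
  funext i
  fin_cases i <;> simp [sr]

/-- the values of the functional on the roots -/
theorem not_dvd_Gf {q : ℤ} {r : ℕ} (hr : r.Prime) (h14 : ¬ r ∣ 14)
    (h7 : (r : ℤ) ∣ 1 + q + q ^ 2 + q ^ 3 + q ^ 4 + q ^ 5 + q ^ 6) {a : Fin 8 → ℤ} (ha : IsRoot cs e8T.isCartan a) :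
    a = sr 0 ∨ a = -sr 0 ∨ ¬ (r : ℤ) ∣ Gf q a := by
  have hlin := lin8 cs
  have hT0 : theta e8T cs (cs.wordProd word) (AddEquiv.refl (Fin 8 → ℤ)) (sr 0) = sr 0 := by
    rw [hlin 0]
    funext i
    fin_cases i <;> simp [Th, sr]
  refine root_ind e8T cs hlin rootOK (P := fun a => a = sr 0 ∨ a = -sr 0 ∨ ¬ (r : ℤ) ∣ Gf q a) (fun s => ?_)
    (fun x hx => ?_) ha
  · rcases dvd_of_G h7 s with h | h | h
    · left; rw [h, sr0]
    · right; left; rw [h, sr0]; simp
    · right; right
      intro h1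
      exact h14 (by exact_mod_cast h h1)
  · rcases hx with rfl | rfl | hx
    · left; exact hT0
    · right; left; rw [map_neg, hT0]
    · right; right
      rw [Gf_theta hlin]
      intro h1
      have h2 : (r : ℤ) ∣ x 1 * (1 - q ^ 7) := by
        have e : x 1 * (1 - q ^ 7) = (1 + q + q ^ 2 + q ^ 3 + q ^ 4 + q ^ 5 + q ^ 6) * (x 1 * (1 - q)) := by ring
        rw [e]
        exact h7.mul_right _
      have h3 : (r : ℤ) ∣ q * Gf q x := (Int.dvd_iff_dvd_of_dvd_add h1).2 h2
      rcases (Nat.prime_iff_prime_int.1 hr).dvd_or_dvd h3 with h4 | h4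
      · have h5 : (r : ℤ) ∣ q * (1 + q + q ^ 2 + q ^ 3 + q ^ 4 + q ^ 5) := h4.mul_right _
        have h6 : (r : ℤ) ∣ 1 := by
          have e : (1 : ℤ) = (1 + q + q ^ 2 + q ^ 3 + q ^ 4 + q ^ 5 + q ^ 6) - q * (1 + q + q ^ 2 + q ^ 3 + q ^ 4 + q ^ 5) := by
            ring
          rw [e]
          exact dvd_sub h7 h5
        exact hr.one_lt.ne' (Nat.dvd_one.1 (by exact_mod_cast h6))
      · exact hx h4

theorem no_root {i : Fin 8} (hi : i ∈ word) {m n : ℕ} (hm : 0 < m) (hn : 0 < n) :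
    ¬ IsRoot cs e8T.isCartan (m • sr 0 + n • sr i) := by
  intro h
  obtain ⟨r, hr, e⟩ := (isRoot_iff e8T cs _).1 h
  have hi0 : i ≠ 0 := word_ne i hi
  have hi2 : i ≠ 2 := by
    rintro rfl
    exact absurd hi (by decide)
  have hv : ∀ x : Fin 8, rt chevE8 r x = (m • (sr 0 : Fin 8 → ℤ) + n • sr i) x := fun x => by
    rw [← e]
    rfl
  have h0 : rt chevE8 r 0 = m := by
    have h1 := hv 0
    rw [Pi.add_apply, Pi.smul_apply, Pi.smul_apply, sr_self, sr_ne (Ne.symm hi0)] at h1
    simpa using h1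
  have h2 : rt chevE8 r 2 = 0 := by
    have h1 := hv 2
    rw [Pi.add_apply, Pi.smul_apply, Pi.smul_apply, sr_ne (by decide), sr_ne (Ne.symm hi2)] at h1
    simpa using h1
  have h3 := sep ⟨r, hr⟩ (by rw [h0]; exact_mod_cast hm) h2 i hi0
  have h4 := hv i
  rw [Pi.add_apply, Pi.smul_apply, Pi.smul_apply, sr_self, sr_ne hi0] at h4
  simp at h4
  simp only at h3
  rw [h4] at h3
  omega

end Main

section Arith

variable {p a r : ℕ} (hp : p.Prime) (ha : 0 < a) (hr : r.Prime) (ho : orderOf (p : ZMod r) = 7 * a)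

include hp ha hr ho

theorem dvd_iff_seven (d : ℕ) : r ∣ (p ^ a) ^ d - 1 ↔ 7 ∣ d := by
  have : Fact r.Prime := ⟨hr⟩
  have h1 : 1 ≤ (p ^ a) ^ d := Nat.one_le_pow _ _ (pow_pos hp.pos a)
  rw [← (ZMod.natCast_eq_zero_iff _ r), Nat.cast_sub h1, sub_eq_zero]
  push_cast
  rw [← pow_mul, ← orderOf_dvd_iff_pow_eq_one, ho, mul_comm 7 a]
  exact mul_dvd_mul_iff_left ha.ne'

omit hp in
theorem seven_dvd : 7 ∣ r - 1 ∧ ¬ r ∣ p := by
  have : Fact r.Prime := ⟨hr⟩
  have h0 : (p : ZMod r) ≠ 0 := by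
    intro h
    rw [h] at ho
    have h4 : orderOf (0 : ZMod r) = 0 := orderOf_eq_zero_iff'.2 fun n hn h => by
      rw [zero_pow hn.ne'] at h
      exact zero_ne_one h
    omega
  constructor
  · have h2 : orderOf (p : ZMod r) ∣ r - 1 := orderOf_dvd_of_pow_eq_one (ZMod.pow_card_sub_one_eq_one h0)
    rw [ho] at h2
    exact (Dvd.intro a rfl).trans h2
  · intro h
    exact h0 ((CharP.cast_eq_zero_iff (ZMod r) r p).2 h)

omit hp in
theorem r_ge : 29 ≤ r := by
  obtain ⟨c, hc⟩ := (seven_dvd ha hr ho).1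
  have h2 := hr.two_le
  by_contra hcon
  have h3 : c = 1 ∨ c = 2 ∨ c = 3 := by omega
  rcases h3 with rfl | rfl | rfl
  · have : r = 8 := by omega
    subst this
    exact absurd hr (by norm_num)
  · have : r = 15 := by omega
    subst this
    exact absurd hr (by norm_num)
  · have : r = 22 := by omega
    subst this
    exact absurd hr (by norm_num)

omit hp in
theorem totient_gt : 8 < (r - 1).totient := by
  by_contra hcon
  push Not at hcon
  have h1 := r_ge ha hr ho
  have h2 := le_of_totient_eight (n := r - 1) (by omega) hcon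
  obtain ⟨c, hc⟩ := (seven_dvd ha hr ho).1
  have h3 : r - 1 = 28 := by omega
  rw [h3] at hcon
  exact absurd hcon (by decide)

theorem dvd_phi : (r : ℤ) ∣ 1 + ((p ^ a : ℕ) : ℤ) + ((p ^ a : ℕ) : ℤ) ^ 2 + ((p ^ a : ℕ) : ℤ) ^ 3 + ((p ^ a : ℕ) : ℤ) ^ 4 +
    ((p ^ a : ℕ) : ℤ) ^ 5 + ((p ^ a : ℕ) : ℤ) ^ 6 := by
  have hc : ∀ d, (((p ^ a) ^ d - 1 : ℕ) : ℤ) = ((p ^ a : ℕ) : ℤ) ^ d - 1 := fun d => by
    rw [Nat.cast_sub (Nat.one_le_pow _ _ (pow_pos hp.pos a))]
    push_cast
    ring
  have h1 := Int.natCast_dvd_natCast.2 ((dvd_iff_seven hp ha hr ho 7).2 (dvd_refl 7))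
  have h2 : ¬ (r : ℤ) ∣ ((p ^ a : ℕ) : ℤ) ^ 1 - 1 := by
    rw [← hc, Int.natCast_dvd_natCast, dvd_iff_seven hp ha hr ho]
    norm_num
  rw [hc] at h1
  have e : ((p ^ a : ℕ) : ℤ) ^ 7 - 1 = (((p ^ a : ℕ) : ℤ) ^ 1 - 1) * (1 + ((p ^ a : ℕ) : ℤ) + ((p ^ a : ℕ) : ℤ) ^ 2 +
    ((p ^ a : ℕ) : ℤ) ^ 3 + ((p ^ a : ℕ) : ℤ) ^ 4 + ((p ^ a : ℕ) : ℤ) ^ 5 + ((p ^ a : ℕ) : ℤ) ^ 6) := by ring
  rw [e] at h1
  exact ((Nat.prime_iff_prime_int.1 hr).dvd_or_dvd h1).resolve_left h2

end Arith

/-- **The rank one configuration of `E₈(q)`.** -/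
theorem rankOneAt_E8 {F : Type u} [Field F] [Fintype F] {p a : ℕ} (hp : p.Prime) (ha : 0 < a)
    (hF : Fintype.card F = p ^ a) {r : ℕ} (hr : r.Prime) (ho : orderOf (p : ZMod r) = 7 * a) :
    RankOneAt ↥(chevE8.group F) p r (p ^ a) := by
  obtain ⟨-, hrp⟩ := seven_dvd ha hr ho
  have h29 := r_ge ha hr ho
  have hd := dvd_iff_seven hp ha hr ho
  have hq1 : 1 ≤ (p ^ a) ^ 7 := Nat.one_le_pow _ _ (pow_pos hp.pos a)
  have hq7 : (p ^ a) ^ 7 - 1 ≠ 0 := by
    have h1 : 2 ≤ p ^ a := hp.two_le.trans (Nat.le_self_pow ha.ne' p)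
    have h2 : p ^ a ≤ (p ^ a) ^ 7 := Nat.le_self_pow (by norm_num) _
    omega
  obtain ⟨n, m', hm', hn⟩ := Nat.exists_eq_pow_mul_and_not_dvd hq7 r hr.ne_one
  obtain ⟨b, rfl⟩ : ∃ b, n = b + 1 := by
    refine Nat.exists_eq_succ_of_ne_zero ?_
    rintro rfl
    rw [pow_zero, one_mul] at hn
    exact hm' (by rw [← hn]; exact (hd 7).2 (dvd_refl 7))
  have hnot : ∀ d, ¬ 7 ∣ d → ¬ r ∣ (p ^ a) ^ d - 1 := fun d h h1 => h ((hd d).1 h1)
  have hrpa : ¬ r ∣ p ^ a := fun h => hrp (hr.dvd_of_dvd_pow h)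
  have h14 : (p ^ a) ^ 14 - 1 = (r ^ (b + 1) * m') * ((p ^ a) ^ 7 + 1) := by
    rw [← hn]
    obtain ⟨c, hc⟩ : ∃ c, (p ^ a) ^ 7 = c + 1 := ⟨(p ^ a) ^ 7 - 1, by omega⟩
    have e : (p ^ a) ^ 14 = ((p ^ a) ^ 7) ^ 2 := by rw [← pow_mul (p ^ a) 7 2]
    rw [e, hc, Nat.add_sub_cancel, show (c + 1) ^ 2 = c * (c + 1 + 1) + 1 by ring, Nat.add_sub_cancel]
  have h7p : ¬ r ∣ (p ^ a) ^ 7 + 1 := by
    intro h1
    have h2 := (Nat.dvd_sub h1 ((hd 7).2 (dvd_refl 7)))
    have h3 : (p ^ a) ^ 7 + 1 - ((p ^ a) ^ 7 - 1) = 2 := by omega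
    rw [h3] at h2
    have := Nat.le_of_dvd (by norm_num) h2
    omega
  have hcard := Cfsg.Agent.S1065.result hF
  have hfin : Finite CoxeterMatrix.E₈.Group := finite_W e8T CoxeterMatrix.E₈.toCoxeterSystem
  refine Rk.rankOneAt_chev e8T CoxeterMatrix.E₈.toCoxeterSystem (W := CoxeterMatrix.E₈.Group) hp hF
    Cfsg.Agent.H129.TorusChar.invC_E8 (j := 0) (i0 := 2) ?_ (L := word) word_ne
    (fun i hi m n hm hn => no_root _ hi hm hn) (Gh ((p ^ a : ℕ) : ℤ)) (b := b)
    (m := (p ^ a) ^ 120 * ((p ^ a) ^ 2 - 1) * ((p ^ a) ^ 8 - 1) * ((p ^ a) ^ 12 - 1) * (m' * ((p ^ a) ^ 7 + 1)) *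
      ((p ^ a) ^ 18 - 1) * ((p ^ a) ^ 20 - 1) * ((p ^ a) ^ 24 - 1) * ((p ^ a) ^ 30 - 1)) hr ?_ ?_ (by omega)
    (totient_gt ha hr ho) ?_ ?_ ?_ ?_ ?_ ?_
  · unfold CoxeterGeom.pairing
    rw [Finset.sum_eq_single 2]
    · rw [sr_self, mul_one, ← hA, Am_two]
    · intro m _ hm; rw [sr_ne hm, mul_zero]
    · intro hj; exact absurd (Finset.mem_univ _) hj
  · rintro rfl
    exact hrp (dvd_refl _)
  · intro h
    have := Cfsg.Agent.H378.LatCodim.le_of_dvd_card CoxeterMatrix.E₈.toCoxeterSystem e8T.isCartan hr h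
    omega
  · intro x
    have h1 := Gf_theta (lin8 CoxeterMatrix.E₈.toCoxeterSystem) ((p ^ a : ℕ) : ℤ) x
    have h2 : Gh ((p ^ a : ℕ) : ℤ) (rep CoxeterMatrix.E₈.toCoxeterSystem e8T.isCartan
        (CoxeterMatrix.E₈.toCoxeterSystem.wordProd word) x) - ((p ^ a : ℕ) : ℤ) * Gh ((p ^ a : ℕ) : ℤ) x =
        x 1 * (1 - ((p ^ a : ℕ) : ℤ) ^ 7) := by
      rw [Gh_apply, Gh_apply]
      rw [theta_apply, AddEquiv.refl_apply] at h1
      rw [h1]
      ring
    rw [h2]
    have h3 : ((r ^ (b + 1) : ℕ) : ℤ) ∣ (((p ^ a) ^ 7 - 1 : ℕ) : ℤ) := Int.natCast_dvd_natCast.2 (by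
      rw [hn]; exact Dvd.intro _ rfl)
    rw [Nat.cast_sub hq1] at h3
    refine Dvd.dvd.mul_left ?_ _
    rw [← dvd_neg, neg_sub]
    exact_mod_cast h3
  · have h1 : Gh ((p ^ a : ℕ) : ℤ) (sr 0) = 0 := by
      rw [Gh_apply, sr0]
      simp [Gf, cf, Fin.sum_univ_succ]
    rw [h1]
    exact dvd_zero _
  · intro x hx h1 h2
    rcases not_dvd_Gf CoxeterMatrix.E₈.toCoxeterSystem hr (fun h => by
      have := Nat.le_of_dvd (by norm_num) h; omega) (dvd_phi hp ha hr ho) hx with h | h | h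
    · exact absurd h h1
    · exact absurd h h2
    · exact h
  · rw [hcard, h14]
    ring
  · simp only [hr.dvd_mul, not_or]
    refine ⟨⟨⟨⟨⟨⟨⟨⟨fun h => hrpa (hr.dvd_of_dvd_pow h), hnot 2 (by norm_num)⟩, hnot 8 (by norm_num)⟩,
      hnot 12 (by norm_num)⟩, hm', h7p⟩, hnot 18 (by norm_num)⟩, hnot 20 (by norm_num)⟩, hnot 24 (by norm_num)⟩,
      hnot 30 (by norm_num)⟩
  · rw [hr.dvd_mul, not_or]
    exact ⟨hrpa, hnot 2 (by norm_num)⟩

end Cfsg.Agent.H448.Van

private theorem dce_523797f3078e : _root_.True := by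
  try have : _root_.True := by simp only [_root_.Cfsg.Agent.H448.Van.DataE8s.Gf.eq_1]
  exact _root_.True.intro
end

-- part: H355/GT/Main
section
prune_inst 0x4206040000022000000000000000018260600009000000000088100400080a8020900004004a000094008800000310040001000900000000000000400000405010080840020410008820010000080000000000000000000000000800000000000208000000
set_option linter.all false
open scoped Cfsg.Agent.FastGrp

-- part: H355/GT/Frame
section
/-!
# `G₂(q)`: the frame (helper355, S4842)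

* `n_mem_Li` : the reflections lie in the rank one groups;
* `rep_ne` : the simple roots of `G₂` are not conjugate;
* `comm_T`.
-/

set_option autoImplicit false
set_option linter.unusedSectionVars false

open Cfsg

namespace Cfsg.Agent.H355.GT

open CoxeterSystem Cfsg.Agent.ChevalleyStructure.CoxeterGeom Cfsg.Agent.Tits.Roots Cfsg.Agent.Tits.Core
  Cfsg.Agent.Nodes.Reps Cfsg.Agent.Nodes.BNOf Cfsg.Agent.Nodes.Bruhat Cfsg.Agent.Nodes.LeviDec
open Cfsg.Lie Cfsg.Agent.ChevalleyStructure Cfsg.Agent.ChevalleyStructure.Elts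
  Cfsg.Agent.ChevalleyStructure.CoxeterGeomTypes
open Cfsg.Agent.Nodes.RGDChev Cfsg.Agent.KFacts.RgdChevCoord
open Cfsg.Agent.H985.VZ (Li qq)

universe u

theorem hpG2 : IsType chevG2 2 CoxeterMatrix.G₂ := by simp [IsType, typeList]

section gen

variable {D : ChevalleyDatum} {l : ℕ} {M : CoxeterMatrix (Fin l)} (hp : IsType D l M) (K : Type u) [Field K]

theorem n_mem_Li (i : Fin l) : nc hp K i ∈ Li (XX D l K) i := by
  have hx : ∀ (t : K), (⟨xG hp.inList (D.simple i) t, xG_mem_group hp.inList _ _⟩ : ↥(D.group K)) ∈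
      XX D l K (sr i) := fun t => by
    rw [Subgroup.mem_subgroupOf, XV_sr hp]
    exact xG_mem_rootSubgroup hp.inList _ _
  have hy : ∀ (t : K), (⟨xG hp.inList (D.neg (D.simple i)) t, xG_mem_group hp.inList _ _⟩ : ↥(D.group K)) ∈
      XX D l K (-sr i) := fun t => by
    rw [Subgroup.mem_subgroupOf, XV_neg_sr hp]
    exact xG_mem_rootSubgroup hp.inList _ _
  have e : nc hp K i = (⟨xG hp.inList (D.simple i) 1, xG_mem_group hp.inList _ _⟩ : ↥(D.group K)) *
      ((⟨xG hp.inList (D.neg (D.simple i)) (-(1 : K)⁻¹), xG_mem_group hp.inList _ _⟩ : ↥(D.group K)) *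
        (⟨xG hp.inList (D.simple i) 1, xG_mem_group hp.inList _ _⟩ : ↥(D.group K))) := by
    apply Subtype.ext
    exact nG_def hp.inList _ _
  rw [e]
  have h1 : XX D l K (sr i) ≤ Li (XX D l K) i := le_sup_left
  have h2 : XX D l K (-sr i) ≤ Li (XX D l K) i := le_sup_right
  exact mul_mem (h1 (hx 1)) (mul_mem (h2 (hy _)) (h1 (hx 1)))

include hp in
theorem comm_T [Finite K] : ∀ s ∈ TT D K, ∀ t ∈ TT D K, s * t = t * s := H557.CentChev.comm_mem_TT hp

include hp in
theorem qq_eq {W : Type*} [Group W] (cs : CoxeterSystem M W) [Fintype K] (i : Fin l) :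
    qq (XX D l K) i = Fintype.card K := by
  unfold qq
  rw [H35.ExcIdx.card_XX hp K cs (isRoot_sr _ hp.isCartan i), Nat.card_eq_fintype_card]

end gen

theorem A00 : cartanOf chevG2 2 0 0 = 2 := by decide +kernel
theorem A01 : cartanOf chevG2 2 0 1 = -3 := by decide +kernel
theorem A10 : cartanOf chevG2 2 1 0 = -1 := by decide +kernel
theorem A11 : cartanOf chevG2 2 1 1 = 2 := by decide +kernel

end Cfsg.Agent.H355.GT
end

-- part: H364/OZ/G2End
section
/-!
# S4842: `G₂(q)`, the arithmetic of the degrees (helper364)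

* `lin` : `χ(1) (1 + y) (1 + z) (1 + y z + (y z)²) = (1 + q)² (1 + q² + q⁴)`, `y, z ∈ {q, 1/q}` :
  `χ(1) = 1`, `q⁶` or `q (1 + q² + q⁴) / 3`.
* `quad` : `χ(1) (1 + y) (1 + z) = (1 + q)² (1 + q² + q⁴)` : `1 + q² + q⁴` divides `χ(1)`.
* `dvd_of_six`, `dvd_of_three` : a prime `r` with `orderOf (p : ZMod r) = 6 a` or `3 a` divides `1 + q² + q⁴`.
* `lin_dvd`, `quad_dvd` : `χ(1) ∈ {1, q⁶}` or `r ∣ χ(1)`.
-/

set_option autoImplicit false

namespace Cfsg.Agent.H364.OZ.G2End

open Finset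

/-- the linear case -/
theorem lin {q N : ℕ} (hq : 2 ≤ q) {y z : ℂ} (hy : y = q ∨ y = (q : ℂ)⁻¹) (hz : z = q ∨ z = (q : ℂ)⁻¹)
    (h : (N : ℂ) * ((1 + y) * (1 + z) * ∑ i ∈ range 3, (y * z) ^ i) =
      (1 + q : ℂ) * (1 + q) * ∑ i ∈ range 3, ((q : ℂ) * q) ^ i) :
    N = 1 ∨ N = q ^ 6 ∨ 3 * N = q * (q ^ 4 + q ^ 2 + 1) := by
  have hq0 : (q : ℂ) ≠ 0 := Nat.cast_ne_zero.2 (by omega)
  have h1 : (1 + q : ℂ) ≠ 0 := by
    have : ((1 + q : ℕ) : ℂ) ≠ 0 := Nat.cast_ne_zero.2 (by omega)
    push_cast at this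
    exact this
  have hS : (1 + (q : ℂ) * q + ((q : ℂ) * q) ^ 2) ≠ 0 := by
    have : ((1 + q * q + (q * q) ^ 2 : ℕ) : ℂ) ≠ 0 := Nat.cast_ne_zero.2 (by positivity)
    push_cast at this
    exact this
  have e3 : ∀ x : ℂ, ∑ i ∈ range 3, x ^ i = 1 + x + x ^ 2 := fun x => by
    rw [sum_range_succ, sum_range_succ, sum_range_one, pow_zero, pow_one]
  rw [e3, e3] at h
  have hmix : ∀ y z : ℂ, y = q → z = (q : ℂ)⁻¹ →
      (N : ℂ) * ((1 + y) * (1 + z) * (1 + y * z + (y * z) ^ 2)) =
      (1 + q : ℂ) * (1 + q) * (1 + (q : ℂ) * q + ((q : ℂ) * q) ^ 2) → 3 * N = q * (q ^ 4 + q ^ 2 + 1) := by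
    rintro _ _ rfl rfl h
    rw [mul_inv_cancel₀ hq0] at h
    have h2 : (3 * N : ℂ) = q * (q ^ 4 + q ^ 2 + 1) := by
      refine mul_left_cancel₀ (mul_ne_zero h1 h1) ?_
      have h3 : (1 + q : ℂ) * (1 + q) * (3 * N) = q * ((N : ℂ) * ((1 + q) * (1 + (q : ℂ)⁻¹) * (1 + 1 + 1 ^ 2))) := by
        field_simp
        ring
      rw [h3, h]
      ring
    exact_mod_cast h2
  rcases hy with rfl | rfl <;> rcases hz with rfl | rfl
  · left
    have h2 : (N : ℂ) = 1 := by
      refine mul_right_cancel₀ (mul_ne_zero (mul_ne_zero h1 h1) hS) ?_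
      rw [h, one_mul]
    exact_mod_cast h2
  · exact Or.inr (Or.inr (hmix _ _ rfl rfl h))
  · refine Or.inr (Or.inr (hmix _ _ rfl rfl ?_))
    rw [← h]
    ring
  · right; left
    have h2 : (N : ℂ) = q ^ 6 := by
      refine mul_right_cancel₀ (mul_ne_zero (mul_ne_zero h1 h1) hS) ?_
      rw [show (q : ℂ) ^ 6 * ((1 + q : ℂ) * (1 + q) * (1 + (q : ℂ) * q + ((q : ℂ) * q) ^ 2)) =
        q ^ 6 * ((N : ℂ) * ((1 + (q : ℂ)⁻¹) * (1 + (q : ℂ)⁻¹) * (1 + (q : ℂ)⁻¹ * (q : ℂ)⁻¹ + ((q : ℂ)⁻¹ * (q : ℂ)⁻¹) ^ 2))) by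
          rw [h]]
      field_simp
      ring
    exact_mod_cast h2

/-- the quadratic case -/
theorem quad {q N : ℕ} (hq : 2 ≤ q) {y z : ℂ} (hy : y = q ∨ y = (q : ℂ)⁻¹) (hz : z = q ∨ z = (q : ℂ)⁻¹)
    (h : (N : ℂ) * ((1 + y) * (1 + z)) = (1 + q : ℂ) ^ 2 * (1 + q ^ 2 + q ^ 4)) : q ^ 4 + q ^ 2 + 1 ∣ N := by
  have hq0 : (q : ℂ) ≠ 0 := Nat.cast_ne_zero.2 (by omega)
  have h1 : (1 + q : ℂ) ≠ 0 := by
    have : ((1 + q : ℕ) : ℂ) ≠ 0 := Nat.cast_ne_zero.2 (by omega)
    push_cast at this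
    exact this
  have hmix : ∀ y z : ℂ, y = q → z = (q : ℂ)⁻¹ → (N : ℂ) * ((1 + y) * (1 + z)) = (1 + q : ℂ) ^ 2 * (1 + q ^ 2 + q ^ 4) →
      N = q * (q ^ 4 + q ^ 2 + 1) := by
    rintro _ _ rfl rfl h
    have h2 : (N : ℂ) = q * (q ^ 4 + q ^ 2 + 1) := by
      refine mul_left_cancel₀ (mul_ne_zero h1 h1) ?_
      have h3 : (1 + q : ℂ) * (1 + q) * N = q * ((N : ℂ) * ((1 + q) * (1 + (q : ℂ)⁻¹))) := by
        field_simp
        ring
      rw [h3, h]
      ring
    exact_mod_cast h2
  rcases hy with rfl | rfl <;> rcases hz with rfl | rfl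
  · have h2 : (N : ℂ) = q ^ 4 + q ^ 2 + 1 := by
      refine mul_right_cancel₀ (mul_ne_zero h1 h1) ?_
      rw [h]
      ring
    have h3 : N = q ^ 4 + q ^ 2 + 1 := by exact_mod_cast h2
    exact ⟨1, by rw [h3, mul_one]⟩
  · exact ⟨q, by rw [hmix _ _ rfl rfl h, mul_comm]⟩
  · exact ⟨q, by rw [hmix _ _ rfl rfl (by rw [← h]; ring), mul_comm]⟩
  · have h2 : (N : ℂ) = q ^ 2 * (q ^ 4 + q ^ 2 + 1) := by
      refine mul_right_cancel₀ (mul_ne_zero h1 h1) ?_
      have h3 : (N : ℂ) * ((1 + q : ℂ) * (1 + q)) = q ^ 2 * ((N : ℂ) * ((1 + (q : ℂ)⁻¹) * (1 + (q : ℂ)⁻¹))) := by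
        field_simp
        ring
      rw [h3, h]
      ring
    have h3 : N = q ^ 2 * (q ^ 4 + q ^ 2 + 1) := by exact_mod_cast h2
    exact ⟨q ^ 2, by rw [h3, mul_comm]⟩

theorem key_three : ∀ x : ZMod 3, x ^ 6 = 1 → x ^ 2 = 1 := by decide

section primes

variable {p a r : ℕ}

/-- `r ≠ 3` and `r ∣ q⁴ + q² + 1` if the order of `q = p ^ a` modulo `r` is `3` or `6` -/
theorem dvd_aux [Fact r.Prime] {q : ℕ} (h1 : (q : ZMod r) ^ 6 = 1) (h2 : (q : ZMod r) ^ 2 ≠ 1) :
    r ∣ q ^ 4 + q ^ 2 + 1 ∧ r ≠ 3 := by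
  have h3 : ((q : ZMod r) ^ 2 - 1) * ((q : ZMod r) ^ 4 + (q : ZMod r) ^ 2 + 1) = 0 := by
    linear_combination h1
  refine ⟨?_, ?_⟩
  · rcases mul_eq_zero.1 h3 with h4 | h4
    · exact absurd (sub_eq_zero.1 h4) h2
    · rw [← ZMod.natCast_eq_zero_iff]
      push_cast
      exact h4
  · rintro rfl
    exact h2 (key_three _ h1)

theorem dvd_of_six (hr : r.Prime) (ha : 0 < a) (ho : orderOf (p : ZMod r) = a * 6) :
    r ∣ (p ^ a) ^ 4 + (p ^ a) ^ 2 + 1 ∧ r ≠ 3 := by
  have : Fact r.Prime := ⟨hr⟩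
  apply dvd_aux
  · push_cast
    rw [← pow_mul, ← ho, pow_orderOf_eq_one]
  · intro h
    push_cast at h
    rw [← pow_mul] at h
    have h1 := orderOf_dvd_of_pow_eq_one h
    rw [ho] at h1
    have := Nat.le_of_dvd (by positivity) h1
    omega

theorem dvd_of_three (hr : r.Prime) (ha : 0 < a) (ho : orderOf (p : ZMod r) = a * 3) :
    r ∣ (p ^ a) ^ 4 + (p ^ a) ^ 2 + 1 ∧ r ≠ 3 := by
  have : Fact r.Prime := ⟨hr⟩
  apply dvd_aux
  · push_cast
    rw [← pow_mul, show a * 6 = a * 3 * 2 by ring, pow_mul, ← ho, pow_orderOf_eq_one, one_pow]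
  · intro h
    push_cast at h
    rw [← pow_mul] at h
    have h1 := orderOf_dvd_of_pow_eq_one h
    rw [ho] at h1
    have := Nat.le_of_dvd (by positivity) h1
    omega

/-- the linear case with the primes -/
theorem lin_dvd (hr : r.Prime) (ha : 0 < a) (hp : 2 ≤ p) (ho : orderOf (p : ZMod r) = a * 6 ∨ orderOf (p : ZMod r) = a * 3)
    {N : ℕ} {y z : ℂ} (hy : y = (p ^ a : ℕ) ∨ y = ((p ^ a : ℕ) : ℂ)⁻¹) (hz : z = (p ^ a : ℕ) ∨ z = ((p ^ a : ℕ) : ℂ)⁻¹)
    (h : (N : ℂ) * ((1 + y) * (1 + z) * ∑ i ∈ range 3, (y * z) ^ i) =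
      (1 + (p ^ a : ℕ) : ℂ) * (1 + (p ^ a : ℕ)) * ∑ i ∈ range 3, (((p ^ a : ℕ) : ℂ) * (p ^ a : ℕ)) ^ i) :
    N = 1 ∨ N = (p ^ a) ^ 6 ∨ r ∣ N := by
  have hq : 2 ≤ p ^ a := le_trans hp (Nat.le_self_pow ha.ne' p)
  rcases lin hq hy hz h with h1 | h1 | h1
  · exact Or.inl h1
  · exact Or.inr (Or.inl h1)
  · right; right
    obtain ⟨h2, h3⟩ : r ∣ (p ^ a) ^ 4 + (p ^ a) ^ 2 + 1 ∧ r ≠ 3 := by
      rcases ho with ho | ho
      · exact dvd_of_six hr ha ho
      · exact dvd_of_three hr ha ho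
    have h4 : r ∣ 3 * N := by
      rw [h1]
      exact h2.mul_left _
    rcases hr.dvd_mul.1 h4 with h5 | h5
    · exact absurd ((Nat.prime_dvd_prime_iff_eq hr Nat.prime_three).1 h5) h3
    · exact h5

/-- the quadratic case with the primes -/
theorem quad_dvd (hr : r.Prime) (ha : 0 < a) (hp : 2 ≤ p) (ho : orderOf (p : ZMod r) = a * 6 ∨ orderOf (p : ZMod r) = a * 3)
    {N : ℕ} {y z : ℂ} (hy : y = (p ^ a : ℕ) ∨ y = ((p ^ a : ℕ) : ℂ)⁻¹) (hz : z = (p ^ a : ℕ) ∨ z = ((p ^ a : ℕ) : ℂ)⁻¹)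
    (h : (N : ℂ) * ((1 + y) * (1 + z)) = (1 + (p ^ a : ℕ) : ℂ) ^ 2 * (1 + (p ^ a : ℕ) ^ 2 + (p ^ a : ℕ) ^ 4)) : r ∣ N := by
  have hq : 2 ≤ p ^ a := le_trans hp (Nat.le_self_pow ha.ne' p)
  have h2 : r ∣ (p ^ a) ^ 4 + (p ^ a) ^ 2 + 1 := by
    rcases ho with ho | ho
    · exact (dvd_of_six hr ha ho).1
    · exact (dvd_of_three hr ha ho).1
  exact h2.trans (quad hq hy hz h)

end primes

end Cfsg.Agent.H364.OZ.G2End
end

-- part: H985/VZ/GTwoEnd
section
/-!
# S4842: `G₂(q)` on the frame (helper985)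

* `g2_frame` : `ρ` irreducible, `χ(t₀) ≠ 0`, `χ(t₁) ≠ 0` for elliptic elements of the two rank one Levi subgroups:
  the two possible degree equations.
* `g2_end` : `χ(1) = 1`, `χ(1) = q⁶` or `r ∣ χ(1)` for a primitive prime divisor `r` of `q⁶ - 1` (or `q³ - 1`).
-/

set_option autoImplicit false
set_option linter.unusedSectionVars false

open Cfsg

namespace Cfsg.Agent.H985.VZ

open CoxeterSystem Cfsg.Agent.ChevalleyStructure.CoxeterGeom Cfsg.Agent.Tits.Roots Cfsg.Agent.Tits.Core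
  Cfsg.Agent.Tits.Exchange Cfsg.Agent.Nodes.Reps Cfsg.Agent.Nodes.BNOf Cfsg.Agent.Nodes.StabComb
  Cfsg.Agent.Nodes.Bruhat Cfsg.Agent.Nodes.OppDec Cfsg.Agent.Nodes.LeviDec Module
open Cfsg.Agent.H650.OZ (TCo co co_mv co_inj eq_one_of_co act)

universe u v

/-- the Cartan matrix of `G₂`, `α_0` short -/
def AG : Fin 2 → Fin 2 → ℤ := ![![2, -3], ![-1, 2]]

section abs

variable {G : Type*} [AddCommGroup G]

theorem fix0 {v : Fin 2 → G} (e : v = act AG 0 v) : v 0 = 0 := by
  have h1 := congrFun e 1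
  simpa [act, AG] using h1

theorem fix1 {v : Fin 2 → G} (e : v = act AG 1 v) : v 1 = 0 := by
  have h1 := congrFun e 0
  have h2 := congrFun e 1
  simp only [act, AG, Matrix.cons_val_zero, Matrix.cons_val_one] at h1 h2
  have h3 : (3 : ℤ) • v 1 = 0 := by
    have h4 : v 0 - (-3 : ℤ) • v 1 - v 0 = 0 := by rw [← h1, sub_self]
    have h5 : (3 : ℤ) • v 1 = v 0 - (-3 : ℤ) • v 1 - v 0 := by
      rw [neg_smul]
      abel
    rw [h5, h4]
  have h4 : (2 : ℤ) • v 1 = 0 := by
    have h5 : (2 : ℤ) • v 1 = v 1 - (v 1 - (2 : ℤ) • v 1) := by abel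
    rw [h5, ← h2, sub_self]
  have h5 : v 1 = (3 : ℤ) • v 1 - (2 : ℤ) • v 1 := by
    rw [← sub_smul]
    norm_num
  rw [h5, h3, h4, sub_self]

theorem eq_smul {v : Fin 2 → G} (h0 : v 0 = 0) : v = fun i => (![0, 1] : Fin 2 → ℤ) i • v 1 := by
  funext i
  fin_cases i
  · simp [h0]
  · simp

/-- the orbit of the second fundamental weight -/
def OG : List (Fin 2 → ℤ) := [![0, 1], ![3, -1], ![-3, 2], ![3, -2], ![-3, 1], ![0, -1]]

theorem OG_one : ∀ ν ∈ OG, ν 1 = 1 ∨ ν 1 = -1 ∨ ν 1 = 2 ∨ ν 1 = -2 := by decide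

theorem OG_act : ∀ μ ∈ OG, ∀ j, act AG j μ ∈ OG := by decide

theorem two_c {c : G} {ν : Fin 2 → ℤ} (hν : ν ∈ OG) {v : Fin 2 → G} (hv : v = fun i => ν i • c) (h1 : v 1 = 0) :
    (2 : ℤ) • c = 0 := by
  rw [hv] at h1
  simp only at h1
  rcases OG_one ν hν with h2 | h2 | h2 | h2 <;> rw [h2] at h1
  · rw [one_smul] at h1
    rw [h1, smul_zero]
  · rw [neg_smul, one_smul, neg_eq_zero] at h1
    rw [h1, smul_zero]
  · exact h1
  · rw [neg_smul, neg_eq_zero] at h1
    exact h1

theorem quad_facts {v v₁ v₂ : Fin 2 → G} (h0 : v 0 = 0) (h2 : (2 : ℤ) • v 1 = 0) (hc : v 1 ≠ 0) (e1 : v₁ = act AG 1 v)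
    (e2 : v₂ = act AG 0 v₁) : v ≠ v₁ ∧ v₁ ≠ v₂ ∧ v₂ 1 = 0 ∧ act AG 1 v₂ = v₂ := by
  have f0 : v₁ 0 = v 1 := by
    rw [e1]
    simp only [act, AG, Matrix.cons_val_zero, Matrix.cons_val_one]
    rw [h0, neg_smul, sub_neg_eq_add, zero_add, show (3 : ℤ) = 2 + 1 by norm_num, add_smul, h2, zero_add, one_smul]
  have f1 : v₁ 1 = v 1 := by
    rw [e1]
    change v 1 - (2 : ℤ) • v 1 = v 1
    rw [h2, sub_zero]
  have g1 : v₂ 1 = 0 := by
    rw [e2]
    simp only [act, AG, Matrix.cons_val_zero, Matrix.cons_val_one]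
    rw [f0, f1, neg_smul, one_smul, sub_neg_eq_add, ← two_smul ℤ, h2]
  refine ⟨fun h => ?_, fun h => ?_, g1, ?_⟩
  · rw [← h, h0] at f0
    exact hc f0.symm
  · rw [h, g1] at f1
    exact hc f1.symm
  · funext i
    simp only [act]
    rw [g1, smul_zero, sub_zero]

end abs

section comb

variable {W : Type*} [Group W] {M : CoxeterMatrix (Fin 2)} {cs : CoxeterSystem M W} {A : Fin 2 → Fin 2 → ℤ}
  {h : IsCartan M A}

theorem rep_three (hA : A = AG) (w : W) (x : Fin 2 → ℤ) : (3 : ℤ) ∣ rep cs h w x 0 ↔ (3 : ℤ) ∣ x 0 := by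
  obtain ⟨ω, rfl⟩ := cs.wordProd_surjective w
  induction ω with
  | nil => rw [wordProd_nil, map_one, Module.End.one_apply]
  | cons i ω ih =>
    rw [wordProd_cons, rep_mul_apply, ← ih]
    generalize rep cs h (cs.wordProd ω) x = y
    fin_cases i
    · have h1 : rep cs h (cs.simple 0) y 0 = -y 0 + 3 * y 1 := by
        rw [rep_simple_eq, Pi.sub_apply, Pi.smul_apply, sr_self]
        unfold pairing
        rw [Fin.sum_univ_two, hA]
        simp [AG]
        ring
      change (3 : ℤ) ∣ rep cs h (cs.simple 0) y 0 ↔ _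
      rw [h1]
      omega
    · have h1 : rep cs h (cs.simple 1) y 0 = y 0 := rep_simple_apply cs h 1 y 0 (by decide)
      change (3 : ℤ) ∣ rep cs h (cs.simple 1) y 0 ↔ _
      rw [h1]

theorem rep_ne_G2 (hA : A = AG) (w : W) : rep cs h w (sr 0) ≠ sr 1 := by
  intro h1
  have h2 := (rep_three (cs := cs) (h := h) hA w (sr 0)).1 (by
    rw [h1, sr_ne (by decide)]
    exact dvd_zero 3)
  rw [sr_self] at h2
  omega

end comb

variable {W : Type*} {Y : Type u} [Group W] [Group Y] {M : CoxeterMatrix (Fin 2)}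
  {cs : CoxeterSystem M W} {A : Fin 2 → Fin 2 → ℤ} {h : IsCartan M A} {p : ℕ} {T : Subgroup Y} {n : Fin 2 → Y}
  {X : (Fin 2 → ℤ) → Subgroup Y} (R : RGD cs h p T n X) [Finite W] [Finite Y] {V : Type v} [AddCommGroup V]
  [Module ℂ V] {ρ : Representation ℂ Y V} {E : Type*} [CommGroup E] {hh : Fin 2 → E →* T}

include R

omit [Finite W] [Finite Y] in
theorem mv_triv (w : W) : Mv cs R.nsys w (1 : T →* ℂˣ) 1 := by
  intro g _ s t _
  rfl

omit R in
theorem triv_one (i : Fin 2) : Triv X (1 : T →* ℂˣ) i := fun _ _ => rfl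

omit R [Finite W] [Finite Y] in
theorem triv_of_co {l : T →* ℂˣ} {i : Fin 2} (hL : ∀ t : T, (t : Y) ∈ Li X i → t ∈ (hh i).range)
    (h0 : co hh l i = 0) : Triv X l i := by
  intro t ht
  obtain ⟨x, rfl⟩ := hL t ht
  have h1 : (co hh l i).toMul x = 1 := by rw [h0]; rfl
  exact h1

/-- **`G₂(q)` on the frame.** -/
theorem g2_frame [FiniteDimensional ℂ V] (hA : A = AG) (hM : M 0 1 = 6) (hG : GG cs h T X = ⊤)
    (hT : ∀ s ∈ T, ∀ t ∈ T, s * t = t * s) (C : TCo A T n hh) (hρ : ρ.IsIrreducible) (hn : ∀ i, n i ∈ Li X i)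
    (hL : ∀ i, ∀ t : T, (t : Y) ∈ Li X i → t ∈ (hh i).range) {q : ℕ} (hq : ∀ i, Nat.card (X (sr i)) = q) (hq1 : 1 < q)
    {t₀ t₁ : Y} (ht₀ : Ell cs h T X {0} t₀) (hχ₀ : ρ.character t₀ ≠ 0) (ht₁ : Ell cs h T X {1} t₁)
    (hχ₁ : ρ.character t₁ ≠ 0) : ∃ y z : ℂ, (y = q ∨ y = (q : ℂ)⁻¹) ∧ (z = q ∨ z = (q : ℂ)⁻¹) ∧
      (ρ.character 1 * ((1 + y) * (1 + z) * ∑ i ∈ Finset.range 3, (y * z) ^ i) =
        (1 + q : ℂ) * (1 + q) * ∑ i ∈ Finset.range 3, ((q : ℂ) * q) ^ i ∨
      ρ.character 1 * ((1 + y) * (1 + z)) = (1 + q : ℂ) ^ 2 * (1 + q ^ 2 + q ^ 4)) := by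
  have hqa : qq X 0 = q := hq 0
  have hqb : qq X 1 = q := hq 1
  have hI : ∀ i : Fin 2, i = 0 ∨ i = 1 := by decide
  have hVU : VU cs h X ρ ≠ ⊥ := H631.VZ.VU_ne_bot R hG hρ (a := 0) (b := 1) (fun w => rep_ne_G2 hA w)
    (ht₀.toFree.fx_ne_bot R hχ₀) (ht₁.toFree.fx_ne_bot R hχ₁)
  obtain ⟨l₀, hl₀, h00⟩ := exists_fix R hG hT hρ hVU ht₀ hχ₀
  obtain ⟨l', hl', h11⟩ := exists_fix R hG hT hρ hVU ht₁ hχ₁
  obtain ⟨w, hw⟩ := exists_mv R hG hρ hl₀ hl'
  -- the coordinates
  subst hA
  have c0 := fix0 (co_mv C h h00)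
  have c1 := fix1 (co_mv C h h11)
  have hco := eq_smul c0
  -- the orbit
  obtain ⟨ν, hν, hlν⟩ := H650.OZ.exists_orb C h (c := co hh l₀ 1) OG
    (fun μ hμ j => ⟨act AG j μ, OG_act μ hμ j, fun i => rfl⟩) w (μ := ![0, 1]) (by decide) hco hw
  have h2c := two_c hν hlν c1
  by_cases hc0 : co hh l₀ 1 = 0
  · -- the trivial character
    have hl1 : l₀ = 1 := eq_one_of_co C fun i => by
      fin_cases i
      · exact c0
      · exact hc0
    subst hl1
    obtain ⟨-, -, ya, yb, hya, hyb, e⟩ := rank_two R hG hT hρ (a := 0) (b := 1) (by decide) hI (m := 3) (by rw [hM])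
      (by omega) hl₀ (mv_triv R _) (mv_triv R _) ht₀ hχ₀
    have k1 := hya.triv (hn 0) (triv_one 0)
    have k2 := hyb.triv (hn 1) (triv_one 1)
    rw [hqa] at k1 e
    rw [hqb] at k2 e
    exact ⟨ya, yb, k1, k2, Or.inl e⟩
  · obtain ⟨l₁, h01⟩ := exists_mv_to (cs := cs) (hN := R.nsys) (cs.simple 1) l₀
    obtain ⟨l₂, h12⟩ := exists_mv_to (cs := cs) (hN := R.nsys) (cs.simple 0) l₁
    obtain ⟨hn0, hn1, g1, g2⟩ := quad_facts c0 h2c hc0 (co_mv C h h01) (co_mv C h h12)
    have h22 : Mv cs R.nsys (cs.simple 1) l₂ l₂ := by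
      obtain ⟨l₃, h23⟩ := exists_mv_to (cs := cs) (hN := R.nsys) (cs.simple 1) l₂
      have h3 : l₃ = l₂ := co_inj C (by rw [co_mv C h h23, g2])
      rwa [h3] at h23
    obtain ⟨y, z, hy, hz, e⟩ := g2_quad' R hG hρ (a := 0) (b := 1) (by decide) hI hM h00 h01 h12 h22
      (fun e => hn0 (by rw [e])) (fun e => hn1 (by rw [e])) (hn 0) (triv_of_co (hL 0) c0) (hn 1)
      (triv_of_co (hL 1) g1) hq1 hqa hqb hl₀
    exact ⟨y, z, hy, hz, Or.inr e⟩

end Cfsg.Agent.H985.VZ
end

-- part: H446/OZ/G2El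
section
/-!
# Elliptic elements of the Levi subgroups of `G₂(q)`, `q ≥ 5` (helper446, S4842)

Node `0` short, node `1` long.  `exists_ell` : two non conjugate elements `Ell {i}` for each node, from helper798's
general theorem `exists_ell_fun`; torus `q² - 1`.
-/

set_option autoImplicit false
set_option linter.unusedSectionVars false
set_option maxHeartbeats 400000

namespace Cfsg.Agent.H446.OZ.GTwo

open CoxeterSystem Subgroup Cfsg Cfsg.Lie Cfsg.Lie.ChevalleyDatum
open Cfsg.Agent.ChevalleyStructure Cfsg.Agent.ChevalleyStructure.Elts Cfsg.Agent.ChevalleyStructure.CoxeterGeom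
  Cfsg.Agent.ChevalleyStructure.CoxeterGeomTypes Cfsg.Agent.ChevalleyStructure.NPerm
open Cfsg.Agent.Tits.Roots Cfsg.Agent.Tits.Core Cfsg.Agent.Nodes Cfsg.Agent.Nodes.Reps Cfsg.Agent.Nodes.BNOf
  Cfsg.Agent.Nodes.RGDChev Cfsg.Agent.Nodes.Bruhat Cfsg.Agent.Nodes.StabComb Cfsg.Agent.Nodes.LeviDec
open Cfsg.Agent.KFacts.RgdChevCoord Cfsg.Agent.GenExc.Chev
open Cfsg.Agent.H129.TorusChar Cfsg.Agent.H557.LrData Cfsg.Agent.H557.LrRho
open Cfsg.Agent.H985.VZ (Ell Free)
open Cfsg.Agent.H798.OZ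

universe u v

/-- the functional with the values `c i` on the simple roots -/
def fn (c : Fin 2 → ℤ) : (Fin 2 → ℤ) →+ ℤ where
  toFun x := x 0 * c 0 + x 1 * c 1
  map_zero' := by simp
  map_add' x y := by simp only [Pi.add_apply]; ring

theorem fn_apply (c x : Fin 2 → ℤ) : fn c x = x 0 * c 0 + x 1 * c 1 := rfl

theorem fn_sr (c : Fin 2 → ℤ) (i : Fin 2) : fn c (sr i) = c i := by
  rw [fn_apply]
  fin_cases i <;> simp [sr]

/-- the reflections: the `j`-coordinate of `s_k (sr i)` -/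
def mat (k : Fin 2) : Fin 2 → Fin 2 → ℤ := if k = 0 then ![![-1, 3], ![0, 1]] else ![![1, 0], ![1, -1]]

theorem act : ∀ k i j : Fin 2, actW (cartanOf chevG2 2) [k] (sr i) j = mat k j i := by decide +kernel

/-- the functionals -/
def cc (q : ℤ) (k : Fin 2) : Fin 2 → ℤ := if k = 0 then ![1 - q, 2 * q - 1] else ![q, 1 - q]

/-- the roots are bounded -/
theorem tab : ∀ r < 12, ((vec chevG2 2 r 0, vec chevG2 2 r 1) : ℤ × ℤ) ∈
    [((1 : ℤ), (0 : ℤ)), (0, 1), (1, 1), (2, 1), (3, 1), (3, 2), (-1, 0), (0, -1), (-1, -1), (-2, -1), (-3, -1),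
      (-3, -2)] := by decide +kernel

theorem reg {q N : ℤ} (hq : 5 ≤ q) (hN : 2 * q + 1 < N) (k : Fin 2) {r : ℕ} (hr : r < 12) :
    ¬ N ∣ fn (cc q k) (vec chevG2 2 r) := by
  intro h
  rw [fn_apply] at h
  have h1 := tab r hr
  generalize vec chevG2 2 r 0 = a at h h1
  generalize vec chevG2 2 r 1 = b at h h1
  have h2 : a * cc q k 0 + b * cc q k 1 ≠ 0 ∧ |a * cc q k 0 + b * cc q k 1| < N := by
    simp only [List.mem_cons, List.not_mem_nil, or_false, Prod.mk.injEq] at h1
    rw [abs_lt]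
    fin_cases k <;> simp only [cc, Fin.zero_eta, Fin.mk_one, if_true, Fin.isValue, one_ne_zero, if_false,
      Matrix.cons_val_zero, Matrix.cons_val_one] <;>
      rcases h1 with ⟨rfl, rfl⟩ | ⟨rfl, rfl⟩ | ⟨rfl, rfl⟩ | ⟨rfl, rfl⟩ | ⟨rfl, rfl⟩ | ⟨rfl, rfl⟩ | ⟨rfl, rfl⟩ |
        ⟨rfl, rfl⟩ | ⟨rfl, rfl⟩ | ⟨rfl, rfl⟩ | ⟨rfl, rfl⟩ | ⟨rfl, rfl⟩ <;> omega
  exact h2.1 (Int.eq_zero_of_abs_lt_dvd h h2.2)

variable {W : Type v} [Group W] [Finite W] (cs : CoxeterSystem CoxeterMatrix.G₂ W)

/-- the elements of the torus `q² - 1` -/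
theorem elt (hp : IsType chevG2 2 CoxeterMatrix.G₂) {F : Type u} [Field F] [Fintype F] (hF : 5 ≤ Fintype.card F)
    {N m : ℕ} (hm : Fintype.card F ^ 2 = m * N + 1) (hN : 2 * Fintype.card F + 1 < N) (k : Fin 2) :
    ∃ s : ↥(chevG2.group F), Ell cs hp.isCartan (TT chevG2 F) (XX chevG2 2 F) {k} s ∧
      ∀ n : ℕ, s ^ n = 1 ↔ ∀ i, (N : ℤ) ∣ n * cc (Fintype.card F) k i := by
  set q := Fintype.card F with hq
  have hqN : q.Coprime N := by
    rw [← Nat.isCoprime_iff_coprime]
    refine ⟨q, -m, ?_⟩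
    have : (q : ℤ) ^ 2 = m * N + 1 := by exact_mod_cast hm
    linear_combination this
  have hdv : (N : ℤ) ∣ (q : ℤ) ^ 2 - 1 := ⟨m, by
    have : (q : ℤ) ^ 2 = m * N + 1 := by exact_mod_cast hm
    linear_combination this⟩
  have hrep : ∀ i, rep cs hp.isCartan (cs.wordProd [k]) (sr i) = fun j => mat k j i := by
    intro i
    rw [rep_word]
    funext j
    exact act k i j
  have hclosed : ∃ a : AlgebraicClosure F, a ≠ 0 ∧ a ≠ 1 := by
    by_contra hcon
    push Not at hcon
    have h1 : ∀ a : F, a = 0 ∨ a = 1 := fun a => by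
      by_cases h0 : a = 0
      · exact Or.inl h0
      · right
        have h2 := hcon (algebraMap F _ a) (by rwa [ne_eq, map_eq_zero])
        rwa [map_eq_one_iff _ (algebraMap F (AlgebraicClosure F)).injective] at h2
    have h2 : Fintype.card F ≤ 2 := by
      classical
      rw [← Finset.card_univ]
      refine (Finset.card_le_card (t := {0, 1}) fun a _ => ?_).trans Finset.card_le_two
      rcases h1 a with h | h <;> simp [h]
    omega
  obtain ⟨s, h1, h2⟩ := exists_ell_fun hp cs rfl (center_eq_bot (S1055.result hclosed)) invC_G2 one_ne_zero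
    (N := N) (Nat.coprime_one_right N) hqN (J := {k}) (w := cs.wordProd [k])
    (by
      rw [wordProd_singleton]
      exact Subgroup.subset_closure ⟨k, rfl, rfl⟩)
    (fn (cc q k)) (fun i => by
      rw [hrep, fn_sr, fn_apply]
      fin_cases k <;> fin_cases i <;> simp only [mat, cc, Fin.zero_eta, Fin.mk_one, if_true, Fin.isValue,
        one_ne_zero, if_false, Matrix.cons_val_zero, Matrix.cons_val_one]
      · have e : -1 * (1 - (q : ℤ)) + 0 * (2 * q - 1) - q * (1 - q) = q ^ 2 - 1 := by ring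
        rw [e]; exact hdv
      · have e : 3 * (1 - (q : ℤ)) + 1 * (2 * q - 1) - q * (2 * q - 1) = (-2) * ((q : ℤ) ^ 2 - 1) := by ring
        rw [e]; exact hdv.mul_left _
      · have e : 1 * (q : ℤ) + 1 * (1 - q) - q * q = (-1) * ((q : ℤ) ^ 2 - 1) := by ring
        rw [e]; exact hdv.mul_left _
      · have e : 0 * (q : ℤ) + -1 * (1 - q) - q * (1 - q) = (q : ℤ) ^ 2 - 1 := by ring
        rw [e]; exact hdv)
    (fun r hr => reg (by exact_mod_cast hF) (by exact_mod_cast hN) k hr)
    (fun g hg j hj => by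
      rw [Set.mem_singleton_iff] at hj
      subst hj
      have h3 := hg (sr j)
      rw [hrep, hom_eq g, Fin.sum_univ_two] at h3
      fin_cases j <;> simp only [mat, Fin.zero_eta, Fin.mk_one, if_true, Fin.isValue,
        one_ne_zero, if_false, Matrix.cons_val_zero, Matrix.cons_val_one] at h3 ⊢ <;> omega)
  refine ⟨s, h1, fun n => ?_⟩
  rw [h2 n]
  exact forall_congr' fun i => by rw [fn_sr]

/-- **Two non conjugate elliptic elements for each node**, `q ≥ 5`. -/
theorem exists_ell (hp : IsType chevG2 2 CoxeterMatrix.G₂) {F : Type u} [Field F] [Fintype F]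
    (hF : 5 ≤ Fintype.card F) (k : Fin 2) :
    ∃ t t' : ↥(chevG2.group F), Ell cs hp.isCartan (TT chevG2 F) (XX chevG2 2 F) {k} t ∧
      Ell cs hp.isCartan (TT chevG2 F) (XX chevG2 2 F) {k} t' ∧ ¬ IsConj t t' := by
  set q := Fintype.card F with hq
  -- a small divisor `m` of `q² - 1`
  obtain ⟨m, N, hm1, hm, hN, hmq⟩ : ∃ m N : ℕ, 1 < m ∧ q ^ 2 = m * N + 1 ∧ 2 * q + 1 < N ∧ m.Coprime q := by
    by_cases h2 : q % 2 = 1
    · refine ⟨2, (q ^ 2 - 1) / 2, by norm_num, ?_, ?_, ?_⟩
      · have h3 : q ^ 2 % 2 = 1 := by rw [Nat.pow_mod, h2]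
        have h4 : 0 < q ^ 2 := by positivity
        omega
      · have h5 : 5 * q ≤ q ^ 2 := by rw [pow_two]; exact Nat.mul_le_mul_right q hF
        omega
      · rw [Nat.coprime_two_left]
        exact Nat.odd_iff.2 h2
    · have h3 : ¬ 3 ∣ q := by
        intro h3
        have h4 : 6 ∣ Fintype.card F := by
          rw [← hq]
          omega
        obtain ⟨p, _, n, hp, hc⟩ := FiniteField.card' F
        rw [hc] at h4
        have h5 : 2 ∣ p ^ (n : ℕ) := (by norm_num : (2 : ℕ) ∣ 6).trans h4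
        have h6 : 3 ∣ p ^ (n : ℕ) := (by norm_num : (3 : ℕ) ∣ 6).trans h4
        have h7 := (Nat.prime_dvd_prime_iff_eq Nat.prime_two hp).1 (Nat.prime_two.dvd_of_dvd_pow h5)
        have h8 := (Nat.prime_dvd_prime_iff_eq Nat.prime_three hp).1 (Nat.prime_three.dvd_of_dvd_pow h6)
        omega
      have h8 : 8 ≤ q := by
        have h6 : q ≠ 6 := by omega
        omega
      refine ⟨3, (q ^ 2 - 1) / 3, by norm_num, ?_, ?_, ?_⟩
      · have h4 : q ^ 2 % 3 = 1 := by
          have h5 : q % 3 = 1 ∨ q % 3 = 2 := by omega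
          rcases h5 with h5 | h5 <;> rw [Nat.pow_mod, h5]
        have h5 : 0 < q ^ 2 := by positivity
        omega
      · have h5 : 8 * q ≤ q ^ 2 := by rw [pow_two]; exact Nat.mul_le_mul_right q h8
        omega
      · exact (Nat.Prime.coprime_iff_not_dvd Nat.prime_three).2 h3
  have hN1 : 2 * q + 1 < q ^ 2 - 1 := by
    have : N ≤ m * N := Nat.le_mul_of_pos_left N (by omega)
    omega
  have hpos : 0 < q ^ 2 := by positivity
  obtain ⟨t, ht, hto⟩ := elt cs hp hF (N := q ^ 2 - 1) (m := 1) (by rw [one_mul, Nat.sub_add_cancel hpos]) hN1 k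
  obtain ⟨t', ht', hto'⟩ := elt cs hp hF hm hN k
  refine ⟨t, t', ht, ht', fun h => not_isConj (m := N) ?_ (fun h1 => ?_) h.symm⟩
  · rw [hto']
    intro i
    exact Dvd.intro _ rfl
  · rw [hto] at h1
    have e : ((q ^ 2 - 1 : ℕ) : ℤ) = N * m := by
      have : q ^ 2 - 1 = N * m := by rw [hm, Nat.add_sub_cancel, mul_comm]
      rw [this, Nat.cast_mul]
    have hN0 : (N : ℤ) ≠ 0 := by omega
    have h2 : ∀ i, (m : ℤ) ∣ cc q k i := fun i => by
      have h3 := h1 i
      rw [e] at h3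
      exact Int.dvd_of_mul_dvd_mul_left hN0 h3
    have h3 : (m : ℤ) ∣ q := by
      have h4 := h2 0
      have h5 := h2 1
      fin_cases k <;> simp only [cc, Fin.zero_eta, Fin.mk_one, if_true, Fin.isValue, one_ne_zero, if_false,
        Matrix.cons_val_zero, Matrix.cons_val_one] at h4 h5
      · have := dvd_add h4 h5
        rwa [show (1 : ℤ) - q + (2 * q - 1) = q by ring] at this
      · exact h4
    have h4 : m ∣ q := by exact_mod_cast h3
    have h5 := Nat.dvd_gcd (dvd_refl m) h4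
    rw [hmq.gcd_eq_one] at h5
    exact hm1.ne' (Nat.dvd_one.1 h5)

end Cfsg.Agent.H446.OZ.GTwo
end

-- part: H355/GT/Row
section
/-!
# The row `G₂(q)`, `q ≥ 5` (helper355, S4842)

* `not_dvd_st` : `q ^ 6` does not divide the degree of a character vanishing on exactly one class;
* `row_of_ell` : the row `G₂(q)`, `q ≥ 4`, from two non-conjugate elliptic elements for each node;
* `row_ge` : the row `G₂(q)`, `q ≥ 5`.
-/

set_option autoImplicit false
set_option linter.unusedSectionVars false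

open Cfsg

namespace Cfsg.Agent.H355.GT

open CoxeterSystem Cfsg.Agent.Characters Cfsg.Agent.ChevalleyStructure.CoxeterGeom Cfsg.Agent.Tits.Roots Cfsg.Agent.Tits.Core
  Cfsg.Agent.Nodes.Reps Cfsg.Agent.Nodes.BNOf Cfsg.Agent.Nodes.Bruhat Cfsg.Agent.Nodes.LeviDec
open Cfsg.Lie Cfsg.Agent.ChevalleyStructure Cfsg.Agent.ChevalleyStructure.Elts
  Cfsg.Agent.ChevalleyStructure.CoxeterGeomTypes
open Cfsg.Agent.Nodes.RGDChev Cfsg.Agent.KFacts.RgdChevCoord
open Cfsg.Agent.H985.VZ Cfsg.Agent.H604.OZ Cfsg.Agent.H686.CharKit Cfsg.Agent.H730.OZ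
open Cfsg.Agent.H732.VZ (One)

/-- **the degree is not divisible by `q ^ 6`** -/
theorem not_dvd_st {F : Type} [Field F] [Fintype F] {p a : ℕ} (hp : p.Prime) (ha : 0 < a) (hF : Fintype.card F = p ^ a)
    [CharP F p] {χ : IrrCharacter ↥(chevG2.group F)} {x : ↥(chevG2.group F)} (h : One χ x) :
    ¬ Fintype.card F ^ 6 ∣ charDegree (χ : ↥(chevG2.group F) → ℂ) := by
  intro hd
  have hK : Kaw p ↥(chevG2.group F) := H279.OZ.kaw_of_hasRGD hp (hasRGD_G2 F p)
  have hcard : 1 * Nat.card ↥(chevG2.group F) = p ^ (6 * a) * (([2, 6] : List ℕ).map fun d => (p ^ a) ^ d - 1).prod := by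
    rw [Cfsg.Agent.S1059.result hF]
    simp only [List.map_cons, List.map_nil, List.prod_cons, List.prod_nil, mul_one, ← pow_mul]
    rw [mul_comm a 6]
    ring
  have hL : ∀ d ∈ ([2, 6] : List ℕ), 0 < d := fun d hd => by
    simp only [List.mem_cons, List.not_mem_nil, or_false] at hd
    omega
  have hv : (Nat.card ↥(chevG2.group F)).factorization p = 6 * a :=
    H448.Van.fact_of hp (fun h => hp.one_lt.ne' (Nat.dvd_one.1 h)) (H448.Van.not_dvd_prod hp ha hL) Nat.card_pos.ne' hcard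
  have hpG : p ∣ Nat.card ↥(chevG2.group F) := by
    by_contra h
    rw [Nat.factorization_eq_zero_of_not_dvd h] at hv
    omega
  have h1 := OneZero.dvd_of_degree hp hpG χ.2 ⟨x, h.zero, h.uniq⟩ (by
    rw [hv, mul_comm 6 a, pow_mul, ← hF]
    exact hd)
  rw [hK.card, hv, show 2 * (6 * a) = a * 12 by ring] at h1
  refine H448.Van.not_dvd_card hp ha (by norm_num) (N := 6 * a) (L := [2, 6]) ?_ (fun d hd => ?_) h1
  · rw [← hcard]
    exact dvd_mul_left _ _
  · simp only [List.mem_cons, List.not_mem_nil, or_false] at hd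
    omega

/-- one of two non-conjugate elements is not a zero -/
theorem exists_ne_zero {G : Type*} [Group G] {χ : IrrCharacter G} {x : G} (h : One χ x) {P : G → Prop}
    (hP : ∃ t t' : G, P t ∧ P t' ∧ ¬ IsConj t t') : ∃ t, P t ∧ (χ : G → ℂ) t ≠ 0 := by
  obtain ⟨t, t', h1, h2, hc⟩ := hP
  by_cases h3 : (χ : G → ℂ) t = 0
  · refine ⟨t', h2, fun h4 => hc ((h.uniq t h3).symm.trans (h.uniq t' h4))⟩
  · exact ⟨t, h1, h3⟩

set_option backward.isDefEq.respectTransparency false in
theorem cartan_eq : cartanOf chevG2 2 = AG := by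
  funext i j
  rcases (show i = 0 ∨ i = 1 by fin_cases i <;> simp) with rfl | rfl <;>
    rcases (show j = 0 ∨ j = 1 by fin_cases j <;> simp) with rfl | rfl
  · exact A00
  · exact A01
  · exact A10
  · exact A11

/-- the row `G₂(q)` from the elliptic elements -/
theorem row_of_ell {F : Type} [Field F] [Fintype F] (hF : 4 ≤ Fintype.card F)
    (hell : ∀ i : Fin 2, ∃ t t' : ↥(chevG2.group F),
      Ell CoxeterMatrix.G₂.toCoxeterSystem hpG2.isCartan (TT chevG2 F) (XX chevG2 2 F) {i} t ∧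
      Ell CoxeterMatrix.G₂.toCoxeterSystem hpG2.isCartan (TT chevG2 F) (XX chevG2 2 F) {i} t' ∧ ¬ IsConj t t') :
    Row ↥(chevG2.group F) := by
  classical
  refine row_of fun χ x hx => ?_
  obtain ⟨N, ρ, hρ, hχ⟩ := χ.2
  obtain ⟨p, hp⟩ := CharP.exists F
  have hpp : Fact p.Prime := ⟨CharP.char_is_prime F p⟩
  obtain ⟨⟨a, ha⟩, -, hFa⟩ := FiniteField.card F p
  simp only [PNat.mk_coe] at hFa
  have hW : Finite CoxeterMatrix.G₂.Group := finite_W hpG2 CoxeterMatrix.G₂.toCoxeterSystem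
  have R := rgd (K := F) hpG2 CoxeterMatrix.G₂.toCoxeterSystem p
  have hG := H35.ExcIdx.GG_eq_top hpG2 F CoxeterMatrix.G₂.toCoxeterSystem
  obtain ⟨t₀, h0, hc0⟩ := exists_ne_zero hx (hell 0)
  obtain ⟨t₁, h1, hc1⟩ := exists_ne_zero hx (hell 1)
  rw [← hχ] at hc0 hc1
  obtain ⟨r, hgood, hord⟩ := H448.Van.good_G2_6 hpp.out ha hFa (by omega) (by omega)
  have hnr := hgood.iso.not_dvd χ x hx
  obtain ⟨y, z, hy, hz, h⟩ := g2_frame R cartan_eq (by decide) hG (comm_T hpG2 F) (H650.OZ.FF.tco hpG2 p) hρ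
    (n_mem_Li hpG2 F) (fun i t ht => H364.OZ.ChevSL.mem_range_hh hpG2 F CoxeterMatrix.G₂.toCoxeterSystem p i t ht)
    (fun i => qq_eq hpG2 F CoxeterMatrix.G₂.toCoxeterSystem i) (by omega) h0 hc0 h1 hc1
  rw [hχ, ← charDegree_irr χ, hFa] at h
  rw [hFa] at hy hz
  have h1d := one_lt_deg hx
  rcases h with h | h
  · rcases H364.OZ.G2End.lin_dvd hgood.iso.prime ha hpp.out.two_le (Or.inl hord) hy hz h with h2 | h2 | h2
    · omega
    · exact not_dvd_st hpp.out ha hFa hx (by rw [h2, hFa])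
    · exact hnr h2
  · exact hnr (H364.OZ.G2End.quad_dvd hgood.iso.prime ha hpp.out.two_le (Or.inl hord) hy hz (by exact_mod_cast h))

/-- **The row `G₂(q)`, `q ≥ 5`.** -/
theorem row_ge {F : Type} [Field F] [Fintype F] (hF : 5 ≤ Fintype.card F) : Row ↥(chevG2.group F) := by
  have hW : Finite CoxeterMatrix.G₂.Group := finite_W hpG2 CoxeterMatrix.G₂.toCoxeterSystem
  exact row_of_ell (by omega) fun i => H446.OZ.GTwo.exists_ell CoxeterMatrix.G₂.toCoxeterSystem hpG2 hF i

end Cfsg.Agent.H355.GT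
end

-- part: H785/G24/Cls
section
/-!
# `G₂(4)` in dimension six: the two classes of elements of order eight (helper785)

`x₇(1) x₆(1)` and `x₇(1) x₆(1) x₈(w)` are regular unipotent: rational, not conjugate, centralizers of order at most 32.
-/

set_option autoImplicit false
set_option linter.unusedVariables false
set_option Elab.async false

namespace Cfsg.Agent.H785.G24

open Cfsg.Agent.SporRec.GF4
open Cfsg.Agent.StdG24.Mod6
open Cfsg.Agent.StdG24.Ord6 (card_L)
open Cfsg.Agent.GTwoFour.Mdl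
open Cfsg.Agent.GTwoFour.MdlInvChk

/-! ### Checks on codes -/

/-- elements of `S` which act on the line like an element commuting with the elements of order eight lie in `X₇` -/
def chkS (Y' : List ℕ) : Bool :=
  allF SC fun C => impF (Nat.beq (appF C 5) (appF Y' (appF C 4))) (siftF [7] C)

/-- the elements of `U` with `g y = y' g` -/
def chkU (Y Y' : List ℕ) (l : List (List ℕ)) : Bool :=
  allN [7, 6, 8, 9, 10, 11] idC fun C =>
    impF (Nat.beq (appF C (appF Y 1024)) (appF Y' (appF C 1024))) (memF C l)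

theorem appF_lt {g : GL6} {C : List ℕ} (h : Cd g C) (v : ℕ) : appF C v < 4096 := by
  rw [appF_eq]
  exact IsCode.app_lt h v

theorem act_dec {g : GL6} {C : List ℕ} (h : Cd g C) {n : ℕ} (hn : n < 4096) : act g (dec n) = dec (appF C n) :=
  (h.act_iff hn (appF_lt h n)).2 rfl

theorem beq_of {g y y' : GL6} {C Y Y' : List ℕ} (hg : Cd g C) (hy : Cd y Y) (hy' : Cd y' Y') (h : g * y = y' * g)
    {n : ℕ} (hn : n < 4096) : Nat.beq (appF C (appF Y n)) (appF Y' (appF C n)) = true := by
  have h1 : act g (act y (dec n)) = act y' (act g (dec n)) := by rw [← act_mul, h, act_mul]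
  rw [act_dec hy hn, act_dec hg hn, act_dec hg (appF_lt hy n), act_dec hy' (appF_lt hg n)] at h1
  rw [dec_inj (appF_lt hg _) (appF_lt hy' _) h1]
  exact Nat.beq_refl _

/-- an element `g` with `g y = y' g` lies in `U` -/
theorem mem_U {y y' g : GL6} {Y Y' : List ℕ} (hy : Cd y Y) (hy' : Cd y' Y') (h4 : appF Y 4 = 5)
    (hchk : chkS Y' = true) (hz : y ^ 4 = gx 11 0) (hz' : y' ^ 4 = gx 11 0) (hg : g ∈ L) (h : g * y = y' * g) :
    g ∈ U := by
  have h0 : ∀ n : ℕ, g * y ^ n = y' ^ n * g := by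
    intro n
    induction n with
    | zero => rw [pow_zero, pow_zero, mul_one, one_mul]
    | succ n ih => rw [pow_succ, pow_succ, ← mul_assoc, ih, mul_assoc, h, ← mul_assoc]
  have h1 : g * gx 11 0 = gx 11 0 * g := by
    have := h0 4
    rwa [hz, hz'] at this
  obtain ⟨s, hs, q, hq, rfl⟩ := mem_P_of_comm hg h1
  obtain ⟨C, hC, hsC⟩ := S_code hs
  have q1 := Q1_fix1 hq
  have q4 := Q1_fix4 hq
  have d5 : dec 5 = dec 1 + dec 4 := by rw [← dec_xor]; rfl
  have q5 : act q (dec 5) = dec 5 := by rw [d5, act_add, q1, q4]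
  have y4 : act y (dec 4) = dec 5 := act_dec_of hy (by norm_num) (by norm_num) h4
  have h5 : act s (dec 5) = act y' (act s (dec 4)) := by
    have e : act (s * q * y) (dec 4) = act (y' * (s * q)) (dec 4) := by rw [h]
    rwa [act_mul, act_mul, y4, q5, act_mul, act_mul, q4] at e
  rw [act_dec hsC (by norm_num), act_dec hsC (by norm_num), act_dec hy' (appF_lt hsC 4)] at h5
  have h6 := dec_inj (appF_lt hsC _) (appF_lt hy' _) h5
  have h7 : siftF [7] C = true := impF_spec (allF_spec hchk C hC) (by rw [h6]; exact Nat.beq_refl _)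
  have h8 : s ∈ X 7 := siftF_sound (N := X 7) (by intro r hr; rw [List.mem_singleton.1 hr]) hsC h7
  exact ⟨s, h8, q, hq, rfl⟩

/-- the codes of the elements `g` with `g y = y' g` -/
theorem code_mem {y y' g : GL6} {Y Y' : List ℕ} (hy : Cd y Y) (hy' : Cd y' Y') (h4 : appF Y 4 = 5)
    (hchk : chkS Y' = true) (hz : y ^ 4 = gx 11 0) (hz' : y' ^ 4 = gx 11 0) {l : List (List ℕ)}
    (hU : chkU Y Y' l = true) (hg : g ∈ L) (h : g * y = y' * g) : ∃ C ∈ l, Cd g C := by
  obtain ⟨C, hC, h'⟩ := allN_one hU g (U_PS (mem_U hy hy' h4 hchk hz hz' hg h))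
  exact ⟨C, memF_iff.1 (impF_spec h' (beq_of hC hy hy' h (by norm_num))), hC⟩

/-- the order of a centralizer -/
theorem card_cent_le {y : GL6} (hyL : y ∈ L) {Y : List ℕ} (hy : Cd y Y) (h4 : appF Y 4 = 5) (hchk : chkS Y = true)
    (hz : y ^ 4 = gx 11 0) {l : List (List ℕ)} (hU : chkU Y Y l = true) :
    Nat.card (Subgroup.centralizer ({(⟨y, hyL⟩ : L)} : Set L)) ≤ l.length := by
  classical
  have key : ∀ g : Subgroup.centralizer ({(⟨y, hyL⟩ : L)} : Set L), ∃ C ∈ l, Cd ((g : L) : GL6) C := by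
    intro g
    refine code_mem hy hy h4 hchk hz hz hU (g : L).2 ?_
    have h := Subgroup.mem_centralizer_singleton_iff.1 g.2
    exact congrArg Subtype.val h
  choose c hc hcd using key
  have hinj : Function.Injective (fun g => (⟨c g, List.mem_toFinset.2 (hc g)⟩ : l.toFinset)) := by
    intro g g' h
    have h1 : c g = c g' := congrArg Subtype.val h
    have h2 := hcd g
    rw [h1] at h2
    exact Subtype.ext (Subtype.ext (h2.inj (hcd g')))
  have h := Nat.card_le_card_of_injective _ hinj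
  have h' : Nat.card l.toFinset = l.toFinset.card := by rw [Nat.card_eq_fintype_card, Fintype.card_coe]
  exact (h.trans_eq h').trans (List.toFinset_card_le l)

/-! ### The elements -/

def wa : Wd := [(7, 0), (6, 0)]
def wb : Wd := [(7, 0), (6, 0), (8, 1)]

def Ca : List ℕ := [1, 2, 5, 10, 21, 42, 80, 160, 336, 672, 1280, 2560]
def Cb : List ℕ := [1, 2, 5, 10, 23, 41, 80, 160, 351, 677, 1440, 2800]

theorem cw_wa : cw wa = Ca := by decide +kernel
theorem cw_wb : cw wb = Cb := by decide +kernel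

theorem Cd_a : Cd (ev wa) Ca := by rw [← cw_wa]; exact Cd_ev wa
theorem Cd_b : Cd (ev wb) Cb := by rw [← cw_wb]; exact Cd_ev wb

/-- codes of the centralizers -/
def La : List (List ℕ) := [
  [1, 2, 4, 8, 16, 32, 64, 128, 256, 512, 1024, 2048],
  [1, 2, 4, 8, 16, 32, 64, 128, 257, 514, 1028, 2056],
  [1, 2, 4, 8, 16, 32, 64, 128, 258, 515, 1032, 2060],
  [1, 2, 4, 8, 16, 32, 64, 128, 259, 513, 1036, 2052],
  [1, 2, 4, 8, 17, 34, 69, 138, 276, 552, 1108, 2216],
  [1, 2, 4, 8, 17, 34, 69, 138, 277, 554, 1104, 2208],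
  [1, 2, 4, 8, 17, 34, 69, 138, 278, 555, 1116, 2212],
  [1, 2, 4, 8, 17, 34, 69, 138, 279, 553, 1112, 2220],
  [1, 2, 4, 8, 18, 35, 75, 141, 300, 564, 1214, 2263],
  [1, 2, 4, 8, 18, 35, 75, 141, 301, 566, 1210, 2271],
  [1, 2, 4, 8, 18, 35, 75, 141, 302, 567, 1206, 2267],
  [1, 2, 4, 8, 18, 35, 75, 141, 303, 565, 1202, 2259],
  [1, 2, 4, 8, 19, 33, 78, 135, 312, 540, 1259, 2173],
  [1, 2, 4, 8, 19, 33, 78, 135, 313, 542, 1263, 2165],
  [1, 2, 4, 8, 19, 33, 78, 135, 314, 543, 1251, 2161],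
  [1, 2, 4, 8, 19, 33, 78, 135, 315, 541, 1255, 2169],
  [1, 2, 5, 10, 20, 40, 84, 168, 320, 640, 1344, 2688],
  [1, 2, 5, 10, 20, 40, 84, 168, 321, 642, 1349, 2698],
  [1, 2, 5, 10, 20, 40, 84, 168, 322, 643, 1354, 2703],
  [1, 2, 5, 10, 20, 40, 84, 168, 323, 641, 1359, 2693],
  [1, 2, 5, 10, 21, 42, 80, 160, 336, 672, 1280, 2560],
  [1, 2, 5, 10, 21, 42, 80, 160, 337, 674, 1285, 2570],
  [1, 2, 5, 10, 21, 42, 80, 160, 338, 675, 1290, 2575],
  [1, 2, 5, 10, 21, 42, 80, 160, 339, 673, 1295, 2565],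
  [1, 2, 5, 10, 22, 43, 93, 166, 356, 696, 1494, 2667],
  [1, 2, 5, 10, 22, 43, 93, 166, 357, 698, 1491, 2657],
  [1, 2, 5, 10, 22, 43, 93, 166, 358, 699, 1500, 2660],
  [1, 2, 5, 10, 22, 43, 93, 166, 359, 697, 1497, 2670],
  [1, 2, 5, 10, 23, 41, 89, 174, 372, 664, 1431, 2793],
  [1, 2, 5, 10, 23, 41, 89, 174, 373, 666, 1426, 2787],
  [1, 2, 5, 10, 23, 41, 89, 174, 374, 667, 1437, 2790],
  [1, 2, 5, 10, 23, 41, 89, 174, 375, 665, 1432, 2796]]

def Lb : List (List ℕ) := [
  [1, 2, 4, 8, 16, 32, 64, 128, 256, 512, 1024, 2048],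
  [1, 2, 4, 8, 16, 32, 64, 128, 257, 514, 1028, 2056],
  [1, 2, 4, 8, 16, 32, 64, 128, 258, 515, 1032, 2060],
  [1, 2, 4, 8, 16, 32, 64, 128, 259, 513, 1036, 2052],
  [1, 2, 4, 8, 17, 34, 71, 137, 276, 552, 1142, 2203],
  [1, 2, 4, 8, 17, 34, 71, 137, 277, 554, 1138, 2195],
  [1, 2, 4, 8, 17, 34, 71, 137, 278, 555, 1150, 2199],
  [1, 2, 4, 8, 17, 34, 71, 137, 279, 553, 1146, 2207],
  [1, 2, 4, 8, 18, 35, 72, 140, 300, 564, 1167, 2245],
  [1, 2, 4, 8, 18, 35, 72, 140, 301, 566, 1163, 2253],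
  [1, 2, 4, 8, 18, 35, 72, 140, 302, 567, 1159, 2249],
  [1, 2, 4, 8, 18, 35, 72, 140, 303, 565, 1155, 2241],
  [1, 2, 4, 8, 19, 33, 79, 133, 312, 540, 1272, 2140],
  [1, 2, 4, 8, 19, 33, 79, 133, 313, 542, 1276, 2132],
  [1, 2, 4, 8, 19, 33, 79, 133, 314, 543, 1264, 2128],
  [1, 2, 4, 8, 19, 33, 79, 133, 315, 541, 1268, 2136],
  [1, 2, 5, 10, 20, 40, 92, 164, 360, 700, 1387, 2749],
  [1, 2, 5, 10, 20, 40, 92, 164, 361, 702, 1390, 2743],
  [1, 2, 5, 10, 20, 40, 92, 164, 362, 703, 1377, 2738],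
  [1, 2, 5, 10, 20, 40, 92, 164, 363, 701, 1380, 2744],
  [1, 2, 5, 10, 21, 42, 90, 175, 376, 668, 1289, 2574],
  [1, 2, 5, 10, 21, 42, 90, 175, 377, 670, 1292, 2564],
  [1, 2, 5, 10, 21, 42, 90, 175, 378, 671, 1283, 2561],
  [1, 2, 5, 10, 21, 42, 90, 175, 379, 669, 1286, 2571],
  [1, 2, 5, 10, 22, 43, 86, 171, 332, 644, 1484, 2628],
  [1, 2, 5, 10, 22, 43, 86, 171, 333, 646, 1481, 2638],
  [1, 2, 5, 10, 22, 43, 86, 171, 334, 647, 1478, 2635],
  [1, 2, 5, 10, 22, 43, 86, 171, 335, 645, 1475, 2625],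
  [1, 2, 5, 10, 23, 41, 80, 160, 348, 676, 1455, 2805],
  [1, 2, 5, 10, 23, 41, 80, 160, 349, 678, 1450, 2815],
  [1, 2, 5, 10, 23, 41, 80, 160, 350, 679, 1445, 2810],
  [1, 2, 5, 10, 23, 41, 80, 160, 351, 677, 1440, 2800]]

theorem chkS_a : chkS Ca = true := by decide +kernel
theorem chkS_b : chkS Cb = true := by decide +kernel
theorem four_a : appF Ca 4 = 5 := by decide +kernel
theorem chkU_aa : chkU Ca Ca La = true := by decide +kernel
theorem four_b : appF Cb 4 = 5 := by decide +kernel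
theorem chkU_bb : chkU Cb Cb Lb = true := by decide +kernel
theorem chkU_ab : chkU Ca Cb [] = true := by decide +kernel

theorem gxe (r : Fin 12) (t : Fin 3) : gx r t = ev [(r, t)] := (ev_singleton (r, t)).symm

theorem pow4 (w : Wd) : ev w ^ 4 = ev (w ++ (w ++ (w ++ w))) := by
  rw [ev_append, ev_append, ev_append]
  simp only [pow_succ, pow_zero, one_mul, mul_assoc]

theorem pow4_a : ev wa ^ 4 = gx 11 0 := by
  rw [pow4, gxe]
  exact ev_eq_of (by decide +kernel)

theorem pow4_b : ev wb ^ 4 = gx 11 0 := by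
  rw [pow4, gxe]
  exact ev_eq_of (by decide +kernel)

/-- the elements of order eight -/
def ya : L := ⟨ev wa, ev_mem wa⟩
def yb : L := ⟨ev wb, ev_mem wb⟩

theorem cent_ya : Nat.card (Subgroup.centralizer ({ya} : Set L)) ≤ 32 :=
  card_cent_le (ev_mem wa) Cd_a four_a chkS_a pow4_a chkU_aa

theorem cent_yb : Nat.card (Subgroup.centralizer ({yb} : Set L)) ≤ 32 :=
  card_cent_le (ev_mem wb) Cd_b four_b chkS_b pow4_b chkU_bb

theorem not_conj : ¬ IsConj ya yb := by
  intro h
  obtain ⟨g, hg⟩ := isConj_iff.1 h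
  have h1 : (g : GL6) * ev wa = ev wb * (g : GL6) := by
    have h2 : g * ya = yb * g := by rw [← hg]; group
    exact congrArg Subtype.val h2
  obtain ⟨C, hC, -⟩ := code_mem Cd_a Cd_b four_a chkS_b pow4_a pow4_b chkU_ab g.2 h1
  exact absurd hC List.not_mem_nil

theorem pow8_of {w : Wd} (h : ev w ^ 4 = gx 11 0) : ev w ^ 8 = 1 := by
  rw [show 8 = 4 + 4 by rfl, pow_add, h, gx_sq]

theorem pow8_ya : ya ^ 8 = 1 := Subtype.ext (pow8_of pow4_a)
theorem pow8_yb : yb ^ 8 = 1 := Subtype.ext (pow8_of pow4_b)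

/-- conjugacy from an equation between words -/
theorem conj3_of {w k : Wd} (h : cw (k ++ w) = cw (w ++ (w ++ (w ++ k)))) :
    IsConj (⟨ev w, ev_mem w⟩ : L) ((⟨ev w, ev_mem w⟩ : L) ^ 3) := by
  refine isConj_iff.2 ⟨⟨ev k, ev_mem k⟩, Subtype.ext ?_⟩
  have h1 := ev_eq_of h
  rw [ev_append, ev_append, ev_append, ev_append] at h1
  show ev k * ev w * (ev k)⁻¹ = ev w ^ 3
  rw [h1, mul_inv_eq_iff_eq_mul]
  simp only [pow_succ, pow_zero, one_mul, mul_assoc]

theorem conj5_of {w k : Wd} (h : cw (k ++ w) = cw (w ++ (w ++ (w ++ (w ++ (w ++ k)))))) :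
    IsConj (⟨ev w, ev_mem w⟩ : L) ((⟨ev w, ev_mem w⟩ : L) ^ 5) := by
  refine isConj_iff.2 ⟨⟨ev k, ev_mem k⟩, Subtype.ext ?_⟩
  have h1 := ev_eq_of h
  rw [ev_append, ev_append, ev_append, ev_append, ev_append, ev_append] at h1
  show ev k * ev w * (ev k)⁻¹ = ev w ^ 5
  rw [h1, mul_inv_eq_iff_eq_mul]
  simp only [pow_succ, pow_zero, one_mul, mul_assoc]

theorem conj3_ya : IsConj ya (ya ^ 3) := conj3_of (k := [(6, 0), (10, 0)]) (by decide +kernel)
theorem conj5_ya : IsConj ya (ya ^ 5) := conj5_of (k := [(10, 0)]) (by decide +kernel)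
theorem conj3_yb : IsConj yb (yb ^ 3) := conj3_of (k := [(7, 0), (10, 0)]) (by decide +kernel)
theorem conj5_yb : IsConj yb (yb ^ 5) := conj5_of (k := [(10, 0)]) (by decide +kernel)

end Cfsg.Agent.H785.G24
end

-- part: H785/G24/Iso
section
/-!
# `G₂(4)`: the centralizers of the elements of order 13 (helper785)
-/

set_option autoImplicit false
open Subgroup

namespace Cfsg.Agent.H785.G24

open Cfsg.Lie Cfsg.Agent.H129 Cfsg.Agent.H129.TorusTw Cfsg.Agent.Nodes.RGDChev

universe u

variable {F : Type u} [Field F] [Fintype F]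

theorem not_dvd_int {p : ℕ} {m : ℕ} (hm : 0 < m) (h : m < p) : ¬ (p : ℤ) ∣ (m : ℤ) := by
  intro h1
  have := Nat.le_of_dvd hm (Int.natCast_dvd_natCast.1 h1)
  omega

theorem typ2 : IsType chevG2 2 CoxeterMatrix.G₂ := by simp

theorem notW2 {r : ℕ} (hr : r.Prime) (h8 : 7 ≤ r) : ¬ r ∣ Nat.card CoxeterMatrix.G₂.Group := fun h => by
  have := finite_W typ2 CoxeterMatrix.G₂.toCoxeterSystem
  have := Cfsg.Agent.H378.LatCodim.le_of_dvd_card CoxeterMatrix.G₂.toCoxeterSystem typ2.isCartan hr h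
  omega

/-- the cyclic torus of order 13 of `G₂(4)` -/
theorem torus13 (hF : Fintype.card F = 4) :
    ∃ T : Subgroup ↥(chevG2.group F), Nat.card ↥T = 13 ∧
      ∀ y ∈ T, orderOf y = 13 → Subgroup.centralizer {y} ≤ T := by
  have := finite_W typ2 CoxeterMatrix.G₂.toCoxeterSystem
  have hr : Nat.Prime 13 := by norm_num
  have hN : ((13 : ℕ) : ℤ) = 1 - ((4 : ℕ) : ℤ) + ((4 : ℕ) : ℤ) ^ 2 := by norm_num
  have hrq : ((13 : ℕ) : ℤ) ∣ 1 - ((4 : ℕ) : ℤ) + ((4 : ℕ) : ℤ) ^ 2 := by norm_num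
  have hG : ∀ s, ¬ ((13 : ℕ) : ℤ) ∣ Gq DataG2h.B ((4 : ℕ) : ℤ) (DataG2h.R s) := by
    intro s hs
    rcases DataG2h.dvd_of_G hrq s hs with h1 | h1
    · exact not_dvd_int (m := 1) (p := 13) (by norm_num) (by omega) h1
    · exact not_dvd_int (m := 3) (p := 13) (by norm_num) (by omega) h1
  have hqN : (4 : ℕ).Coprime 13 := by norm_num
  obtain ⟨T, h1, h3, h4, h5, -⟩ := UntwT.untw_T typ2 CoxeterMatrix.G₂.toCoxeterSystem (by norm_num) hF
    TorusChar.invC_G2 one_ne_zero DataG2h.hA DataG2h.chainOK DataG2h.cycOK DataG2h.rootOK (N := 13)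
    (by rw [DataG2h.fN_eq, hN]) hqN (d := 1) (Or.inl rfl)
  rw [one_mul] at h4
  exact ⟨T, Nat.dvd_antisymm h3 h4, h5 13 hr (notW2 hr (by norm_num)) hG⟩

theorem card_G2 (hF : Fintype.card F = 4) : Nat.card ↥(chevG2.group F) = 251596800 := by
  rw [Cfsg.Agent.S1059.result hF]; norm_num

/-- in a group with a Sylow subgroup of order 13 which contains its centralizers -/
theorem iso13 {G : Type*} [Group G] [Finite G] (hc : Nat.card G = 251596800) {T : Subgroup G}
    (hT : Nat.card T = 13) (hcT : ∀ y ∈ T, orderOf y = 13 → Subgroup.centralizer {y} ≤ T) (y : G)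
    (hy : orderOf y = 13) : Nat.card (Subgroup.centralizer ({y} : Set G)) = 13 := by
  have hp : Fact (Nat.Prime 13) := ⟨by norm_num⟩
  have hf : (Nat.card G).factorization 13 = 1 := by
    rw [hc, show (251596800 : ℕ) = 13 ^ 1 * 19353600 by norm_num, Nat.factorization_mul (by norm_num) (by norm_num),
      Nat.Prime.factorization_pow (by norm_num), Finsupp.add_apply, Finsupp.single_eq_same,
      Nat.factorization_eq_zero_of_not_dvd (by norm_num)]
  let S : Sylow 13 G := Sylow.ofCard T (by rw [hT, hf, pow_one])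
  obtain ⟨Q, hQ⟩ := (IsPGroup.of_card (n := 1) (by rw [Nat.card_zpowers, hy, pow_one]) :
    IsPGroup 13 (Subgroup.zpowers y)).exists_le_sylow
  obtain ⟨g, hg⟩ := MulAction.exists_smul_eq G Q S
  have h1 : g * y * g⁻¹ ∈ T := by
    have h2 : y ∈ (Q : Subgroup G) := hQ (Subgroup.mem_zpowers y)
    have h3 : g * y * g⁻¹ ∈ ((g • Q : Sylow 13 G) : Subgroup G) := by
      rw [Sylow.coe_subgroup_smul]
      exact Subgroup.smul_mem_pointwise_smul _ (MulAut.conj g) _ h2
    rw [hg] at h3
    exact h3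
  have ho : orderOf (g * y * g⁻¹) = 13 := by
    have := (MulAut.conj g).orderOf_eq y
    rw [MulAut.conj_apply] at this
    rw [this, hy]
  have h4 : Subgroup.centralizer {g * y * g⁻¹} ≤ T := hcT _ h1 ho
  have h5 : ∀ a : G, a ∈ Subgroup.centralizer ({y} : Set G) → g * a * g⁻¹ ∈ T := by
    intro a ha
    apply h4
    rw [Subgroup.mem_centralizer_singleton_iff] at ha ⊢
    calc g * a * g⁻¹ * (g * y * g⁻¹) = g * (a * y) * g⁻¹ := by group
      _ = g * (y * a) * g⁻¹ := by rw [ha]
      _ = _ := by group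
  have h6 : Nat.card (Subgroup.centralizer ({y} : Set G)) ≤ 13 := by
    rw [← hT]
    refine Nat.card_le_card_of_injective (fun a : Subgroup.centralizer ({y} : Set G) => (⟨g * a * g⁻¹, h5 a a.2⟩ : T)) ?_
    intro a b h
    have h7 : g * (a : G) * g⁻¹ = g * (b : G) * g⁻¹ := congrArg Subtype.val h
    exact Subtype.ext (mul_left_cancel (mul_right_cancel h7))
  have h7 : 13 ∣ Nat.card (Subgroup.centralizer ({y} : Set G)) := by
    have h8 : Subgroup.zpowers y ≤ Subgroup.centralizer ({y} : Set G) := by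
      rw [Subgroup.zpowers_le, Subgroup.mem_centralizer_singleton_iff]
    have h9 := Subgroup.card_dvd_of_le h8
    rwa [Nat.card_zpowers, hy] at h9
  exact le_antisymm h6 (Nat.le_of_dvd Nat.card_pos h7)

/-- the elements of order 13 of `G₂(4)` -/
theorem c13 (hF : Fintype.card F = 4) (y : ↥(chevG2.group F)) (hy : orderOf y = 13) :
    Nat.card (Subgroup.centralizer ({y} : Set ↥(chevG2.group F))) = 13 := by
  have hc := card_G2 hF
  have : Finite ↥(chevG2.group F) := Nat.finite_of_card_ne_zero (by rw [hc]; norm_num)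
  obtain ⟨T, hT, h⟩ := torus13 hF
  exact iso13 hc hT h y hy

end Cfsg.Agent.H785.G24
end

-- part: H785/G24/Row
section
/-!
# S4842, the row `G₂(4)` (helper785)

No irreducible character of `G₂(4)` vanishes on exactly one class: the sieve (13 is isolated) leaves even degrees
only; the two classes of elements of order 8 are rational with centralizers of order 32 and there are `2 ^ 24`
elements of order a power of two.
-/

set_option autoImplicit false

open Cfsg Cfsg.Agent.Characters Cfsg.Agent.H732.VZ Cfsg.Agent.H604.OZ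

namespace Cfsg.Agent.H785.G24

open Cfsg.Agent.SporRec.GF4
open Cfsg.Agent.StdG24.Mod6
open Cfsg.Agent.Nodes.RGDChev

universe u

theorem cardL : Nat.card L = 251596800 := Cfsg.Agent.StdG24.Ord6.card_L

theorem finiteL : Finite L := Nat.finite_of_card_ne_zero (by rw [cardL]; norm_num)

theorem simpleL : IsSimpleGroup L := by
  obtain ⟨e⟩ := Cfsg.Agent.StdG24.Iso6.equiv_chev F4 F4.card_F4
  have hs := (Cfsg.Agent.S1055.result (F := F4) ⟨F4.w, by decide, by decide⟩).1
  have : Nontrivial L := e.symm.injective.nontrivial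
  exact IsSimpleGroup.isSimpleGroup_of_surjective e.symm.toMonoidHom e.symm.surjective

theorem card_cent_equiv {G H : Type*} [Group G] [Group H] (e : G ≃* H) (y : G) :
    Nat.card (Subgroup.centralizer ({y} : Set G)) = Nat.card (Subgroup.centralizer ({e y} : Set H)) := by
  refine Nat.card_congr (e.toEquiv.subtypeEquiv fun a => ?_)
  rw [Subgroup.mem_centralizer_singleton_iff, Subgroup.mem_centralizer_singleton_iff]
  show a * y = y * a ↔ e a * e y = e y * e a
  rw [← map_mul, ← map_mul]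
  exact e.injective.eq_iff.symm

theorem c13L (y : L) (hy : orderOf y = 13) : Nat.card (Subgroup.centralizer ({y} : Set L)) = 13 := by
  obtain ⟨e⟩ := Cfsg.Agent.StdG24.Iso6.equiv_chev F4 F4.card_F4
  rw [card_cent_equiv e]
  exact c13 F4.card_F4 _ ((MulEquiv.orderOf_eq e y).trans hy)

theorem factL : (251596800 : ℕ).factorization 2 = 12 := by
  rw [show (251596800 : ℕ) = 2 ^ 12 * 61425 by norm_num, Nat.factorization_mul (by norm_num) (by norm_num),
    Nat.Prime.factorization_pow Nat.prime_two, Finsupp.add_apply, Finsupp.single_eq_same,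
    Nat.factorization_eq_zero_of_not_dvd (by norm_num)]

theorem char_F4 : CharP F4 2 := by
  have h : (2 : F4) = 0 := by decide
  exact CharP.of_prime_of_natCast_eq_zero_aux h
where
  CharP.of_prime_of_natCast_eq_zero_aux (h : (2 : F4) = 0) : CharP F4 2 := by
    have h1 : ringChar F4 ∣ 2 := by
      rw [← ringChar.spec]
      exact_mod_cast h
    rcases (Nat.dvd_prime Nat.prime_two).1 h1 with h2 | h2
    · have := ringChar.spec F4 1
      rw [h2] at this
      exact absurd (this.2 dvd_rfl) (by decide)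
    · exact ringChar.of_eq h2

/-- the number of 2-elements -/
theorem card_two : (H730.OZ.pSet 2 L).ncard = 2 ^ 24 := by
  have hfin := finiteL
  have := char_F4
  obtain ⟨e⟩ := Cfsg.Agent.StdG24.Iso6.equiv_chev F4 F4.card_F4
  have hR : HasRGD 2 L := (hasRGD_G2 F4 2).of_equiv e.symm
  have h := H631.Kaw.card_pSet hR
  rw [cardL, factL] at h
  exact h

/-- degrees left by the sieve -/
def DD : List ℕ := [12, 40, 64, 90, 144, 480, 768, 2560, 5760]

theorem DD_ok : ∀ d ∈ DD, 2 ∣ d := by decide +kernel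

theorem not_two_dvd {m : ℕ} (h : m.Coprime (Nat.card L)) : ¬ 2 ∣ m := by
  rw [cardL] at h
  intro h1
  have h2 := Nat.dvd_gcd h1 (show 2 ∣ 251596800 by norm_num)
  rw [h] at h2
  omega

theorem order_pp {y : L} {r k : ℕ} (hr : r.Prime) (h : y ^ r ^ k = 1) : ∃ n, orderOf y = r ^ n := by
  obtain ⟨n, -, hn⟩ := (Nat.dvd_prime_pow hr).1 (orderOf_dvd_of_pow_eq_one h)
  exact ⟨n, hn⟩

open Cfsg.Agent.H785.OZ8 in
/-- **The row.** -/
theorem row_L : H730.OZ.Row L := by
  have hfin := finiteL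
  have hsim := simpleL
  have hN := cardL
  refine row_of fun χ x h => ?_
  have h4 : 4 ≤ cent x := four_le_cent h (by rw [hN]; norm_num) (by rw [hN]; norm_num)
  have h2e : (∃ k, orderOf x = 2 ^ k) → 15 ≤ cent x := by
    intro hx
    have h1 := card_le_of_pSet card_two hx
    rw [hN] at h1
    by_contra hlt
    have h2 : cent x ≤ 14 := by omega
    have h3 := Nat.mul_le_mul_left (2 ^ 24) h2
    omega
  have h6 : 6 ≤ cent x := by
    by_contra hlt
    have h1 : cent x = 4 ∨ cent x = 5 := by omega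
    rcases h1 with h1 | h1
    · have h2 := orderOf_dvd_cent x
      rw [h1] at h2
      obtain ⟨n, -, hn⟩ := (Nat.dvd_prime_pow Nat.prime_two).1 (show orderOf x ∣ 2 ^ 2 from h2)
      have h3 := h2e ⟨n, hn⟩
      omega
    · exact cent_prime (ne_one h) (by rw [h1]; norm_num) (by rw [h1, hN]; norm_num)
  -- the degree is odd
  have hd2 : ¬ 2 ∣ charDegree (χ : L → ℂ) := by
    intro hd
    have o1 : ∃ n, orderOf ya = 2 ^ n := order_pp Nat.prime_two (k := 3) pow8_ya
    have o2 : ∃ n, orderOf yb = 2 ^ n := order_pp Nat.prime_two (k := 3) pow8_yb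
    have r1 : ∀ m : ℕ, m.Coprime (Nat.card L) → IsConj (ya ^ m) ya := fun m hm =>
      rat8 pow8_ya conj3_ya conj5_ya (not_two_dvd hm)
    have r2 : ∀ m : ℕ, m.Coprime (Nat.card L) → IsConj (yb ^ m) yb := fun m hm =>
      rat8 pow8_yb conj3_yb conj5_yb (not_two_dvd hm)
    by_cases hx1 : IsConj x ya
    · have h1 := h2e (by
        obtain ⟨n, hn⟩ := o1
        exact ⟨n, by rw [orderOf_eq_of_conj hx1, hn]⟩)
      have h2 := H849.OZ.one_prime h Nat.prime_two hd o2 r2 fun h' => not_conj (hx1.symm.trans h')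
      have h3 : cent yb ≤ 32 := cent_yb
      omega
    · by_cases hx2 : IsConj x yb
      · have h1 := h2e (by
          obtain ⟨n, hn⟩ := o2
          exact ⟨n, by rw [orderOf_eq_of_conj hx2, hn]⟩)
        have h2 := H849.OZ.one_prime h Nat.prime_two hd o1 r1 hx1
        have h3 : cent ya ≤ 32 := cent_ya
        omega
      · have h2 := two_prime h Nat.prime_two hd o1 o2 r1 r2 hx1 hx2 not_conj cent_ya cent_yb
        omega
  have hiso : ∀ r ∈ [13], charDegree (χ : L → ℂ) % r = 0 ∨ charDegree (χ : L → ℂ) % r = 1 ∨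
      charDegree (χ : L → ℂ) % r = r - 1 := by
    intro r hr
    obtain rfl := List.mem_singleton.1 hr
    exact H672.OZ.iso_mod h (by norm_num) (by norm_num) (by rw [hN]; norm_num) (by rw [hN]; norm_num)
      (by rw [hN]; norm_num) c13L h4
  have hm := H672.OZ.mem_of_sieve h hN (l := [(2, 12), (3, 3), (5, 2), (7, 1), (13, 1)]) (by decide +kernel)
    (by
      intro x hx
      simp only [List.mem_cons, List.not_mem_nil, or_false] at hx
      rcases hx with rfl | rfl | rfl | rfl | rfl <;> norm_num)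
    (by decide +kernel) h6 hiso (D := DD) (by decide +kernel)
  exact hd2 (DD_ok _ hm)

/-- **S4842, the row `G₂(4)`.** -/
theorem row_G2_four {S : Type u} [Group S] [Finite S] (_hs : IsSimpleGroup S) {F : Type} [Field F] [Fintype F]
    (hF : Fintype.card F = 4) (e : S ≃* Cfsg.Lie.chevG2.group F) : H730.OZ.Row S := by
  have hfin := finiteL
  obtain ⟨f⟩ := Cfsg.Agent.StdG24.Iso6.equiv_chev F hF
  exact H730.OZ.Row.congr (e.trans f.symm) row_L

end Cfsg.Agent.H785.G24
end

-- part: H355/GT/Main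
section
/-!
# The row `G₂(q)`, `q ≥ 3` (helper355, S4842), from the row `G₂(3)`
-/

set_option autoImplicit false

open Cfsg

namespace Cfsg.Agent.H355.GT

open Cfsg.Lie Cfsg.Agent.H730.OZ

universe u

/-- **the row `G₂(q)`**, the case `q = 3` as a hypothesis -/
theorem row_g2_of_three
    (h3 : ∀ {S : Type u} [Group S] [Finite S], IsSimpleGroup S → ∀ {F : Type} [Field F] [Fintype F],
      Fintype.card F = 3 → (S ≃* ↥(chevG2.group F)) → Row S)
    {S : Type u} [Group S] [Finite S] (hs : IsSimpleGroup S) (h : Lie.IsoChevG2 S) : Row S := by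
  obtain ⟨F, i1, i2, hF, ⟨e⟩⟩ := h
  rcases (show Fintype.card F = 3 ∨ Fintype.card F = 4 ∨ 5 ≤ Fintype.card F by omega) with h | h | h
  · exact h3 hs h e
  · exact H785.G24.row_G2_four hs h e
  · exact Row.congr e (row_ge h)

end Cfsg.Agent.H355.GT
end

private theorem dce_99c92307474b : _root_.True := by
  try have : _root_.True := by simp only [_root_.Cfsg.Agent.H985.VZ.AG.eq_1]
  try have : _root_.True := by simp only [_root_.Cfsg.Agent.H446.OZ.GTwo.cc.eq_1]
  try have : _root_.True := by simp only [_root_.Cfsg.Agent.H446.OZ.GTwo.mat.eq_1]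
  exact _root_.True.intro
end

-- part: H257/OZ/McLRow_mg
section
prune_inst 0x80000000000000c010000
set_option linter.all false
open scoped Cfsg.Agent.FastGrp

-- part: H257/OZ/McLData
section
/-!
# Tables for the McLaughlin group on 275 points (helper257, S4842)

An element `t8` of order 8, `t9` of order 9, elements `t5`, `t94` normalising the groups generated by them, and an outer
automorphism `ta` commuting with `t8`.
-/

set_option autoImplicit false

namespace Cfsg.Agent.H257.OZ.McLD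

def t8 : ℕ := 0x4107890e1ee288110591da340880700ac1b07f87e1a62044b0972143a4550ef1162100d0ab18629c6884a1d43207e0a921e35c3308c2243047f0fa0ce1b85a87f1e83c8328c5204434888b31e00344c0620b01e8588a110c42062109200358468531a83f43e8421ce05c130551ba338140de15c274448e406c0a8718e01c232c4f891014110390b60021d4348a31202644104d1b02fc4a10c0c6414761030f8168090b01b44045005b09e1ac429070da17c830730760700289c1cc248350600a832828837080298078ac0863ac120f617a3e0770461060c06d8d51842005207101c3d4280a519e1e41701f066114260390e83941380903a094660d20220642e07b1502d07d86f046254290201340d0010bc07c388308bb18c2388585e16e2e43b0061100c80189e09c324578ad18e06c7c8b21d00c4258150820f0240350100b04d8b805e3cc4783f0ae300080870d02f86c86408e0601c01405a02c248ba19a0104502b1be24c098070420781d00c02c1dc148dc07a1743c000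
def t9 : ℕ := 0x4287a8f40be42c1691119c4345d903164194718831b63685d0691901e0420751862fc358d61f63004305c0740882d9081e04188707913e254468e61a63083f02e0800740c88116c3b4550961f83546e8eb1b829c4e01514c4488810f142394260c104e3c47707119434834062114240291091fe2c4838540e02d01980a198140738b80f624c800ac0e83e01c8af0e619c3e0b0124264271042023f42988b0cc0a83780900a314740d10fe23c7f0e01963dc4e8b50d4174268072182b83006c16e154810d91b01203203204206c080fa1a81e84702c0940d00b83d1ec1f4710f21e611c750f913612c120ad1041dc0600417c2601583018e0d4720b90dc0bc630031921681b0b30ec0f81885e0c202c668a5004290748a21a028c2105609e164429051220800787217a2244b89a1400dc220431880381183f1be1602281319e2a0208250240580681e1782ac1c0e11d80985484600c1b44382902218c2883b0020507789413c2202b8280920200c01c1ae3784003c03e2300d000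
def t5 : ℕ := 0x1dc7d1081ce164769101bc1c0520ff1982a0690831304082a06d21807c490371cc43c708d610827c62017082318338751d01608682100c184340dd2223d46c0f91761205d0761be42c638ad1521f4500f60f2308318160be4243705c10e1e8649060203644d8361de38c138fb06624018045104278350141e43902384906a0303e0230b40044000b06836c5f0720e616c531070c42b8011050e81c40408a1ca3703482b11024c0e8fd0de1402885719e40c2e8f8038094300070aa3283d8cd134044290f12083c0408a3054100468a71ae2ac448442243a85f8b119c3546810e12c22c8085301c3b8598e91ee0880d03b1582d4700da1541184a0a21a6274850bd122134689000ac2144a8970400e43602c06406c798b91c4138600640300b45c07e0520c41e81e0f004c2f0041863d05e08e1f812c1f0c504c048250431a81941d02f1820545780d14a1985b06b1fc0e0430b20841fc0504c190270140b707e0644c88c01e13c048ec1420b8028b01963ac1203c0062d047800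
def t94 : ℕ := 0x3182f8361301dc2c86e1064340d882042168718f61080c00587d02e1847d0fd124044368d615c0182d90c00e3b4620d90901786c0c91760ac1e8b51a62648200d0803c01d8b3006128640da0ce1bc3e0730523ec300161cc0b4888b90641981501218a3d0179080c4348438a01142408390b206040568be21c1344588d1642386104e0c61a0320ba20230c0c8081bc2a47781c1f039c4f0f219a3887c8471561186b89d0340f8740371c20603b0310fe3dc258a620415c5404118e29c460ea02843c798710e00742880119827c118db0d21e8060530441b05500a19c3503a87e0d40cc1a02c0f0024408521fe424280540083d4070960b81e43285522007c2282506a3907882410009c130581362b03a0af10a300580bf1a2124210ec1104481f9051b82f4518bc07023c608b71943401700510c254588020ba4188504f0d62d01d0b612e0f02207203c394100cb0503807e04c14833c49891144250800391422686e87b17004c6f85601e294448e91aa3ac7f0151dc27021800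
def ta : ℕ := 0x1f8510c31a0374228330443bc7b83709810c788eb09403c130281f83a4210ff13e170010ae2123986c0a012c2188287321418c600b62081ac7f0590e23d8620b413234c5284f1021988700d1200100b8f50e82982c09c1c42103110f182208050181183200c8ca0e00744d0e52202a4678ed0f40143905602208c550970d83b02a8e40260703d8a104a3e01206a0ea2e46102c0dc358708670f2444580f41f6024148d40243147182d1703cc1906506006c3f8db0020d00f0cb0f80d84002e04e3c8188d200c3386f8891224481c08b1622fc5183b080038558d71e02f4738c708229c0a8b71d42b01f81f1483784a0441dc3441003c08e0e40d0fa0900e8740d50542f05a82f0280f8258491c01181a9070a240c2805b0be1388686420c3f4378770d21481e8600f01682f07d2102282688e218254428930a82204c0a805615c4e90010e404578ad17442c108610d0234630b2124174648cc1b20583685316626c5d8102041d86e00c0163344f00800e20c5f0da0063e447800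
def c8 : List ℕ := [0x41041041041000000000000000000000000, 0x1000000040001000000041000000001041001001001001, 0x40001040000001041041000001001000000001001000, 0x40040040040000000000000, 0x1040000041000001040001000041000040001040000041, 0x1000001000000040001001000040001040001040000041, 0x1040001040000000000000000040000040000040000040, 0x40000001040000000000000000000040000000000000, 0x40000001000000000000040000000040000000000000000, 0x1000001000000001000041000000041040000041001040, 0x1040041000000040000041001000001040001040000041, 0x1000040000000040000000040000000000000000000000, 0x1000000040000000000001000000001000000000000000, 0x1000001000001001000040001040000040001040000041, 0x1000040040001001040041000000000000001000000001, 0x1040001040040041040041000040000040001001001001, 0x1000040000000040000000040000000000000000000, 0x1001000040000001000000000041000000000000000000, 0x41000001040000041000040001040001000001040000041, 0x40000040000040040001000041000001001040000041,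 0x41000040000001040000000041040000000001001000, 0x40001001000000040001000040040040001000000001, 0x40001000000001000000000000000000001000000000000, 0x1000041000000000000000001041041000000000000000, 0x1040001000000041000000001041000000000001001000, 0x40040000000041040000001041000000000041001040, 0x41000040000001040000000041040000000000001001000, 0x1040000040000000000000041040000041000000000000, 0x40001000000041001000001041000000001001001001, 0x40001001000000000001000000000041000000000000, 0x41001040040001000001000040000041001040000041, 0x1001001001001001001001000000000000001001001001, 0x40040001000040041001001000000000000001000000001, 0x40001000000001000000001000000000000000000000, 0x1040001040000001000001001040001040001041001041, 0x1040000040041041000001001000000001000001001000, 0x1000001000000041000001041040000000000041001040, 0x40000001001001000001001001000001001001001001, 0x1040001000001041000001041040000041000001001000, 0x40040001000000040000001001000001001001000000001,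 0x1000001040000001001041000041041040000001001000, 0x40000040040001000040000001000041001040000041, 0x40000041000000000001040000000041040000001001000, 0x40001000000001000000001000000000000000000, 0x1000001040000000000041000000001041000001001000, 0x40001040000000000000000041041040000000000000, 0x40000000040040000000041000000001041000041001040, 0x1001000040040001000000040040000040001000000001, 0x1000040040000001000040001001001000001000000001, 0x1000001000000000000040041040041000000000000, 0x40000040000000000000001041001041000000000000, 0x1040040041000000000001000001001041000000000000, 0x1000040000001001001000001001001001001001001, 0x40000041040000000001040000000041000001001000, 0x41000001000000000000000041000001041000000000000, 0x40041001040000001000000001041000001000000000000, 0x1001000000001041000000041040000000041001040, 0x40001000000041001000001041000001001001001, 0x40000040040000040001000000001041000041001040, 0x1000040000001001001000001001001000001001001001,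 0x1000000001041000000001040000000041000041001040, 0x1001001001000000000000, 0x1000001000000000000000041040041040000000000000, 0x40000040040001040000001041000000000041001040, 0x41000041000000000000000001000001000000040000040, 0x40040001001000040000001001000001001000000001, 0x40040001000000000000000001041041041000000000000, 0x1001000040001001040001001041001001001000000001, 0x40000001000001000001001001000001001001001001001, 0x1040001040000001000001001001001001001041001041, 0x40001000000041001000000041000000001001001001001, 0x41000001000000000000041041000001000000000000, 0x1000041000000000000000001041041000000000000, 0x40001000040040000001000000001001001001000000001, 0x1000040040000000000000041041001041000000000000, 0x40000040000000000000000041001041001000000000000, 0x40001001040001001001001001001041001000000001, 0x1000041000000041041040000040040000000001001000, 0x40001000000040040040000040040040001001001001, 0x1040000040041041040041000040000040000001001000, 0x1000040001001040040041000000000000001000000001,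 0x1000001000001041001041000000000000000000000000, 0x40000040040041040041000000000000000000000000, 0x41000001000041040000041040000000040000001001000, 0x40040001001040041001000000000000001000000001, 0x1040001001000040000001040040040040001001001001, 0x40001001000001041041041000040040000001000000001, 0x41000001041041040000040040000000000001001000, 0x1040001040001041040041001040000000000040000040, 0x41040041000001041000040001000000000000000000000, 0x1001000000001041000000041040000000000041001040, 0x40040001000000040000000001040000000000000000000, 0x1041001040000041040001000040000000000000000000, 0x1000041040000041041000000040040000001001000, 0x1000000040040040000040040040000040001001001001, 0x1000040040000000000040000000001040000000000000, 0x40000040000000040001040000001041000000041001040, 0x1000040001001000000040040000040040001000000001, 0x40040041000000040040000041040040001001001001, 0x1001040040001041041040000041000000000040000040, 0x1000040000001040040000041040000001001001001,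 0x1000040040000040040041040040041040001000000001, 0x41000041000000040000040040040040040001041001041, 0x41001001040000000000040000040041040000000000000, 0x40040040040040040040040000000000000001001001001, 0x1001000000001041000000041040000041001040, 0x1040001040040041001041000000001040000040000040, 0x40001040040041041041000040000040000001001000, 0x1000040001041041001041040000000040001000000001, 0x40001000040041001001040000000000000001000000001, 0x1001001040000001000040040040040040001001001001, 0x40001001000040041001040000000000000001000000001, 0x41000041040000040001041000000001000000000000000, 0x1040001041040001000041000000000040000000000000, 0x40040001001041040001041000000000041000040000040, 0x41001001000001001000000041040040001001001001, 0x40041001000041041041000001040000000040000040, 0x40040001040000000000041000000041041001001001001, 0x40001001000000040001000040040040000001000000001, 0x41000041000000000000000001000001000040000040, 0x40000001040040000001040000000041001001001001,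 0x41000041041001040041000000000041000040000040, 0x1001000041001000000001040040000041001001001001, 0x41000041040041041001000041000000000040000040, 0x40041000040040040000000040040000041001001001001, 0x40000040000001040000040041000000001000041001040, 0x1040001040000041000041001041001041000040000040, 0x40040001000040041000040041040040040001000000001, 0x41001000040041041000041040000000001000040000040, 0x41000041000001041001041001000001000001001001001, 0x1040040040000041000000041041000000001001001001, 0x40001040001000000000000040000040000000040000040, 0x1040041001000040000000041040000040000000000000, 0x40000040000041040041040000000000000000000000000, 0x1000001040000000040041000040041040000000000000, 0x1001000040041001040040000000000000001000000001, 0x1000001001000041000000041040000000041001040, 0x41000041000001040041041000000041000000040000040, 0x40040001000000040000000001040000000000000000, 0x1001040001001000040000040040040040001001001001, 0x1000040000001041040040041041040000000000000000,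 0x40000040000001000040040001000041000001040000041, 0x1000040000001040040000041040000000001001001001, 0x40001000000040040040000040040040000001001001001, 0x1040040040000040040000001041001000001001001001, 0x40001001041001041041000000040040001000000001, 0x40001001000000000001000000000041000000000000000, 0x40001001040040041001000000000000001000000001, 0x1001000040041041041001040040000000001000000001, 0x1000001041001041001000000000000000000000000, 0x1000041000001041041041001000001000000001001000, 0x41000001000041041001041001000001000000001001000, 0x1000040001001000000000041000000000000000000000, 0x1040001000040041000000041040000040000000000000, 0x41000001041041041001000001000001000001001000, 0x1000001001000040001040000040001001040000041, 0x40001000000041041001001041041000000000000000, 0x40000041001001040001000041000040000001040000041, 0x40040000000041040000000041000000001000041001040, 0x1040001001001000000001001000001041001001001001, 0x41000040001001040000001041000001000000000000,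 0x40000001041040040001041040000041000000000000, 0x1040041001001041041001001041000000000000000000, 0x40041001000041041041000001040000000000040000040, 0x40041000041041000040001000000000001000000000000, 0x40040001000041041040041001000000001001000000001, 0x41001001000001040000001041040000001001001001, 0x40040041000000040040000041040040000001001001001, 0x40001040000001041041000001001000000000001001000, 0x41001001000001040000000041040000001001001001001, 0x41000040000001040000001041000001001000000000000, 0x41001001000001001000000041040040000001001001001, 0x1040040001041041040001041000000000000040000040, 0x40040000000041040000001041000000041001040, 0x1000041001000000001040000001041040001001001001, 0x40000001000040000001040000000041040001001001001, 0x1000040040001041040000041041040000000000000, 0x1000040041041000041041000000001040000040000040, 0x40001040000040040040000040040001001001001, 0x41001040000001000001040040000041000001040000041, 0x1000040040040041041041000001001000001000000001,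 0x41000040040040000000040040000041040001001001001, 0x40001001000041041000001041041000000000000, 0x40040001040040041000040041040040001000000001, 0x40000041040000040041000001041041000001001000, 0x1001000040000000000000040041041041000000000000, 0x1040001000000041000000001041000000001001000, 0x40000040001000000000000040000041041000000000000, 0x40001000040041000040040040040040041001000000001, 0x40001040001041001041040000001040000000040000040, 0x1040041041000040000040001000001001040000041, 0x40001040040000000041000000041041000001001001001, 0x41000041040000040000000041000041001041001041, 0x40000041000000040041040001041041000000001001000, 0x40001040040000000040040000001041001001001001001, 0x1040041040000001040040001041041040000000000000, 0x41000040040001000000040001001001001001001001001, 0x41000040000041040000040041000001041000001001000, 0x40001040000000000000000041041040000000000000000, 0x1001040041000000040000040041040000000000000000, 0x1000040001000000000000041041041040000000000000,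 0x1000001041000001000040000000041000041001040, 0x40000041040000001001000001001041000000000000, 0x40000001000040040001041040000041041000000000000, 0x40000040001041000001041000000001001000001001000, 0x1000001040001001000040001040000001040000041, 0x1000041001000000001001040000041040001001001001, 0x1000041041001041041000001000001000001001000, 0x41001001040041001001041000000001041000000000000, 0x40001001001040000001000040040040040001001001001, 0x41040041040001041000000001000000000000000000, 0x40000041000000001001040001001041000000000000000, 0x1000000040041001000041041000001041000000000000, 0x40001001040040001041041000000041000000040000040, 0x40040001040040000000040001000001041001001001001, 0x41000041000041041001040041000000000000040000040, 0x1001001040000001001000001041001000001001001001, 0x40001000040040000000000040000000001000000000000, 0x40000040000040040001000041000001000001040000041, 0x1001000041040000000001040000001041001001001001, 0x40041000001040000041000000001040001001040000041,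 0x41001041000000041001000041041041000000000000, 0x40001040001001000001000040001040001001041001041, 0x41000041041001041001000001000001001001001001, 0x40001000001041000001001040000041041000001001000, 0x40001001000001001001040001001041001001000000001, 0x40001001000000000000041041040041000000000000, 0x40040001000000000000041001041041000000000000, 0x1000040001001040001001041001001001001000000001, 0x40001001001000000001001000001041001001001001001, 0x40040041000000040001000001001001001001001001001, 0x40040041001000000001000001001041000000000000000, 0x40041001001040000000000040000040041000000000000, 0x40040040040041041041041001001001001001001001001, 0x1040001001001041000041041040000000001001000, 0x41000041040001040001040041040041000040000040, 0x40001000000041041001000041041000001000000000000, 0x40001040001001000001000001001001001001041001041, 0x40001040001041040041001040000000001000040000040, 0x1041000041041001000000041041000041000000000000, 0x40040040001041000000000041000000041001001001001,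 0x41000041001001000000041041000041041000000000000, 0x40001000040000000000000041041041001000000000000, 0x41000040040041040000041041000001000001001000, 0x40001001000000000000000041040041041000000000000, 0x40040041000000040001001001001001001001001001, 0x1001040001001001000000041001000001001001001001, 0x41001041000000041001000041041041000000000000000, 0x40040040001040040000000041001000001001001001001, 0x40001000001041000000000041000000001000001001000, 0x41001040040001000000000041000001001000000000000, 0x40041000040040001000000001001001001001001001001, 0x41040001040040040000001041040001041000000000000, 0x40001000001041000000040040000040041000000000000, 0x1001001001041041041041040040040040001001001001, 0x1001040041001001041041000001041000000000000000, 0x40000040001041040041041040000040000000001001000, 0x40001040000041041041040040000040000000001001000, 0x40001040001041040041040040000040000001001001001, 0x1040001000040041000040041040000000000000000, 0x41000041000001040001040041040041040000040000040,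 0x40041001040040041041040000041040000000000000000, 0x40001000040041040041041000000001001001000000001, 0x40040001041041041040001001000000001000000001, 0x40001041001001000041040000000040000000000000000, 0x1040040041041040040041040000000041000000000000, 0x40040041001040040041041000000041040000000000000, 0x41000041040000040000040040040040001041001041, 0x41001040001041040001000040000000000000000000000, 0x41000041000000040000040041000041000001041001041, 0x41001040040041041040040041040000000000000000000, 0x40041040001001040040000041041040001000000000000, 0x40041001001041041001001041000000001000000000000, 0x40001040041040000001040040001041041000000000000, 0x40001040001041000041000041001041001000040000040]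
def c9 : List ℕ := [0x0, 0x41041000000001040040040000041041000, 0x40040041000001001000040040040040001001, 0x40040040001001001000040040001001, 0x41000000000000001040040040001040001040, 0x1040000000001001040000040040040001001, 0x41041000001000041040040001040001040, 0x40040041001001001000040040040001001, 0x41041000000000001001000000041041000, 0x41040000001000001040000000000041041000, 0x1041040000000000040040000000041041000, 0x1041040000040000040000000001040001040, 0x40040000001001041000000000041041000, 0x1001000000040041040000041041000, 0x41000000040040041000040040001001, 0x1041001000000000040000040040040001001, 0x41000001001000001040001040001040, 0x40041040000001041001040001040001040, 0x41041000000040040000000000041041000, 0x1041040000000041001001000000041041000, 0x1041040000001001000000000041041000, 0x1001000000000001001001001000040040001001, 0x40040000001001001001000000041041000, 0x1001041000000041040041000001040001040, 0x1001041000000000000041000000000041041000,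 0x1001000040040000001000001000040040001001, 0x1041040040000041001000000041041000, 0x1041040000040001041001000001040001040, 0x1041040000000000040040000041041000, 0x41040040000001001000041040000041041000, 0x40040000000001001001000040000041041000, 0x1001001000040040040040040001001, 0x1000040040040001000001000000040040001001, 0x1040000040001001000000040000001040001040, 0x41041001001040040040000041041000, 0x40040000001000040040040040040001001, 0x1001000000000040040040001000000041041000, 0x40040000001001041000000041041000, 0x1001000000040040040040000000041041000, 0x1041040000001001000000000000041041000, 0x1001000000040041040000000041041000, 0x40041040000000000001040000000041041000, 0x1041001001000000040000040040001001, 0x1000000040000001000001041000001040001040, 0x41041000000001040040040000000041041000, 0x1041041040000001001001000000000040001000, 0x40040000001001001001000040040001001, 0x1000000000001041000041000000001040001040, 0x1041001000000040040000001040001040,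 0x1001000000040001001001000040040001001, 0x1040000001001001040000040040001001, 0x1041040000001001041040000000041041000, 0x40000040000001041000040000001040001040, 0x1040000041000001040000001040001040, 0x41040001041000041040000001040001040, 0x1000001041000001040001041000001040001040, 0x1041000001000000040000001000001040001040, 0x1000041040000001000001000001040001040, 0x41040040000001001000000000001040001040, 0x41041000000040040000000041041000, 0x1040000000040000041001000001040001040, 0x41040040000000001000001000040040001001, 0x1001001001040000040000000040040001001, 0x1000000041040000000001001000001040001040, 0x1001040041001001000040001000041001040041, 0x1001041000000000000041000000041041000, 0x1041041040000001001001000000040001000, 0x1000001000000041040001000001040001040, 0x41000001040000041000001040001040, 0x41041041000000040040040000000040001000, 0x41041040000000001000000041041000, 0x1001000040040041001001001000040040001001, 0x40000041001001001001041000040040001001,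 0x41041000001000001000000001040001040, 0x1001041000040040040041000040040001001, 0x1001001040000040040001001000040040001001, 0x1041000000001001000000040000001040001040, 0x1000000001041000000040000040001040001040, 0x41041000000000001000000040001040001040, 0x40000040000001041000040001040001040, 0x1040000000000001040001040001040001040, 0x40040000000000040040040040040040001001, 0x40040040040000001000000040040040001001, 0x40000001041000040000040001040001040, 0x40040001001000040040040040001001, 0x1041000040040001041000040001040001040, 0x1040000041000001040001040001040, 0x1000000000040040000001001040000041041000, 0x1001000000040040040040040040001001, 0x41041041000000040040040000040001000, 0x41040001040000040001040001040, 0x1000040040040001001001001040040040001001, 0x1041040000000001041040000040000041041000, 0x40040000000001001001000040040040001001, 0x41000000040000041000040001040001040, 0x40040040001001001040040040040040001001, 0x41040040000001001000000001040001040,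 0x1000001040000041040000001040001040, 0x1041040000001001041040000041041000, 0x1001000000040040040040000041041000, 0x1040000000000000041001001000001040001040, 0x1001000000040041040000000000041041000, 0x1001041000000040040041001000040040001001, 0x41001001001001041000040040040001001, 0x1000041040000001000001000000001040001040, 0x40000000001001001000040040000041041000, 0x40041000001001000040040040040040001001, 0x1040000000000001040000040040040040001001, 0x41040000040040040040040001001, 0x41041001000001040040000041041000, 0x40001001001040040040040040040040001001, 0x1040040000001001000000000040001040001040, 0x41041000001040040040040000041041000, 0x1040040000001001000041040040000041041000, 0x41000000001000001040040001040001040, 0x1040000000041001001001040040000041041000, 0x1041001000000000040000040000040040001001, 0x40041040000001041001040000001040001040, 0x1000001000000041040001000000001040001040, 0x40041040000001001001040040040040001001, 0x1041040000000041001001000000000041041000,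 0x40000000001001001000040040040040001001, 0x41041041041040000000000000, 0x1000000000040001001001000040040040001001, 0x41040040041001001000040000041041000, 0x1040000040040000041000001040001040, 0x41041000000000041040040040001040001040, 0x1000001000041040000001000000001040001040, 0x41000000040040041000000040040001001, 0x1000000000001001040040040000001040001040, 0x1000001040040040040041040000040040001001, 0x1000000040041041001001001000040040001001, 0x1001001000001041000040040040040040001001, 0x40041040000000000001040000041041000, 0x41040001000000041040001040001040001040, 0x40040001001000000040000040040040001001, 0x1040000001001001040040040001001, 0x1041001000000040040000000001040001040, 0x1041040040040000001001001000000040001000, 0x1000001041040001040001040001040001040, 0x1001001040040040040001000040040001001, 0x41041000001000001000001040001040, 0x1001000000000040040040001000040040001001, 0x1001040000040040001001001000040040001001, 0x1041041040000001040000040000040001000,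 0x40000001041000000000040040001040001040, 0x40040041041001001000000040000040001000, 0x1041040000000001000000000040000041041000, 0x1040040040040000040001040001040, 0x1040000000041001001000001040000041041000, 0x41000001001000040040040040040040001001, 0x40001041000000040000040001040001040, 0x41041040000040041040000041041000, 0x1041040000041040000040000040000040001000, 0x41040000040000001000000040001040001040, 0x41000000000040041000001000040040001001, 0x1041000000040000041000000000000041041000, 0x1001000000041040000000001000001040001040, 0x41040040040000001000000040040001001, 0x41040000001001001040040040040040001001, 0x40000041040000041000041040001040001040, 0x1000000040040001000001040001040001040, 0x1001000001040000040040041040040040001001, 0x1000000001041001000000000040000041041000, 0x40041040001001001001040040040001001, 0x1041040000000000040000001000001040001040, 0x1041000001041000001000001040000040001000, 0x1001001041040040040000001000000040001000, 0x1000000041040000040000001000040040001001,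 0x1041001000040040040001040000041041000, 0x1040040040040041040001000040040001001, 0x1000000001041040040041001000000041041000, 0x1001000000041040000040000000040040001001, 0x40001041000000040000040000001040001040, 0x41041001001000000040040040000040001000, 0x1040040000001001000001000000040040001001, 0x40000001041000001000000040040040001001, 0x1001001000040040040000041041000, 0x1041000000001040000000001000000041041000, 0x1001040040040001000040040001001, 0x1041040000000000040040000000000041041000, 0x41041041040000041000000000040001000, 0x41000000000000041000041000001040001040, 0x1001001000040040000001000000040040001001, 0x41041000000000001001000000000041041000, 0x41041000000040041041000000000041041000, 0x1041000000001001001000000000000041041000, 0x1041040000041001001001000000041041000, 0x1001000040040001001000040040001001, 0x1000000001041000000001001000000041041000, 0x40040040001001001000000041041000, 0x1000000041040001041001001000000041041000, 0x1041040000000001001001001040000041041000,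 0x1001001001000000040000001000040040001001, 0x41041041000000041000001000000040001000, 0x1041001001001000040040040000000040001000, 0x41041000000040041041000000041041000, 0x1041000001040000040000000001040001040, 0x1000001041041040000001001000000040001000, 0x1001001001000040040041001000040040001001, 0x1001000000041040001041001000000041041000, 0x40000000001041000000040040000041041000, 0x40040040040001001001040040040040001001, 0x41041000000040040000000000000041041000, 0x40040040001001000000040000040040001001, 0x1040000000041040000001000000001040001040, 0x1041000000001041040040040000001040001040, 0x40000001000000040000041040001040001040, 0x40040001001001040040040040040040001001, 0x1000000001041041000001001040000041041000, 0x1040000041041001000000040040000040001000, 0x1040000041041000040000041000000040001000, 0x40000000001040040040040000040040001001, 0x1040000001001001040000000000000041041000, 0x40041041001001000000040040000040001000, 0x1000001001001040040040040000040040001001,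 0x1040000001001001040040040040040040001001, 0x1040040040000041040001001000040040001001, 0x1000000040041041000000000000000041041000, 0x41040000001041001040000040001040001040, 0x1040000040040001001001001000040040001001, 0x41001001000001041000040040040040001001, 0x1041040040040001041000001040001040, 0x1040000000000001040001040000001040001040, 0x41041001001000000001040001040, 0x40001001001000040000040000040040001001, 0x1041001000000040040001041000000041041000, 0x41001040041040001000040000041001040041, 0x1001000000040040040040000040040001001, 0x1041040000000001041001001000001040001040, 0x1041041040000001040000040000000040001000, 0x1000001041041001000001040000000040001000, 0x1041041000001041000001000000000040001000, 0x1041040000040000040000001040001040, 0x1000000001041040040000041000000041041000, 0x1041000000040040041001001000040040001001, 0x1000000000040040040001001000040040001001, 0x41041001001000041040001040001040, 0x1001000000000041040000001000000041041000, 0x1001041040000041040040001040001040,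 0x1000000040041041000001041000001040001040, 0x1001001001040040040041000040040001001, 0x1041040040041001001000000041041000, 0x1041001000000040040000000000001040001040, 0x1041000000001041041000001000000041041000, 0x1041000040000001041000041000001040001040, 0x1041000000001040040040041000000041041000, 0x1001001001041040040040000000000040001000, 0x1001041040040040000001001000000040001000, 0x1000000000001041000001001000040040001001, 0x1041001041040040040000000041041000, 0x1040040040041001001001000000000040001000, 0x1001041000000041040041000000001040001040, 0x40040000041040001001001040040040001001, 0x1041000000001040040040000040000041041000, 0x40000001041000041040040040000041041000, 0x1000000000040040040001001000000041041000, 0x1040000000041040040000000000000041041000, 0x1001041040000000000040000041041000, 0x1041000000040040041000001040001040001040, 0x1001041040040040040040040040001001, 0x1040041001040000040001000040041001040041, 0x40040000000001041000000040000041041000,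 0x1040000000041000000000040040000041041000, 0x1040000001001001040000041040001040001040, 0x41041000000040040040040040000041041000, 0x1041040000041001001000000040000040001000, 0x1040000000041041001001000040001040001040, 0x1000040000041041000041000040001040001040, 0x1041041000001040040040000000000040001000, 0x1000000001041040040040001040001040001040, 0x1001001000040040041001001000040040001001, 0x1040000000041041040000040040000041041000, 0x1040001000001041040001040000001040001040, 0x1041000001041040040000001000000040001000]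

end Cfsg.Agent.H257.OZ.McLD
end

-- part: H257/OZ/McLFacts
section
/-!
# Elements of order 8 and 9 of the McLaughlin group (helper257, S4842)

* `exists_eight` : a rational element of order 8 with `|C| ≤ 8`;
* `exists_nine`  : an element `y` of order 9 with `|C| ≤ 27`, conjugate to `y ^ 4`.
-/

set_option autoImplicit false

namespace Cfsg.Agent.H257.OZ.McLF

open Cfsg.Agent.SporadicA.PermTab Cfsg.Agent.McLType.X275 Cfsg.Agent.McLType.Gens Cfsg.Agent.H904.CentChk Subgroup Equiv
open Cfsg.Agent.SporadicStructure.PermChain (look)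
open Cfsg.Agent.H904.McLCent Cfsg.Agent.H257.OZ.McLD

universe u

theorem mem_e7 {P : ℕ} (h : P = e_a ∨ P = e_b ∨ P = e_c ∨ P = e_x ∨ P = e_y ∨ P = e_w ∨ P = e_g) : P ∈ e7 := by
  simp only [e7, List.mem_cons, List.not_mem_nil, or_false]
  exact h

theorem in8 : InG K0 t8 := InG.word (L := [e_b, e_c, e_a]) (fun P hP => inAll P (by
  simp only [List.mem_cons, List.not_mem_nil, or_false] at hP
  exact mem_e7 (by tauto))) (by decide +kernel)

theorem in9 : InG K0 t9 := InG.word (L := [e_g, e_x, e_g, e_c, e_w]) (fun P hP => inAll P (by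
  simp only [List.mem_cons, List.not_mem_nil, or_false] at hP
  exact mem_e7 (by tauto))) (by decide +kernel)

theorem in5 : InG K0 t5 := InG.word (L := [e_a, e_b, e_a, e_c, e_b, e_c]) (fun P hP => inAll P (by
  simp only [List.mem_cons, List.not_mem_nil, or_false] at hP
  exact mem_e7 (by tauto))) (by decide +kernel)

theorem in94 : InG K0 t94 := InG.word (L := [e_b, e_c, e_w, e_g, e_a, e_x, e_a, e_g, e_c]) (fun P hP => inAll P (by
  simp only [List.mem_cons, List.not_mem_nil, or_false] at hP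
  exact mem_e7 (by tauto))) (by decide +kernel)

theorem inA : InG K0 e_a := inAll _ (mem_e7 (by tauto))
theorem inB : InG K0 e_b := inAll _ (mem_e7 (by tauto))

/-- the outer automorphism -/
theorem chkA : chkInv 275 ta ta = true := by decide +kernel
theorem rowsA : chkAutBlk 275 adjM ta 0 275 = true := by decide +kernel

noncomputable def σa : Perm (Fin 275) := mkPerm ta ta chkA

theorem σa_val (i : Fin 275) : (σa i : ℕ) = lk ta i := mkPerm_val ta ta chkA i

theorem σa_mem : σa ∈ autG 275 adjM :=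
  mem_autG_of_rowsOK σa_val (rowsOK_of_chk (chkInv_lt chkA) (chkInv_inj chkA) rowsA)

variable {L : Type u} [Group L] {θ : L →* Perm (Fin 275)}

/-- a relation `g y = y ^ k g` from the tables -/
theorem rel_of (R : _root_.Cfsg.Agent.H904.McLCent.Rep L θ) {g y : L} {tg ty : ℕ} (hg : ∀ i : Fin 275, ((θ g i : Fin 275) : ℕ) = lk tg i)
    (hy : ∀ i : Fin 275, ((θ y i : Fin 275) : ℕ) = lk ty i) (k : ℕ)
    (h : allB (fun i => Nat.beq (lk tg (lk ty i)) ((lk ty)^[k] (lk tg i))) 275 = true) : g * y = y ^ k * g := by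
  apply R.inj
  rw [map_mul, map_mul, map_pow]
  refine Equiv.ext fun i => Fin.ext ?_
  rw [Perm.mul_apply, Perm.mul_apply, hg, hy, pow_val hy, hg]
  exact Nat.eq_of_beq_eq_true ((allB_iff _ _).1 h i i.2)

theorem order_of (R : _root_.Cfsg.Agent.H904.McLCent.Rep L θ) {y : L} {ty : ℕ} (hy : ∀ i : Fin 275, ((θ y i : Fin 275) : ℕ) = lk ty i) {p n : ℕ}
    (hp : p.Prime) (h1 : allB (fun i => Nat.beq ((lk ty)^[p ^ (n + 1)] i) i) 275 = true) (j : Fin 275)
    (h2 : (lk ty)^[p ^ n] j ≠ j) : orderOf y = p ^ (n + 1) := by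
  have := Fact.mk hp
  apply orderOf_eq_prime_pow
  · intro h
    apply h2
    rw [← pow_val hy, ← map_pow, h, map_one, Perm.one_apply]
  · apply R.inj
    rw [map_pow, map_one]
    refine Equiv.ext fun i => Fin.ext ?_
    rw [pow_val hy, Perm.one_apply]
    exact Nat.eq_of_beq_eq_true ((allB_iff _ _).1 h1 i i.2)

/-- the system for the full automorphism group of the graph -/
theorem sysA {x : autG 275 adjM} {t : ℕ} (h : ∀ i : Fin 275, (((x : Perm (Fin 275)) i : Fin 275) : ℕ) = lk t i) :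
    Sys (autG 275 adjM).subtype (bitM 275 adjM) x (lk t) where
  inj := (autG 275 adjM).subtype_injective
  rel g i j := g.2 i j
  tab := h

theorem e8a : ((List.range 275).filter fun b' => Nat.beq (code (bitM 275 adjM) (lk t8) [] 8 b')
    (code (bitM 275 adjM) (lk t8) [] 8 4)).length ≤ 16 := by decide +kernel

theorem e8e : (List.range 275).map (code (bitM 275 adjM) (lk t8) (cyc (lk t8) 8 4 ++ cyc (lk t8) 8 23 ++ cyc (lk t8) 8 2) 8)
    = c8 := by decide +kernel

theorem e8f : c8.Nodup := nodup_fast 7529 (by decide +kernel)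

/-- the centralizer in the full automorphism group -/
theorem cent_aut {x : autG 275 adjM} (h : ∀ i : Fin 275, (((x : Perm (Fin 275)) i : Fin 275) : ℕ) = lk t8 i) :
    Nat.card (centralizer ({x} : Set (autG 275 adjM))) ≤ 16 := by
  have S := sysA h
  refine (S.card_cent_le (code (bitM 275 adjM) (lk t8) [] 8)
    (fun g hg i => S.code_eq hg (F := []) (fun i hi => absurd hi (by simp)) (by simp) 8 i) 4 (m := 16) e8a ?_).2
  intro g hg h0
  have f0 : _root_.Cfsg.Agent.H904.CentChk.Fix (autG 275 adjM).subtype g (cyc (lk t8) 8 4) := S.fix_cyc hg 8 4 (by norm_num) h0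
  have u1 := S.fix_of_unique hg f0 (by decide +kernel) 8 23 (by norm_num) (by decide +kernel)
  have f1 := f0.append (S.fix_cyc hg 8 23 (by norm_num) u1)
  have u2 := S.fix_of_unique hg f1 (by decide +kernel) 8 2 (by norm_num) (by decide +kernel)
  have f2 := f1.append (S.fix_cyc hg 8 2 (by norm_num) u2)
  exact S.eq_one hg f2 (by decide +kernel) 8 (lit := c8) e8e e8f

/-- the number of fixed points -/
def nfix (t : ℕ) : ℕ := ((List.range 275).filter fun i => Nat.beq (lk t i) i).length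

theorem card_fix {σ : Perm (Fin 275)} {t : ℕ} (h : ∀ i : Fin 275, (σ i : ℕ) = lk t i) :
    (Finset.univ.filter fun i : Fin 275 => σ i = i).card = nfix t := by
  have e : (Finset.univ.filter fun i : Fin 275 => σ i = i).map Fin.valEmbedding =
      ((List.range 275).filter fun i => Nat.beq (lk t i) i).toFinset := by
    ext k
    simp only [Finset.mem_map, Finset.mem_filter, Finset.mem_univ, true_and, Fin.valEmbedding_apply,
      List.mem_toFinset, List.mem_filter, List.mem_range, Nat.beq_eq]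
    constructor
    · rintro ⟨i, hi, rfl⟩
      refine ⟨i.2, ?_⟩
      rw [← h, hi]
    · rintro ⟨hk, hk'⟩
      refine ⟨⟨k, hk⟩, Fin.ext ?_, rfl⟩
      rw [h]
      exact hk'
  have h2 := congrArg Finset.card e
  rw [Finset.card_map, List.toFinset_card_of_nodup (List.Nodup.filter _ List.nodup_range)] at h2
  exact h2

theorem fix_conj {σ τ : Perm (Fin 275)} (h : IsConj σ τ) :
    (Finset.univ.filter fun i : Fin 275 => σ i = i).card = (Finset.univ.filter fun i : Fin 275 => τ i = i).card := by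
  obtain ⟨c, rfl⟩ := isConj_iff.1 h
  refine Finset.card_bij (fun i _ => c i) ?_ (fun i _ j _ hij => c.injective hij) ?_
  · intro i hi
    rw [Finset.mem_filter] at hi ⊢
    refine ⟨Finset.mem_univ _, ?_⟩
    rw [Perm.mul_apply, Perm.mul_apply, show c⁻¹ (c i) = i from Equiv.symm_apply_apply c i, hi.2]
  · intro j hj
    rw [Finset.mem_filter, Perm.mul_apply, Perm.mul_apply] at hj
    have e : c (c⁻¹ j) = j := Equiv.apply_symm_apply c j
    refine ⟨c⁻¹ j, ?_, e⟩
    rw [Finset.mem_filter]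
    refine ⟨Finset.mem_univ _, ?_⟩
    apply c.injective
    rw [hj.2, e]

/-- all involutions are conjugate -/
theorem invol {L : Type u} [Group L] (h : Cfsg.Spor.IsoMcL L) {x y : L} (hx : orderOf x = 2) (hy : orderOf y = 2) :
    IsConj x y := by
  obtain ⟨e⟩ := h
  have h1 := S2132.result.1 (e x) (e y) (by rw [MulEquiv.orderOf_eq, hx]) (by rw [MulEquiv.orderOf_eq, hy])
  obtain ⟨c, hc⟩ := isConj_iff.1 h1
  refine isConj_iff.2 ⟨e.symm c, ?_⟩
  apply e.injective
  rw [map_mul, map_mul, map_inv, e.apply_symm_apply, hc]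

/-- the outer automorphism is not in the image -/
theorem not_mem (h : Cfsg.Spor.IsoMcL L) (R : _root_.Cfsg.Agent.H904.McLCent.Rep L θ) (l : L) : θ l ≠ σa := by
  intro hl
  have hv : ∀ i : Fin 275, ((θ l i : Fin 275) : ℕ) = lk ta i := fun i => by rw [hl, σa_val]
  obtain ⟨m, hm⟩ := R.exists_of inA
  have o1 : orderOf l = 2 := R.orderOf_eq hv Nat.prime_two (by decide +kernel) 1 (by decide +kernel)
  have o2 : orderOf m = 2 := R.orderOf_eq hm Nat.prime_two (by decide +kernel) 1 (by decide +kernel)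
  have h1 := fix_conj (θ.map_isConj (invol h o1 o2))
  rw [card_fix hv, card_fix hm] at h1
  exact absurd h1 (by decide +kernel)

/-- **An element of order 8.** -/
theorem exists_eight (h : Cfsg.Spor.IsoMcL L) : ∃ y : L, orderOf y = 8 ∧ Nat.card (centralizer ({y} : Set L)) ≤ 8 ∧
    IsConj y (y ^ 3) ∧ IsConj y (y ^ 5) := by
  obtain ⟨θ, R⟩ := exists_rep h
  obtain ⟨y, hy⟩ := R.exists_of in8
  obtain ⟨g3, hg3⟩ := R.exists_of inB
  obtain ⟨g5, hg5⟩ := R.exists_of in5
  refine ⟨y, ?_, ?_, isConj_of_rel (rel_of R hg3 hy 3 (by decide +kernel)),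
    isConj_of_rel (rel_of R hg5 hy 5 (by decide +kernel))⟩
  · exact order_of R hy Nat.prime_two (n := 2) (by decide +kernel) 1 (by decide +kernel)
  · have hθ : ∀ g : L, θ g ∈ autG 275 adjM := fun g => K0_le (by rw [← R.range]; exact ⟨g, rfl⟩)
    let φ : L →* autG 275 adjM := θ.codRestrict _ hθ
    have hφ : Function.Injective φ := fun a b hab => R.inj (congrArg Subtype.val hab)
    have hy' : ∀ i : Fin 275, (((φ y : autG 275 adjM) : Perm (Fin 275)) i : ℕ) = lk t8 i := hy
    have h1 := cent_aut hy'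
    have hle : (centralizer ({y} : Set L)).map φ ≤ centralizer ({φ y} : Set (autG 275 adjM)) := by
      rintro _ ⟨g, hg, rfl⟩
      have h2 := mem_centralizer_singleton_iff.1 hg
      rw [mem_centralizer_singleton_iff, ← map_mul, h2, map_mul]
    have h3 := card_le_half hle (a := ⟨σa, σa_mem⟩) ?_ ?_ (m := 8) h1 inferInstance
    · rwa [card_map_of_injective hφ] at h3
    · rw [mem_centralizer_singleton_iff]
      refine Subtype.ext (Equiv.ext fun i => Fin.ext ?_)
      change ((σa (θ y i) : Fin 275) : ℕ) = ((θ y (σa i) : Fin 275) : ℕ)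
      rw [σa_val, hy, hy, σa_val]
      exact Nat.eq_of_beq_eq_true ((allB_iff (fun i => Nat.beq (lk ta (lk t8 i)) (lk t8 (lk ta i))) 275).1
        (by decide +kernel) i i.2)
    · rintro ⟨g, -, hg⟩
      exact not_mem h R g (congrArg Subtype.val hg)

/-- the invariant for the element of order `9` -/
def iv9 (v : ℕ) : ℕ := code (bitM 275 adjM) (lk t9) [] 9 v * 4 + (bitM 275 adjM v 0 + bitM 275 adjM v 122)

theorem fix9 : (Finset.univ.filter fun f : Fin 275 => lk t9 f = f) = {0, 122} := by decide +kernel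

theorem e9e : (List.range 275).map (code (bitM 275 adjM) (lk t9) (cyc (lk t9) 9 1 ++ cyc (lk t9) 9 2) 9) = c9 := by
  decide +kernel

theorem e9d : ∀ f ∈ cyc (lk t9) 9 1 ++ cyc (lk t9) 9 2, f < 275 := by decide +kernel

theorem e9f : c9.Nodup := nodup_fast 7019 (by decide +kernel)

/-- **An element of order 9.** -/
theorem exists_nine (h : Cfsg.Spor.IsoMcL L) : ∃ y : L, orderOf y = 9 ∧ Nat.card (centralizer ({y} : Set L)) ≤ 27 ∧
    IsConj y (y ^ 4) := by
  obtain ⟨θ, R⟩ := exists_rep h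
  obtain ⟨y, hy⟩ := R.exists_of in9
  obtain ⟨g, hg⟩ := R.exists_of in94
  refine ⟨y, ?_, ?_, isConj_of_rel (rel_of R hg hy 4 (by decide +kernel))⟩
  · exact order_of R hy Nat.prime_three (n := 1) (by decide +kernel) 1 (by decide +kernel)
  · have S := R.sys hy
    refine (S.card_cent_le iv9 (fun g hg i => ?_) 1 (m := 27) (by decide +kernel) ?_).2
    · have h1 := S.code_eq hg (F := []) (fun i hi => absurd hi (by simp)) (by simp) 9 i
      have h2 := S.fsum_eq hg i
      have h3 : (Finset.univ.filter fun f : Fin 275 => θ y f = f) = {0, 122} := by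
        rw [← fix9]
        apply Finset.filter_congr
        intro f _
        rw [← hy f, Fin.ext_iff]
      rw [h3, Finset.sum_pair (by decide), Finset.sum_pair (by decide)] at h2
      rw [iv9, iv9, h1]
      exact congrArg _ h2
    · intro g hg h0
      have f0 : _root_.Cfsg.Agent.H904.CentChk.Fix θ g (cyc (lk t9) 9 1) := S.fix_cyc hg 9 1 (by norm_num) h0
      have u1 := S.fix_of_unique hg f0 (by decide +kernel) 9 2 (by norm_num) (by decide +kernel)
      have f1 := f0.append (S.fix_cyc hg 9 2 (by norm_num) u1)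
      exact S.eq_one hg f1 e9d 9 (lit := c9) e9e e9f

end Cfsg.Agent.H257.OZ.McLF
end

-- part: H257/OZ/McLRow
section
/-!
# One vanishing class: `McL` (helper257, S4842)

The order of the group, the isolated prime 11 and the prime 7 leave the degrees 120, 540, 1728, 2430, 7776, 14400, all
divisible by 6. An element of order 8 (rational, centralizer of order at most 8) must be a zero; an element of order 9
(centralizer of order at most 27, at most two Galois conjugate classes) then makes the excess too large.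
-/

set_option autoImplicit false
set_option maxRecDepth 100000

open Cfsg Cfsg.Agent.Characters Cfsg.Agent.H732.VZ Cfsg.Agent.H604.OZ Cfsg.Agent.H672.OZ Subgroup

namespace Cfsg.Agent.H257.OZ

universe u

theorem cent_zpowers {G : Type*} [Group G] (y : G) :
    centralizer ((zpowers y : Subgroup G) : Set G) = centralizer ({y} : Set G) := by
  rw [zpowers_eq_closure, centralizer_closure]

/-- **`McL`.** -/
theorem row_mcl {S : Type u} [Group S] [Finite S] (hs : IsSimpleGroup S) (h : Spor.IsoMcL S) : H730.OZ.Row S := by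
  classical
  have hN : Nat.card S = 898128000 := H904.McLCent.card_L h
  refine row_of fun χ x hx => ?_
  have h4 : 4 ≤ cent x := four_le_cent hx (by rw [hN]; norm_num) (by rw [hN]; norm_num)
  -- the prime 11
  have h11 := iso_mod hx (p := 11) (by norm_num) (by norm_num) (by rw [hN]; norm_num) (by rw [hN]; norm_num)
    (by rw [hN]; norm_num) (fun y hy => by
      rw [← cent_zpowers]
      exact (H904.McLCent.eleven h _ (by rw [Nat.card_zpowers, hy])).1) h4
  -- the prime 7
  obtain ⟨w, hw⟩ := H153.Zeros.mcl_orders h 14 (by decide)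
  have hz : orderOf (w ^ 2) = 7 := by rw [orderOf_pow, hw]; norm_num
  have hC1 : Nat.card (centralizer ({w ^ 2} : Set S)) ∣ 14 := by
    rw [← cent_zpowers]
    exact (H904.McLCent.seven h _ (by rw [Nat.card_zpowers, hz])).1
  have hC2 : 14 ∣ Nat.card (centralizer ({w ^ 2} : Set S)) := by
    rw [← hw, ← Nat.card_zpowers]
    refine card_dvd_of_le ?_
    rw [zpowers_le, mem_centralizer_singleton_iff]
    exact ((Commute.refl w).pow_right 2)
  have hC : Nat.card (centralizer ({w ^ 2} : Set S)) = 14 := Nat.dvd_antisymm hC1 hC2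
  have hreg : ¬ 7 ∣ orderOf x := by
    rcases Nat.lt_or_ge 7 (cent x) with h7 | h7
    · exact H733.OZ.not_dvd_orderOf hx (r := 7) (n := 1) (by norm_num) (by rw [hN]; norm_num) (by rw [hN]; norm_num)
        (by rw [pow_one]; exact h7)
    · exact H849.OZ.not_dvd_of_le (p := 7) (by norm_num) (by rw [hN]; norm_num) hz (by rw [hC]; norm_num) h7
  have h7 := H849.OZ.mod_of_two (p := 7) (by norm_num) (by norm_num) (by rw [hN]; norm_num) (by rw [hN]; norm_num) hz
    (by rw [hC]) hx hreg h4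
  have hiso : ∀ r ∈ [7, 11], charDegree (χ : S → ℂ) % r = 0 ∨
      charDegree (χ : S → ℂ) % r = 1 ∨ charDegree (χ : S → ℂ) % r = r - 1 := by
    intro r hr
    simp only [List.mem_cons, List.not_mem_nil, or_false] at hr
    rcases hr with rfl | rfl
    · exact Or.inr h7
    · exact h11
  have hm := mem_of_sieve hx hN (l := [(2,7),(3,6),(5,3),(7,1),(11,1)]) (by decide +kernel)
    (by
      intro x hx
      simp only [List.mem_cons, List.not_mem_nil, or_false] at hx
      rcases hx with rfl | rfl | rfl | rfl | rfl <;> norm_num)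
    (by decide +kernel) h4 hiso (D := [1728, 7776, 120, 540, 2430, 14400, 56, 21, 672, 252, 3024, 1134, 560, 210, 6720,
      2520, 945, 175, 5600, 2100, 9450]) (by decide +kernel)
  have h6 : 6 ∣ charDegree (χ : S → ℂ) := by
    have key : ∀ d ∈ [1728, 7776, 120, 540, 2430, 14400, 56, 21, 672, 252, 3024, 1134, 560, 210, 6720,
      2520, 945, 175, 5600, 2100, 9450], (d % 7 = 1 ∨ d % 7 = 7 - 1) → 6 ∣ d := by decide
    exact key _ hm h7
  have h2 : 2 ∣ charDegree (χ : S → ℂ) := (by norm_num : 2 ∣ 6).trans h6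
  have h3 : 3 ∣ charDegree (χ : S → ℂ) := (by norm_num : 3 ∣ 6).trans h6
  -- the element of order 8 is a zero
  obtain ⟨y, hy, hyC, hy3, hy5⟩ := McLF.exists_eight h
  have hr8 := rat_eight hy hy3 hy5 (by rw [hN]; norm_num)
  have hxy : IsConj x y := by
    by_contra hne
    have := H849.OZ.one_prime hx Nat.prime_two h2 ⟨3, by rw [hy]; norm_num⟩ hr8 hne
    have h5 : cent y ≤ 8 := hyC
    omega
  have hc8 : 8 ≤ cent x := by
    rw [cent_eq_of_conj hxy, ← hy, ← Nat.card_zpowers]
    refine card_le_of_le ?_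
    rw [zpowers_le, mem_centralizer_singleton_iff]
  -- the element of order 9
  obtain ⟨z, hz9, hzC, hz4⟩ := McLF.exists_nine h
  have hne : ¬ IsConj x z := fun h1 => by
    have h2 := orderOf_eq_of_conj (hxy.symm.trans h1)
    rw [hy, hz9] at h2
    omega
  have horb := orb_nine hz9 hz4 (by rw [hN]; norm_num) (k := 17) (by norm_num)
  have h5 : cent z ≤ 27 := hzC
  by_cases hzk : IsConj z (z ^ 17)
  · have := H849.OZ.one_prime hx Nat.prime_three h3 ⟨2, by rw [hz9]; norm_num⟩
      (fun m hm => (horb m hm).elim id fun h1 => h1.trans hzk.symm) hne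
    omega
  · have hT := H849.OZ.galOrb_two (k := 17) (by rw [hN]; norm_num) hzk horb
    have h6 := H849.OZ.one_orb hx hT Nat.prime_three h3 ⟨2, by rw [hz9]; norm_num⟩ hne (b := 3) (by norm_num) (by
      rw [Finset.card_pair (by norm_num)]; norm_num)
    rw [Finset.card_pair (by norm_num)] at h6
    have h7 : (cent z : ℝ) ≤ 27 := by exact_mod_cast h5
    have h8 : (8 : ℝ) ≤ cent x := by exact_mod_cast hc8
    norm_num only [] at h6
    linarith only [h7, h8, h6]

end Cfsg.Agent.H257.OZ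
end

-- part: H733/OZ/MSieve
section
/-!
# The arithmetic of the row of the Monster of S4842 (helper733)

A divisor `d` of the order of the Monster which is divisible by the full power of at most one
of the primes 41, 59, 71 and of no other prime and which is `1` or `-1` modulo 31, 47, 59, 71
(and 17, 19, 23, 29, 41, if smaller than the exceptional prime) is `1` (`none_1`, `none_41`,
`none_59`, `none_71`).
-/

set_option autoImplicit false

namespace Cfsg.Agent.H733.OZ.Mon

/-- the order of the Monster -/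
def NM : ℕ := 808017424794512875886459904961710757005754368000000000

/-- discrete logarithms modulo 47 to the base 2, up to sign -/
def T47 : ℕ := 0x58454e0cb5083460902924d11c930f1410453cc24745348a40218d2142c3395116000

def lg (m : ℕ) : ℕ := T47 / 64 ^ m % 64

theorem lg_spec : ∀ m < 47, ∀ a < 46, (2 ^ a * m % 47 = 1 ∨ 2 ^ a * m % 47 = 46) →
    a = lg m ∨ a = lg m + 23 := by
  decide +kernel

/-- `d` is `1` or `-1` modulo the members of the list -/
def okm (L : List ℕ) (d : ℕ) : Bool := L.all fun r => Nat.beq (d % r) 1 || Nat.beq (d % r) (r - 1)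

def chk (o : ℕ) (L : List ℕ) : Bool :=
  (List.range 20).all fun b => (List.range 9).all fun c => (List.range 6).all fun e =>
    (List.range 2).all fun f => (List.range 3).all fun g =>
      (fun m => (fun a => (!(okm L (2 ^ a * m)) || Nat.beq (2 ^ a * m) 1) && !(okm L (2 ^ (a + 23) * m)))
        (lg (m % 47))) (o * (3 ^ b * 5 ^ c * 7 ^ e * 11 ^ f * 13 ^ g))

theorem chk_1 : chk 1 [59, 71, 31] = true := by decide +kernel
theorem chk_41 : chk 41 [59, 71, 31, 17] = true := by decide +kernel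
theorem chk_59 : chk 59 [71, 31, 29] = true := by decide +kernel
theorem chk_71 : chk 71 [59, 31, 29, 23, 19, 17, 41] = true := by decide +kernel

theorem okm_of {L : List ℕ} {d : ℕ} (h : ∀ r ∈ L, d % r = 1 ∨ d % r = r - 1) : okm L d = true := by
  rw [okm, List.all_eq_true]
  intro r hr
  rw [Bool.or_eq_true]
  rcases h r hr with h1 | h1
  · exact Or.inl (by rw [h1]; rfl)
  · exact Or.inr (by rw [h1]; exact Nat.beq_refl _)

theorem chk_spec {o : ℕ} {L : List ℕ} (h : chk o L = true) {a b c e f g d : ℕ} (ha : a < 46) (hb : b < 20)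
    (hc : c < 9) (he : e < 6) (hf : f < 2) (hg : g < 3)
    (hd : d = 2 ^ a * (o * (3 ^ b * 5 ^ c * 7 ^ e * 11 ^ f * 13 ^ g)))
    (h47 : d % 47 = 1 ∨ d % 47 = 46) (hL : ∀ r ∈ L, d % r = 1 ∨ d % r = r - 1) : d = 1 := by
  simp only [chk, List.all_eq_true, List.mem_range] at h
  have h1 := h b hb c hc e he f hf g hg
  set m := o * (3 ^ b * 5 ^ c * 7 ^ e * 11 ^ f * 13 ^ g) with hm
  rw [Bool.and_eq_true, Bool.or_eq_true] at h1
  have h2 : 2 ^ a * (m % 47) % 47 = 1 ∨ 2 ^ a * (m % 47) % 47 = 46 := by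
    rw [Nat.mul_mod_mod, ← hd]
    exact h47
  have hok := okm_of hL
  rcases lg_spec (m % 47) (Nat.mod_lt _ (by norm_num)) a ha h2 with h3 | h3
  · rw [hd, h3] at hok
    rcases h1.1 with h4 | h4
    · rw [hok] at h4
      exact absurd h4 (by decide)
    · rw [hd, h3]
      exact Nat.eq_of_beq_eq_true h4
  · rw [hd, h3] at hok
    have h4 := h1.2
    rw [hok] at h4
    exact absurd h4 (by decide)

theorem dvd_of {d p n M : ℕ} (hp : p.Prime) (h : d ∣ p ^ (n + 1) * M) (hn : ¬ p ^ (n + 1) ∣ d) :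
    d ∣ p ^ n * M := by
  obtain ⟨a, b, ha, hb, hab⟩ := (Nat.dvd_mul).1 h
  obtain ⟨i, hi, rfl⟩ := (Nat.dvd_prime_pow hp).1 ha
  rw [← hab]
  refine Nat.mul_dvd_mul (pow_dvd_pow p ?_) hb
  by_contra hlt
  have h1 : i = n + 1 := by omega
  exact hn (h1 ▸ hab ▸ dvd_mul_right _ _)

theorem dvd_of_one {d p M : ℕ} (hp : p.Prime) (h : d ∣ p * M) (hn : ¬ p ∣ d) : d ∣ M :=
  (Nat.Coprime.dvd_of_dvd_mul_left ((hp.coprime_iff_not_dvd.2 hn).symm) h)

/-- the divisibility conditions -/
structure Div (d : ℕ) : Prop where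
  dvd : d ∣ NM
  n2 : ¬ 2 ^ 46 ∣ d
  n3 : ¬ 3 ^ 20 ∣ d
  n5 : ¬ 5 ^ 9 ∣ d
  n7 : ¬ 7 ^ 6 ∣ d
  n11 : ¬ 11 ^ 2 ∣ d
  n13 : ¬ 13 ^ 3 ∣ d
  n17 : ¬ 17 ^ 1 ∣ d
  n19 : ¬ 19 ^ 1 ∣ d
  n23 : ¬ 23 ^ 1 ∣ d
  n29 : ¬ 29 ^ 1 ∣ d
  n31 : ¬ 31 ^ 1 ∣ d
  n47 : ¬ 47 ^ 1 ∣ d

theorem Div.small {d : ℕ} (h : Div d) :
    d ∣ 41 * (59 * (71 * (2 ^ 45 * (3 ^ 19 * (5 ^ 8 * (7 ^ 5 * (11 ^ 1 * 13 ^ 2))))))) := by
  have h2 := dvd_of (n := 45) (M := 11482618231106483731969943632999939453125) Nat.prime_two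
    (h.dvd.trans (dvd_of_eq (by norm_num [NM]))) h.n2
  have h3 := dvd_of (n := 19) (M := 115868567119145041151407271217987584000000000) Nat.prime_three
    (h2.trans (dvd_of_eq (by norm_num))) h.n3
  have h5 := dvd_of (n := 8) (M := 68950820249131765408977911890065984597824372736) Nat.prime_five
    (h3.trans (dvd_of_eq (by norm_num))) h.n5
  have h7 := dvd_of (p := 7) (n := 5) (M := 228934492939311816189529845830028519014400000000) (by norm_num)
    (h5.trans (dvd_of_eq (by norm_num))) h.n7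
  have h11 := dvd_of (p := 11) (n := 1) (M := 31799190271330691691714281974093300157644800000000) (by norm_num)
    (h7.trans (dvd_of_eq (by norm_num))) h.n11
  have h13 := dvd_of (p := 13) (n := 2) (M := 159213060074937464091423350803380201062400000000) (by norm_num)
    (h11.trans (dvd_of_eq (by norm_num))) h.n13
  have h17 := dvd_of (p := 17) (n := 0) (M := 1582765126627319495967679193280661998796800000000) (by norm_num)
    (h13.trans (dvd_of_eq (by norm_num))) h.n17
  have h19 := dvd_of (p := 19) (n := 0) (M := 83303427717227341893035747014771684147200000000) (by norm_num)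
    (h17.trans (dvd_of_eq (by norm_num))) h.n19
  have h23 := dvd_of (p := 23) (n := 0) (M := 3621888161618580082305902044120508006400000000) (by norm_num)
    (h19.trans (dvd_of_eq (by norm_num))) h.n23
  have h29 := dvd_of (p := 29) (n := 0) (M := 124892695228226899389858691176569241600000000) (by norm_num)
    (h23.trans (dvd_of_eq (by norm_num))) h.n29
  have h31 := dvd_of (p := 31) (n := 0) (M := 4028796620265383851285764231502233600000000) (by norm_num)
    (h29.trans (dvd_of_eq (by norm_num))) h.n31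
  have h47 := dvd_of (p := 47) (n := 0) (M := 85719077026923060665654558117068800000000) (by norm_num)
    (h31.trans (dvd_of_eq (by norm_num))) h.n47
  exact h47.trans (dvd_of_eq (by norm_num))

theorem exists_exp {m : ℕ} (h : m ∣ 2 ^ 45 * (3 ^ 19 * (5 ^ 8 * (7 ^ 5 * (11 ^ 1 * 13 ^ 2))))) :
    ∃ a b c e f g : ℕ, a < 46 ∧ b < 20 ∧ c < 9 ∧ e < 6 ∧ f < 2 ∧ g < 3 ∧
      m = 2 ^ a * (3 ^ b * 5 ^ c * 7 ^ e * 11 ^ f * 13 ^ g) := by
  obtain ⟨x1, y1, hx1, hy1, rfl⟩ := (Nat.dvd_mul).1 h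
  obtain ⟨x2, y2, hx2, hy2, rfl⟩ := (Nat.dvd_mul).1 hy1
  obtain ⟨x3, y3, hx3, hy3, rfl⟩ := (Nat.dvd_mul).1 hy2
  obtain ⟨x4, y4, hx4, hy4, rfl⟩ := (Nat.dvd_mul).1 hy3
  obtain ⟨x5, y5, hx5, hy5, rfl⟩ := (Nat.dvd_mul).1 hy4
  obtain ⟨a, ha, rfl⟩ := (Nat.dvd_prime_pow Nat.prime_two).1 hx1
  obtain ⟨b, hb, rfl⟩ := (Nat.dvd_prime_pow Nat.prime_three).1 hx2
  obtain ⟨c, hc, rfl⟩ := (Nat.dvd_prime_pow Nat.prime_five).1 hx3
  obtain ⟨e, he, rfl⟩ := (Nat.dvd_prime_pow (by norm_num : Nat.Prime 7)).1 hx4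
  obtain ⟨f, hf, rfl⟩ := (Nat.dvd_prime_pow (by norm_num : Nat.Prime 11)).1 hx5
  obtain ⟨g, hg, rfl⟩ := (Nat.dvd_prime_pow (by norm_num : Nat.Prime 13)).1 hy5
  exact ⟨a, b, c, e, f, g, by omega, by omega, by omega, by omega, by omega, by omega, by ring⟩

variable {d : ℕ}

theorem one_of {o m : ℕ} {L : List ℕ} (hc : chk o L = true)
    (hm : m ∣ 2 ^ 45 * (3 ^ 19 * (5 ^ 8 * (7 ^ 5 * (11 ^ 1 * 13 ^ 2))))) (hd : d = o * m)
    (h47 : d % 47 = 1 ∨ d % 47 = 46) (hL : ∀ r ∈ L, d % r = 1 ∨ d % r = r - 1) : d = 1 := by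
  obtain ⟨a, b, c, e, f, g, ha, hb, hcc, he, hf, hg, rfl⟩ := exists_exp hm
  exact chk_spec hc ha hb hcc he hf hg (hd.trans (by ring)) h47 hL

theorem not_dvd_of {r : ℕ} (hr : 1 < r) (h : d % r = 1 ∨ d % r = r - 1) : ¬ r ∣ d := by
  intro h1
  have h2 := Nat.mod_eq_zero_of_dvd h1
  omega

/-- no exceptional prime -/
theorem none_1 (D : Div d) (h41 : ¬ 41 ∣ d) (h59 : d % 59 = 1 ∨ d % 59 = 58) (h71 : d % 71 = 1 ∨ d % 71 = 70)
    (h47 : d % 47 = 1 ∨ d % 47 = 46) (h31 : d % 31 = 1 ∨ d % 31 = 30) : d = 1 := by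
  have h1 := dvd_of_one (p := 41) (by norm_num) D.small h41
  have h2 := dvd_of_one (p := 59) (by norm_num) h1 (not_dvd_of (by norm_num) h59)
  have h3 := dvd_of_one (p := 71) (by norm_num) h2 (not_dvd_of (by norm_num) h71)
  refine one_of chk_1 h3 (one_mul d).symm h47 ?_
  simp only [List.mem_cons, List.not_mem_nil, or_false, forall_eq_or_imp, forall_eq]
  exact ⟨h59, h71, h31⟩

/-- the exceptional prime 41 -/
theorem none_41 (D : Div d) (h41 : 41 ∣ d) (h59 : d % 59 = 1 ∨ d % 59 = 58) (h71 : d % 71 = 1 ∨ d % 71 = 70)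
    (h47 : d % 47 = 1 ∨ d % 47 = 46) (h31 : d % 31 = 1 ∨ d % 31 = 30) (h17 : d % 17 = 1 ∨ d % 17 = 16) : d = 1 := by
  have h1 : d ∣ 59 * (71 * (41 * (2 ^ 45 * (3 ^ 19 * (5 ^ 8 * (7 ^ 5 * (11 ^ 1 * 13 ^ 2))))))) :=
    D.small.trans (dvd_of_eq (by ring))
  have h2 := dvd_of_one (p := 59) (by norm_num) h1 (not_dvd_of (by norm_num) h59)
  have h3 := dvd_of_one (p := 71) (by norm_num) h2 (not_dvd_of (by norm_num) h71)
  obtain ⟨m, hm⟩ := h41
  refine one_of chk_41 (m := m) ?_ hm h47 ?_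
  · rw [hm] at h3
    exact Nat.dvd_of_mul_dvd_mul_left (by norm_num) h3
  · simp only [List.mem_cons, List.not_mem_nil, or_false, forall_eq_or_imp, forall_eq]
    exact ⟨h59, h71, h31, h17⟩

/-- the exceptional prime 59 -/
theorem none_59 (D : Div d) (h59 : 59 ∣ d) (h41 : d % 41 = 1 ∨ d % 41 = 40) (h71 : d % 71 = 1 ∨ d % 71 = 70)
    (h47 : d % 47 = 1 ∨ d % 47 = 46) (h31 : d % 31 = 1 ∨ d % 31 = 30) (h29 : d % 29 = 1 ∨ d % 29 = 28) : d = 1 := by
  have h1 : d ∣ 41 * (71 * (59 * (2 ^ 45 * (3 ^ 19 * (5 ^ 8 * (7 ^ 5 * (11 ^ 1 * 13 ^ 2))))))) :=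
    D.small.trans (dvd_of_eq (by ring))
  have h2 := dvd_of_one (p := 41) (by norm_num) h1 (not_dvd_of (by norm_num) h41)
  have h3 := dvd_of_one (p := 71) (by norm_num) h2 (not_dvd_of (by norm_num) h71)
  obtain ⟨m, hm⟩ := h59
  refine one_of chk_59 (m := m) ?_ hm h47 ?_
  · rw [hm] at h3
    exact Nat.dvd_of_mul_dvd_mul_left (by norm_num) h3
  · simp only [List.mem_cons, List.not_mem_nil, or_false, forall_eq_or_imp, forall_eq]
    exact ⟨h71, h31, h29⟩

/-- the exceptional prime 71 -/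
theorem none_71 (D : Div d) (h71 : 71 ∣ d) (h59 : d % 59 = 1 ∨ d % 59 = 58) (h31 : d % 31 = 1 ∨ d % 31 = 30)
    (h29 : d % 29 = 1 ∨ d % 29 = 28) (h23 : d % 23 = 1 ∨ d % 23 = 22) (h19 : d % 19 = 1 ∨ d % 19 = 18)
    (h17 : d % 17 = 1 ∨ d % 17 = 16) (h41 : d % 41 = 1 ∨ d % 41 = 40)
    (h47 : d % 47 = 1 ∨ d % 47 = 46) : d = 1 := by
  have h1 : d ∣ 41 * (59 * (71 * (2 ^ 45 * (3 ^ 19 * (5 ^ 8 * (7 ^ 5 * (11 ^ 1 * 13 ^ 2))))))) := D.small
  have h2 := dvd_of_one (p := 41) (by norm_num) h1 (not_dvd_of (by norm_num) h41)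
  have h3 := dvd_of_one (p := 59) (by norm_num) h2 (not_dvd_of (by norm_num) h59)
  obtain ⟨m, hm⟩ := h71
  refine one_of chk_71 (m := m) ?_ hm h47 ?_
  · rw [hm] at h3
    exact Nat.dvd_of_mul_dvd_mul_left (by norm_num) h3
  · simp only [List.mem_cons, List.not_mem_nil, or_false, forall_eq_or_imp, forall_eq]
    exact ⟨h59, h31, h29, h23, h19, h17, h41⟩

end Cfsg.Agent.H733.OZ.Mon
end

-- part: H733/OZ/MAbs
section
/-!
# The row of the Monster of S4842, abstract form (helper733)

`Facts G` : the order of `G` and of some centralizers.  `no_one` : a simple group with `Facts` has no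
irreducible character vanishing on exactly one conjugacy class.
-/

set_option autoImplicit false

open Cfsg Cfsg.Agent.Characters Cfsg.Agent.H686.CharKit Cfsg.Agent.H732.VZ
open Cfsg.Agent.H604.OZ (cent ne_one one_lt_deg)
open Subgroup (centralizer mem_centralizer_singleton_iff)

namespace Cfsg.Agent.H733.OZ

universe u

section gen

variable {G : Type u} [Group G] [Finite G] {χ : IrrCharacter G} {x : G}

/-- **T4** for a prime dividing the group order once: the residue of the degree. -/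
theorem mod_of_lt (h : _root_.Cfsg.Agent.H732.VZ.One χ x) {r : ℕ} (hr : r.Prime) (h1 : r ∣ Nat.card G)
    (h2 : ¬ r ^ 2 ∣ Nat.card G) (hc : r < cent x) :
    charDegree (χ : G → ℂ) % r = 1 ∨ charDegree (χ : G → ℂ) % r = r - 1 := by
  have h3 := pow_dvd h (n := 1) hr (by rwa [pow_one]) h2 (by rwa [pow_one])
  rw [pow_one] at h3
  have hd := one_lt_deg h
  set d := charDegree (χ : G → ℂ) with hdd
  have hr2 := hr.two_le
  obtain ⟨e, he⟩ : ∃ e, d = e + 1 := ⟨d - 1, by omega⟩
  have h4 : d ^ 2 - 1 = e * (d + 1) := by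
    rw [he]
    have : (e + 1) ^ 2 = e * (e + 1 + 1) + 1 := by ring
    rw [this, Nat.add_sub_cancel]
  rw [h4] at h3
  rcases (hr.dvd_mul).1 h3 with h5 | h5
  · left
    obtain ⟨k, rfl⟩ := h5
    rw [he, Nat.mul_add_mod, Nat.mod_eq_of_lt (by omega)]
  · right
    obtain ⟨k, hk⟩ := h5
    obtain ⟨j, rfl⟩ : ∃ j, k = j + 1 := ⟨k - 1, by
      rcases Nat.eq_zero_or_pos k with h0 | h0
      · rw [h0] at hk; omega
      · omega⟩
    have h6 : d = r * j + (r - 1) := by
      rw [mul_add, mul_one] at hk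
      omega
    rw [h6, Nat.mul_add_mod, Nat.mod_eq_of_lt (by omega)]

theorem orderOf_le_cent (x : G) : orderOf x ≤ cent x := by
  rw [← Nat.card_zpowers]
  refine Nat.card_le_card_of_injective _ (Subgroup.inclusion_injective (H := Subgroup.zpowers x)
    (K := centralizer ({x} : Set G)) ?_)
  rw [Subgroup.zpowers_le, mem_centralizer_singleton_iff]

/-- elements of orders `r` and `2 r` in the centralizer of an involution -/
theorem exists_two {t : G} (ht : orderOf t = 2) {r : ℕ} (hr : r.Prime) (hr2 : r ≠ 2)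
    (hd : r ∣ Nat.card (centralizer ({t} : Set G))) : ∃ z : G, orderOf z = r ∧ orderOf (z * t) = r * 2 := by
  have : Fact r.Prime := ⟨hr⟩
  obtain ⟨z, hz⟩ := exists_prime_orderOf_dvd_card' (G := centralizer ({t} : Set G)) r hd
  have hz' : orderOf (z : G) = r := by rw [Subgroup.orderOf_coe, hz]
  refine ⟨z, hz', ?_⟩
  have hzt : Commute (z : G) t := mem_centralizer_singleton_iff.1 z.2
  have hcop : (orderOf (z : G)).Coprime (orderOf t) := by
    rw [hz', ht]
    exact (Nat.coprime_primes hr Nat.prime_two).2 hr2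
  rw [hzt.orderOf_mul_eq_mul_orderOf_of_coprime hcop, hz', ht]

theorem not_dvd_two (h : _root_.Cfsg.Agent.H732.VZ.One χ x) {t : G} (ht : orderOf t = 2) {r n : ℕ} (hr : r.Prime) (hr2 : r ≠ 2)
    (h1 : r ^ n ∣ Nat.card G) (h2 : ¬ r ^ (n + 1) ∣ Nat.card G)
    (hd : r ∣ Nat.card (centralizer ({t} : Set G))) : ¬ r ^ n ∣ charDegree (χ : G → ℂ) := by
  obtain ⟨z, hz, hzt⟩ := exists_two ht hr hr2 hd
  refine H604.OZ.not_dvd_deg' h hr h1 h2 (g := z) (g' := z * t) (by rw [hz]) (by rw [hzt]; exact Dvd.intro _ rfl) ?_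
  rw [hz, hzt]
  have := hr.pos
  omega

end gen

namespace Mon

/-- the facts on the Monster -/
structure Facts (G : Type u) [Group G] : Prop where
  card : Nat.card G = NM
  c31 : ∃ z : G, orderOf z = 31 ∧ Nat.card (centralizer ({z} : Set G)) = 186 ∧
    ∀ y y' : G, z * y = y * z → z * y' = y' * z → ¬ 31 ∣ orderOf y → orderOf y = orderOf y' →
      ∃ k : G, z * k = k * z ∧ k * y * k⁻¹ = y'
  c47 : ∃ z : G, orderOf z = 47 ∧ Nat.card (centralizer ({z} : Set G)) = 2 * 47
  c59 : ∃ z : G, orderOf z = 59 ∧ Nat.card (centralizer ({z} : Set G)) = 59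
  c71 : ∃ z : G, orderOf z = 71 ∧ Nat.card (centralizer ({z} : Set G)) = 71
  inv : ∃ t : G, orderOf t = 2 ∧
    3 * 5 * 7 * 11 * 13 * 17 * 19 * 23 * 31 * 47 ∣ Nat.card (centralizer ({t} : Set G))
  e29 : ∃ g : G, 29 ∣ orderOf g ∧ orderOf g ≠ 29

variable {G : Type u} [Group G] [Finite G] {χ : IrrCharacter G} {x : G}

theorem Facts.div (F : Facts G) (h : _root_.Cfsg.Agent.H732.VZ.One χ x) : Div (charDegree (χ : G → ℂ)) := by
  obtain ⟨t, ht, htd⟩ := F.inv
  have key : ∀ (r n : ℕ), r.Prime → r ≠ 2 → r ^ n ∣ NM → ¬ r ^ (n + 1) ∣ NM →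
      r ∣ 3 * 5 * 7 * 11 * 13 * 17 * 19 * 23 * 31 * 47 → ¬ r ^ n ∣ charDegree (χ : G → ℂ) :=
    fun r n hr hr2 h1 h2 hd => not_dvd_two h ht hr hr2 (by rw [F.card]; exact h1) (by rw [F.card]; exact h2)
      (hd.trans htd)
  constructor
  · rw [← F.card]
    exact H604.OZ.deg_dvd χ
  · obtain ⟨z, hz, hzt⟩ := exists_two ht Nat.prime_three (by norm_num) ((by norm_num :
      3 ∣ 3 * 5 * 7 * 11 * 13 * 17 * 19 * 23 * 31 * 47).trans htd)
    exact H604.OZ.not_dvd_deg' h Nat.prime_two (by rw [F.card]; norm_num [NM]) (by rw [F.card]; norm_num [NM])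
      (g := t) (g' := z * t) (by rw [ht]) (by rw [hzt]; norm_num) (by rw [ht, hzt]; norm_num)
  · exact key 3 20 (by norm_num) (by norm_num) (by norm_num [NM]) (by norm_num [NM]) (by norm_num)
  · exact key 5 9 (by norm_num) (by norm_num) (by norm_num [NM]) (by norm_num [NM]) (by norm_num)
  · exact key 7 6 (by norm_num) (by norm_num) (by norm_num [NM]) (by norm_num [NM]) (by norm_num)
  · exact key 11 2 (by norm_num) (by norm_num) (by norm_num [NM]) (by norm_num [NM]) (by norm_num)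
  · exact key 13 3 (by norm_num) (by norm_num) (by norm_num [NM]) (by norm_num [NM]) (by norm_num)
  · exact key 17 1 (by norm_num) (by norm_num) (by norm_num [NM]) (by norm_num [NM]) (by norm_num)
  · exact key 19 1 (by norm_num) (by norm_num) (by norm_num [NM]) (by norm_num [NM]) (by norm_num)
  · exact key 23 1 (by norm_num) (by norm_num) (by norm_num [NM]) (by norm_num [NM]) (by norm_num)
  · obtain ⟨g, hg, hg1⟩ := F.e29
    have : Fact (Nat.Prime 29) := ⟨by norm_num⟩
    obtain ⟨z, hz⟩ := exists_prime_orderOf_dvd_card' (G := G) 29 (by rw [F.card]; norm_num [NM])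
    exact H604.OZ.not_dvd_deg' h (r := 29) (n := 1) (by norm_num) (by rw [F.card]; norm_num [NM])
      (by rw [F.card]; norm_num [NM]) (g := g) (g' := z) hg (by rw [hz]) (by rw [hz]; exact hg1)
  · exact key 31 1 (by norm_num) (by norm_num) (by norm_num [NM]) (by norm_num [NM]) (by norm_num)
  · exact key 47 1 (by norm_num) (by norm_num) (by norm_num [NM]) (by norm_num [NM]) (by norm_num)

/-- **The Monster has no irreducible character vanishing on exactly one class.** -/
theorem no_one [IsSimpleGroup G] (F : Facts G) (h : _root_.Cfsg.Agent.H732.VZ.One χ x) : False := by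
  have h4 : 4 ≤ cent x := H604.OZ.four_le_cent h (by rw [F.card]; norm_num [NM]) (by rw [F.card]; norm_num [NM])
  have D := F.div h
  have hd1 := one_lt_deg h
  -- `x` is regular for the primes 31, 47
  have hreg : ∀ {r c : ℕ} (_ : r.Prime) (_ : r ∣ NM) (_ : ¬ r ^ 2 ∣ NM) {z : G} (_ : orderOf z = r)
      (_ : Nat.card (centralizer ({z} : Set G)) = c) (_ : r < c), ¬ r ∣ orderOf x := by
    intro r c hr hrN hr2 z hz hC hrc
    rcases Nat.lt_or_ge r (cent x) with h1 | h1
    · exact not_dvd_orderOf h (n := 1) hr (by rw [pow_one, F.card]; exact hrN) (by rw [F.card]; exact hr2)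
        (by rwa [pow_one])
    · exact H849.OZ.not_dvd_of_le hr (by rw [F.card]; exact hr2) hz (by rw [hC]; exact hrc) h1
  have h47 : charDegree (χ : G → ℂ) % 47 = 1 ∨ charDegree (χ : G → ℂ) % 47 = 46 := by
    obtain ⟨z, hz, hC⟩ := F.c47
    exact H849.OZ.mod_of_two (p := 47) (by norm_num) (by norm_num) (by rw [F.card]; norm_num [NM])
      (by rw [F.card]; norm_num [NM]) hz hC h
      (hreg (by norm_num) (by norm_num [NM]) (by norm_num [NM]) hz hC (by norm_num)) h4
  have h31 : charDegree (χ : G → ℂ) % 31 = 1 ∨ charDegree (χ : G → ℂ) % 31 = 30 := by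
    obtain ⟨z, hz, hC, hcl⟩ := F.c31
    exact H849.OZ.mod_of_classes (p := 31) (by norm_num) (by norm_num) (by rw [F.card]; norm_num [NM])
      (by rw [F.card]; norm_num [NM]) hz hcl h
      (hreg (by norm_num) (by norm_num [NM]) (by norm_num [NM]) hz hC (by norm_num)) h4
  have hlt : ∀ {r : ℕ} (_ : r.Prime) (_ : r ∣ NM) (_ : ¬ r ^ 2 ∣ NM) (_ : r < cent x),
      charDegree (χ : G → ℂ) % r = 1 ∨ charDegree (χ : G → ℂ) % r = r - 1 := fun hr hrN hr2 hc =>
    mod_of_lt h hr (by rw [F.card]; exact hrN) (by rw [F.card]; exact hr2) hc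
  obtain ⟨z59, hz59, hC59⟩ := F.c59
  obtain ⟨z71, hz71, hC71⟩ := F.c71
  have h59 := H849.OZ.iso (p := 59) (by norm_num) (by norm_num) (by rw [F.card]; norm_num [NM])
    (by rw [F.card]; norm_num [NM]) hz59 hC59 h h4
  have h71 := H849.OZ.iso (p := 71) (by norm_num) (by norm_num) (by rw [F.card]; norm_num [NM])
    (by rw [F.card]; norm_num [NM]) hz71 hC71 h h4
  have fin : charDegree (χ : G → ℂ) ≠ 1 := hd1.ne'
  by_cases hx71 : orderOf x = 71
  · have hc : 71 ≤ cent x := hx71 ▸ orderOf_le_cent x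
    have g59 : charDegree (χ : G → ℂ) % 59 = 1 ∨ charDegree (χ : G → ℂ) % 59 = 58 :=
      hlt (by norm_num) (by norm_num [NM]) (by norm_num [NM]) (by omega)
    rcases h71 with h71 | h71 | ⟨h71, -⟩
    · by_cases h41 : 41 ∣ charDegree (χ : G → ℂ)
      · exact fin (none_41 D h41 g59 (Or.inl h71) h47 h31
          (hlt (by norm_num) (by norm_num [NM]) (by norm_num [NM]) (by omega)))
      · exact fin (none_1 D h41 g59 (Or.inl h71) h47 h31)
    · by_cases h41 : 41 ∣ charDegree (χ : G → ℂ)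
      · exact fin (none_41 D h41 g59 (Or.inr h71) h47 h31
          (hlt (by norm_num) (by norm_num [NM]) (by norm_num [NM]) (by omega)))
      · exact fin (none_1 D h41 g59 (Or.inr h71) h47 h31)
    · exact fin (none_71 D h71 g59 h31
        (hlt (by norm_num) (by norm_num [NM]) (by norm_num [NM]) (by omega))
        (hlt (by norm_num) (by norm_num [NM]) (by norm_num [NM]) (by omega))
        (hlt (by norm_num) (by norm_num [NM]) (by norm_num [NM]) (by omega))
        (hlt (by norm_num) (by norm_num [NM]) (by norm_num [NM]) (by omega))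
        (hlt (by norm_num) (by norm_num [NM]) (by norm_num [NM]) (by omega)) h47)
  · have g71 : charDegree (χ : G → ℂ) % 71 = 1 ∨ charDegree (χ : G → ℂ) % 71 = 70 := by
      rcases h71 with h71 | h71 | ⟨-, h71, -⟩
      · exact Or.inl h71
      · exact Or.inr h71
      · exact absurd h71 hx71
    rcases h59 with h59 | h59 | ⟨h59, hx59, -⟩
    · by_cases h41 : 41 ∣ charDegree (χ : G → ℂ)
      · have hx41 : orderOf x = 41 := by
          have : Fact (Nat.Prime 41) := ⟨by norm_num⟩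
          obtain ⟨z, hz⟩ := exists_prime_orderOf_dvd_card' (G := G) 41 (by rw [F.card]; norm_num [NM])
          rw [H604.OZ.orderOf_eq_of_conj (H604.OZ.conj_of_singular h (r := 41) (n := 1) (by norm_num)
            (by rw [F.card]; norm_num [NM]) (by rw [F.card]; norm_num [NM]) (by rwa [pow_one])
            (g := z) (by rw [hz])), hz]
        have hc : 41 ≤ cent x := hx41 ▸ orderOf_le_cent x
        exact fin (none_41 D h41 (Or.inl h59) g71 h47 h31
          (hlt (by norm_num) (by norm_num [NM]) (by norm_num [NM]) (by omega)))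
      · exact fin (none_1 D h41 (Or.inl h59) g71 h47 h31)
    · by_cases h41 : 41 ∣ charDegree (χ : G → ℂ)
      · have hx41 : orderOf x = 41 := by
          have : Fact (Nat.Prime 41) := ⟨by norm_num⟩
          obtain ⟨z, hz⟩ := exists_prime_orderOf_dvd_card' (G := G) 41 (by rw [F.card]; norm_num [NM])
          rw [H604.OZ.orderOf_eq_of_conj (H604.OZ.conj_of_singular h (r := 41) (n := 1) (by norm_num)
            (by rw [F.card]; norm_num [NM]) (by rw [F.card]; norm_num [NM]) (by rwa [pow_one])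
            (g := z) (by rw [hz])), hz]
        have hc : 41 ≤ cent x := hx41 ▸ orderOf_le_cent x
        exact fin (none_41 D h41 (Or.inr h59) g71 h47 h31
          (hlt (by norm_num) (by norm_num [NM]) (by norm_num [NM]) (by omega)))
      · exact fin (none_1 D h41 (Or.inr h59) g71 h47 h31)
    · have hc : 59 ≤ cent x := hx59 ▸ orderOf_le_cent x
      exact fin (none_59 D h59 (hlt (by norm_num) (by norm_num [NM]) (by norm_num [NM]) (by omega)) g71 h47 h31
        (hlt (by norm_num) (by norm_num [NM]) (by norm_num [NM]) (by omega)))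

end Mon

end Cfsg.Agent.H733.OZ
end

-- part: H733/OZ/RowMOf
section
/-!
# The row of the Monster of S4842, from the list of the simple groups and S3331 (helper733)

`facts` : the orders of the centralizers of the elements of orders 31, 47, 59, 71 and of a transposition;
`row_m_of` : the row.
-/

set_option autoImplicit false

namespace Cfsg.Agent.H733.OZ.Mon

open Cfsg Cfsg.Agent.MonsterX
open Subgroup (centralizer zpowers mem_centralizer_singleton_iff)

universe u

variable {S : Type u} [Group S]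

/-- the classes of the elements of order prime to 31 commuting with an element of order 31 -/
theorem cls31 (h3 : Cfsg.Agent.H715.Mon.Grp.SThree.{0}) (h : Spor.IsoM S) {z : S} (hz : orderOf z = 31)
    (y y' : S) (hy : z * y = y * z) (hy' : z * y' = y' * z) (hyr : ¬ 31 ∣ orderOf y)
    (hyy : orderOf y = orderOf y') : ∃ k : S, z * k = k * z ∧ k * y * k⁻¹ = y' := by
  obtain ⟨f⟩ := h
  obtain ⟨g⟩ := Cfsg.Agent.MonsterP.Equiv.equiv
  set e : S ≃* ↥InstData.M.G := f.trans g with he
  have hfin : Finite ↥InstData.M.G := Cfsg.Agent.H444.FprM.finite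
  obtain ⟨h6, hne⟩ := Cfsg.Agent.H715.Mon.Norm.ne31 h3 (y := e z) (by rw [MulEquiv.orderOf_eq, hz])
  refine classes_congr e (r := 31) ?_ y y' hy hy' hyr hyy
  refine classes_of (by norm_num) (by rw [MulEquiv.orderOf_eq, hz])
    (QuotientGroup.mk' (Cfsg.Agent.LThreeMB.Zx (e z))) (QuotientGroup.mk'_surjective _) (fun k hk => ?_)
    fun a b hab => six_conj h6 hne hab
  rw [QuotientGroup.mk'_apply, QuotientGroup.eq_one_iff] at hk
  obtain ⟨i, hi⟩ := hk
  exact ⟨i, congrArg Subtype.val hi⟩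

/-- **The facts on the Monster.** -/
theorem facts (hK : Cfsg.Agent.H995.CopEngine.AllKnown.{0}) (h3 : Cfsg.Agent.H715.Mon.Grp.SThree.{0})
    (h : Spor.IsoM S) : Facts S := by
  have hfin : Finite S := Cfsg.Agent.H715.Mon.Norm.finM h
  have hcard : Nat.card S = NM := Cfsg.Agent.H715.Mon.Norm.cardM h
  have key : ∀ {r n : ℕ}, r.Prime → r ∣ NM →
      (∀ y : ↥InstData.M.G, orderOf y = r → Nat.card (centralizer ({y} : Set ↥InstData.M.G)) = n) →
      ∃ z : S, orderOf z = r ∧ Nat.card (centralizer ({z} : Set S)) = n := by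
    intro r n hr hd hm
    have : Fact r.Prime := ⟨hr⟩
    obtain ⟨z, hz⟩ := exists_prime_orderOf_dvd_card' (G := S) r (by rw [hcard]; exact hd)
    exact ⟨z, hz, Cfsg.Agent.H715.Mon.Exact.transport h hm hz⟩
  refine ⟨hcard, ?_, ?_, ?_, ?_, ?_, ?_⟩
  · have : Fact (Nat.Prime 31) := ⟨by norm_num⟩
    obtain ⟨z, hz⟩ := exists_prime_orderOf_dvd_card' (G := S) 31 (by rw [hcard]; norm_num [NM])
    exact ⟨z, hz, (Cfsg.Agent.H715.Mon.Exact.M.cent31 h3 h hz).trans (by norm_num),
      fun y y' hy hy' hyr hyy => cls31 h3 h hz y y' hy hy' hyr hyy⟩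
  · exact key (by norm_num) (by norm_num [NM]) fun y hy =>
      (Cfsg.Agent.H436.MonLoc.card47 hK hy).trans (by norm_num)
  · exact key (by norm_num) (by norm_num [NM]) fun y hy => Cfsg.Agent.H568.SC.Mon.sc_model hK y hy
  · refine key (by norm_num) (by norm_num [NM]) fun y hy => (Cfsg.Agent.H58.Mon71.norm71 hK ?_ ?_ hy).1
    · intro w hw
      rw [Cfsg.Agent.H715.Mon.Exact.card23 h3 hw]
      norm_num
    · intro w hw
      rw [Cfsg.Agent.H626.LD.TwentyNine.card_cent hw]
      norm_num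
  · obtain ⟨D, ⟨d, hd⟩, -, h2, -, hc⟩ := Cfsg.Agent.H568.SC.Mon.exists_transp
    obtain ⟨f⟩ := h
    obtain ⟨g⟩ := Cfsg.Agent.MonsterP.Equiv.equiv
    set e : ↥InstData.M.G ≃* S := (f.trans g).symm with he
    refine ⟨e d, by rw [MulEquiv.orderOf_eq, h2 d hd], ?_⟩
    rw [← Cfsg.Agent.LThreeB.card_centralizer_congr e d, hc d hd]
    norm_num
  · obtain ⟨u, y, hu, hy, huy, -⟩ := Cfsg.Agent.H149.Sp.exists_m_of_iso h
    have h1 : orderOf (u * y) = 29 * 3 := by
      rw [(show Commute u y from huy).orderOf_mul_eq_mul_orderOf_of_coprime (by rw [hu, hy]; norm_num), hu, hy]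
    exact ⟨u * y, by rw [h1]; norm_num, by rw [h1]; norm_num⟩

/-- **The row of the Monster.** -/
theorem row_m_of (hK : Cfsg.Agent.H995.CopEngine.AllKnown.{0}) (h3 : Cfsg.Agent.H715.Mon.Grp.SThree.{0})
    [Finite S] (hs : IsSimpleGroup S) (h : Spor.IsoM S) : Cfsg.Agent.H730.OZ.Row S :=
  H604.OZ.row_of fun _ _ ho => no_one (facts hK h3 h) ho

end Cfsg.Agent.H733.OZ.Mon
end

private theorem dce_7dab2fe985ab : _root_.True := by
  try have : _root_.True := by simp only [_root_.Cfsg.Agent.H733.OZ.Mon.chk.eq_1]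
  try have : _root_.True := by simp only [_root_.Cfsg.Agent.H733.OZ.Mon.okm.eq_1]
  try have : _root_.True := by simp only [_root_.Cfsg.Agent.H257.OZ.McLF.iv9.eq_1]
  try have : _root_.True := by simp only [_root_.Cfsg.Agent.H733.OZ.Mon.NM.eq_1]
  exact _root_.True.intro
end
end
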